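import Cfsg.Agent.Lib.Frobenius.FixedDim
import Cfsg.Agent.Lib.Solvable.CoprimeAction
import Mathlib.GroupTheory.QuotientGroup.Basic

/-!
Wielandt's fixed-point formula for a Frobenius group acting coprimely on a solvable group.
-/

set_option autoImplicit false

namespace CfsgLib.OddChar.Wielandt

universe u

theorem card_eq_map_mul {A B : Type*} [Group A] [Group B] (f : A →* B) (S : Subgroup A) :
    Nat.card S = Nat.card (S.map f) * Nat.card ↥(f.ker ⊓ S) := by
  have h := (f.comp S.subtype).ker.card_mul_index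
  rw [Subgroup.index_ker, MonoidHom.range_comp, S.range_subtype,
    show (f.comp S.subtype).ker = f.ker.subgroupOf S from rfl] at h
  rw [← h, mul_comm, ← Subgroup.inf_subgroupOf_right,
    Nat.card_congr (Subgroup.subgroupOfEquivOfLe (inf_le_right : f.ker ⊓ S ≤ S)).toEquiv]

variable {X : Type u} [Group X]

/-- A nontrivial solvable subgroup contains an abelian subgroup of prime exponent which is
invariant under its normaliser. -/
theorem exists_layer [Finite X] (H : Subgroup X) (hH : H ≠ ⊥) (hsolv : Group.IsSolvable H) :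
    ∃ (p : ℕ) (V : Subgroup X), p.Prime ∧ V ≤ H ∧ V ≠ ⊥ ∧ IsMulCommutative V ∧
      (∀ v ∈ V, v ^ p = 1) ∧
      Subgroup.normalizer (H : Set X) ≤ Subgroup.normalizer (V : Set X) := by
  classical
  have hex : ∃ n, derivedSeries H n = ⊥ := Group.IsSolvable.solvable
  set k := Nat.find hex with hk
  have hk0 : k ≠ 0 := by
    intro h
    have h0 := Nat.find_spec hex
    rw [← hk, h, derivedSeries_zero] at h0
    haveI := (Subgroup.nontrivial_iff_ne_bot H).2 hH
    exact top_ne_bot h0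
  obtain ⟨j, hj⟩ := Nat.exists_eq_succ_of_ne_zero hk0
  set A := derivedSeries H j with hA
  have hA1 : A ≠ ⊥ := fun h => Nat.find_min hex (by rw [← hk, hj]; exact Nat.lt_succ_self j) h
  have hA2 : ⁅A, A⁆ = ⊥ := by
    have h0 := Nat.find_spec hex
    rw [← hk, hj, derivedSeries_succ] at h0
    exact h0
  have hcomm : ∀ a ∈ A, ∀ b ∈ A, a * b = b * a := fun a ha b hb =>
    commutatorElement_eq_one_iff_mul_comm.1 (by
      rw [← Subgroup.mem_bot, ← hA2]; exact Subgroup.commutator_mem_commutator ha hb)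
  obtain ⟨p, hp, hpd⟩ := Nat.exists_prime_and_dvd (n := Nat.card A)
    (fun h => hA1 (Subgroup.card_eq_one.1 h))
  haveI := Fact.mk hp
  let V₀ : Subgroup H :=
    { carrier := {a | a ∈ A ∧ a ^ p = 1}
      one_mem' := ⟨one_mem _, one_pow p⟩
      mul_mem' := fun {a b} ha hb => ⟨mul_mem ha.1 hb.1, by
        rw [(show Commute a b from hcomm a ha.1 b hb.1).mul_pow, ha.2, hb.2, one_mul]⟩
      inv_mem' := fun {a} ha => ⟨inv_mem ha.1, by rw [inv_pow, ha.2, inv_one]⟩ }
  refine ⟨p, V₀.map H.subtype, hp, Subgroup.map_subtype_le _, ?_, ?_, ?_, ?_⟩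
  · obtain ⟨x, hx⟩ := exists_prime_orderOf_dvd_card' (G := A) p hpd
    rw [← Subgroup.orderOf_coe] at hx
    intro h
    rw [Subgroup.map_eq_bot_iff_of_injective _ H.subtype_injective] at h
    have hm : (x : H) ∈ V₀ := ⟨x.2, by rw [← hx, pow_orderOf_eq_one]⟩
    rw [h, Subgroup.mem_bot] at hm
    rw [hm, orderOf_one] at hx
    exact hp.one_lt.ne hx
  · refine ⟨⟨?_⟩⟩
    rintro ⟨_, a, ha, rfl⟩ ⟨_, b, hb, rfl⟩
    exact Subtype.ext (congrArg (fun x : H => (x : X)) (hcomm a ha.1 b hb.1))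
  · rintro _ ⟨a, ha, rfl⟩
    exact congrArg Subtype.val ha.2
  · rw [Subgroup.le_normalizer_iff]
    rintro g hg _ ⟨a, ha, rfl⟩
    refine ⟨H.normalizerMonoidHom ⟨g, hg⟩ a, ⟨?_, by rw [← map_pow, ha.2, map_one]⟩, rfl⟩
    have h := Subgroup.characteristic_iff_le_comap.1 (inferInstance : A.Characteristic)
      (H.normalizerMonoidHom ⟨g, hg⟩)
    exact h ha.1

variable [Finite X]

theorem formula_aux (n : ℕ) : ∀ {X : Type u} [Group X] [Finite X] (U E H : Subgroup X),
    Nat.card H ≤ n → U ≠ ⊥ → E ≠ ⊥ → U ⊓ E = ⊥ → E ≤ Subgroup.normalizer (U : Set X) →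
    (∀ e ∈ E, e ≠ 1 → ∀ u ∈ U, e * u = u * e → u = 1) →
    U ⊔ E ≤ Subgroup.normalizer (H : Set X) → Group.IsSolvable H →
    Nat.Coprime (Nat.card H) (Nat.card ↥(U ⊔ E)) →
    Nat.card ↥(H ⊓ Subgroup.centralizer ((U ⊔ E : Subgroup X) : Set X)) ^ Nat.card E * Nat.card H =
      Nat.card ↥(H ⊓ Subgroup.centralizer (E : Set X)) ^ Nat.card E *
        Nat.card ↥(H ⊓ Subgroup.centralizer (U : Set X)) := by
  induction n with
  | zero => intro X _ _ U E H h; exact absurd h (Nat.card_pos (α := H)).not_ge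
  | succ n ih =>
  intro X _ _ U E H hn hU1 hE1 hUE hUn hfpf hWH hsolv hcop
  by_cases hH : H = ⊥
  · subst hH; simp
  obtain ⟨p, V, hp, hVH, hV1, hVc, hVp, hNV⟩ := exists_layer H hH hsolv
  haveI := Fact.mk hp
  set W := U ⊔ E with hW
  set M := Subgroup.normalizer (V : Set X) with hM
  have hWM : W ≤ M := hWH.trans hNV
  have hHM : H ≤ M := Subgroup.le_normalizer.trans hNV
  haveI : (V.subgroupOf M).Normal := Subgroup.normal_in_normalizer
  set π := QuotientGroup.mk' (V.subgroupOf M) with hπ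
  let q : Subgroup X → Subgroup (↥M ⧸ V.subgroupOf M) := fun S => (S.subgroupOf M).map π
  have hcopV : Nat.Coprime (Nat.card V) (Nat.card W) :=
    hcop.coprime_dvd_left (Subgroup.card_dvd_of_le hVH)
  have hdisjV : ∀ w ∈ W, w ∈ V → w = 1 := fun w hw hv =>
    Subgroup.disjoint_def.1 (Subgroup.disjoint_of_coprime_natCard hcopV) hv hw
  have hqinj : ∀ S, S ≤ W → Nat.card (q S) = Nat.card S := by
    intro S hS
    have hbot : π.ker ⊓ S.subgroupOf M = ⊥ := by
      rw [eq_bot_iff]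
      rintro x ⟨hx1, hx2⟩
      rw [hπ, QuotientGroup.ker_mk'] at hx1
      exact Subtype.ext (hdisjV _ (hS hx2) hx1)
    have h := card_eq_map_mul π (S.subgroupOf M)
    rw [hbot, Subgroup.card_bot, mul_one,
      Nat.card_congr (Subgroup.subgroupOfEquivOfLe (hS.trans hWM)).toEquiv] at h
    exact h.symm
  have key : ∀ S, S ≤ W → Nat.card ↥(H ⊓ Subgroup.centralizer (S : Set X)) =
      Nat.card ↥(V ⊓ Subgroup.centralizer (S : Set X)) *
        Nat.card ↥(q H ⊓ Subgroup.centralizer (q S : Set _)) := by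
    intro S hS
    set T := (H ⊓ Subgroup.centralizer (S : Set X)).subgroupOf M with hT
    have hmap : T.map π = q H ⊓ Subgroup.centralizer (q S : Set _) := by
      refine le_antisymm (fun _ hx => ?_) ?_
      · obtain ⟨x, hx, rfl⟩ := hx
        refine ⟨⟨x, hx.1, rfl⟩, ?_⟩
        rintro _ ⟨s, hs, rfl⟩
        rw [← map_mul, ← map_mul]
        exact congrArg π (Subtype.ext (hx.2 _ hs))
      · rintro _ ⟨⟨x, hxH, rfl⟩, hc⟩
        have hxd : ∀ s ∈ S, (x : X)⁻¹ * (s * x * s⁻¹) ∈ V := by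
          intro s hs
          have h1 := hc (π ⟨s, hWM (hS hs)⟩) ⟨⟨s, hWM (hS hs)⟩, hs, rfl⟩
          have h2 : π (x⁻¹ * (⟨s, hWM (hS hs)⟩ * x * (⟨s, hWM (hS hs)⟩ : M)⁻¹)) = 1 := by
            rw [map_mul, map_mul, map_mul, h1, map_inv, map_inv]
            group
          have h3 := (QuotientGroup.eq_one_iff _).1 h2
          exact h3
        obtain ⟨d, hd, hxd'⟩ := CfsgLib.Solvable.exists_fixed_mem_coset (A := S) (K := H) (D := V)
          (hS.trans hWH) hVH (hS.trans hWM)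
          ((hcop.coprime_dvd_right (Subgroup.card_dvd_of_le hS)).symm)
          (Or.inr (Group.isSolvable_of_comm fun a b => hVc.is_comm.comm a b)) hxH hxd
        refine ⟨x * ⟨d, hHM (hVH hd)⟩, hxd', ?_⟩
        rw [map_mul, show π ⟨d, hHM (hVH hd)⟩ = 1 from (QuotientGroup.eq_one_iff _).2 hd, mul_one]
    have h := card_eq_map_mul π T
    have hker : π.ker ⊓ T = (V ⊓ Subgroup.centralizer (S : Set X)).subgroupOf M := by
      rw [hπ, QuotientGroup.ker_mk']
      ext x
      exact ⟨fun h => ⟨h.1, h.2.2⟩, fun h => ⟨h.1, hVH h.1, h.2⟩⟩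
    rw [hmap, hker, Nat.card_congr (Subgroup.subgroupOfEquivOfLe
      (inf_le_left.trans hHM)).toEquiv, Nat.card_congr (Subgroup.subgroupOfEquivOfLe
      (inf_le_left.trans (hVH.trans hHM))).toEquiv] at h
    rw [h, mul_comm]
  have hqW : q U ⊔ q E = q W := by
    simp only [q, hW, ← Subgroup.map_sup,
      ← Subgroup.subgroupOf_sup (le_sup_left.trans hWM) (le_sup_right.trans hWM)]
  have hVcard : Nat.card H = Nat.card V * Nat.card (q H) := by
    have h := card_eq_map_mul π (H.subgroupOf M)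
    have hker : π.ker ⊓ H.subgroupOf M = V.subgroupOf M := by
      rw [hπ, QuotientGroup.ker_mk']
      exact inf_eq_left.2 fun x hx => hVH hx
    rw [hker, Nat.card_congr (Subgroup.subgroupOfEquivOfLe hHM).toEquiv,
      Nat.card_congr (Subgroup.subgroupOfEquivOfLe (hVH.trans hHM)).toEquiv] at h
    rw [h, mul_comm]
  have hEc : Nat.card (q E) = Nat.card E := hqinj E le_sup_right
  have hnorm : ∀ A B : Subgroup X, A ≤ M → A ≤ Subgroup.normalizer (B : Set X) →
      q A ≤ Subgroup.normalizer (q B : Set _) := by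
    intro A B hA hAB
    rw [Subgroup.le_normalizer_iff]
    rintro _ ⟨a, ha, rfl⟩ _ ⟨b, hb, rfl⟩
    exact ⟨a * b * a⁻¹, Subgroup.le_normalizer_iff.1 hAB (a : X) ha (b : X) hb, by simp⟩
  have ihq := ih (q U) (q E) (q H)
    (by
      have h1 : 1 < Nat.card V := (Subgroup.one_lt_card_iff_ne_bot V).2 hV1
      have h2 := Nat.card_pos (α := q H)
      nlinarith [hVcard])
    (fun h => hU1 (Subgroup.card_eq_one.1 (by rw [← hqinj U le_sup_left, h, Subgroup.card_bot])))
    (fun h => hE1 (Subgroup.card_eq_one.1 (by rw [← hEc, h, Subgroup.card_bot])))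
    (by
      rw [eq_bot_iff]
      rintro _ ⟨⟨u, hu, rfl⟩, ⟨e, he, hue⟩⟩
      have h1 : (u : X)⁻¹ * e ∈ V :=
        (QuotientGroup.eq_one_iff (u⁻¹ * e)).1 (show π (u⁻¹ * e) = 1 by
          rw [map_mul, map_inv, hue, inv_mul_cancel])
      have h2 := hdisjV _ (mul_mem (inv_mem (le_sup_left (b := E) hu)) (le_sup_right (a := U) he)) h1
      have h2' : (u : X) = (e : X) := inv_mul_eq_one.1 h2
      have h3 : (u : X) ∈ U ⊓ E := ⟨hu, by rw [h2']; exact he⟩
      rw [hUE, Subgroup.mem_bot] at h3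
      rw [Subgroup.mem_bot, show u = 1 from Subtype.ext h3, map_one])
    (hnorm E U (le_sup_right.trans hWM) hUn)
    (by
      rintro _ ⟨e, he, rfl⟩ he1 _ ⟨u, hu, rfl⟩ hcom
      have h1 : ((e * u)⁻¹ * (u * e) : M) ∈ V.subgroupOf M :=
        (QuotientGroup.eq_one_iff _).1 (show π ((e * u)⁻¹ * (u * e)) = 1 by
          rw [map_mul, map_inv, map_mul, map_mul, hcom, inv_mul_cancel])
      have heW : (e : X) ∈ W := le_sup_right (a := U) he
      have huW : (u : X) ∈ W := le_sup_left (b := E) hu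
      have h2 := hdisjV _ (mul_mem (inv_mem (mul_mem heW huW)) (mul_mem huW heW)) h1
      rw [inv_mul_eq_one] at h2
      have h3 := hfpf e he (fun h => he1 (by rw [show e = 1 from Subtype.ext h, map_one])) u hu h2
      rw [show u = 1 from Subtype.ext h3, map_one])
    (hqW ▸ hnorm W H hWM hWH)
    (by
      haveI := hsolv
      have hr : (π.comp (Subgroup.inclusion hHM)).range = q H := by
        rw [MonoidHom.range_comp, Subgroup.inclusion_range]
      rw [← hr]
      exact Group.isSolvable_of_surjective (MonoidHom.rangeRestrict_surjective _))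
    (by
      rw [hqW, hqinj W le_rfl]
      exact hcop.coprime_dvd_left ⟨Nat.card V, by rw [hVcard, mul_comm]⟩)
  rw [hqW, hEc] at ihq
  have hab := CfsgLib.Frobenius.frobenius_fixed_card (ℓ := p) (V := V) (K := U) (R := E) hVc hVp
    (le_sup_left.trans hWM) (le_sup_right.trans hWM) hUn hU1 hE1 hUE
    (fun e he he1 => by
      rw [eq_bot_iff]
      rintro u ⟨hu, huc⟩
      exact Subgroup.mem_bot.2
        (hfpf e he he1 u hu (Subgroup.mem_centralizer_singleton_iff.1 huc).symm))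
    (fun h => hp.one_lt.ne' (Nat.eq_one_of_dvd_coprimes hcopV (by
      obtain ⟨v, hv, hv1⟩ := (Subgroup.bot_or_exists_ne_one V).resolve_left hV1
      rw [← orderOf_eq_prime (hVp v hv) hv1]
      exact Subgroup.orderOf_dvd_natCard V hv) h))
  rw [key W le_rfl, key E le_sup_right, key U le_sup_left, hVcard, mul_pow, mul_pow,
    mul_mul_mul_comm, hab, ihq, mul_mul_mul_comm]

theorem fixed_point_formula (U E H : Subgroup X)
    (hU1 : U ≠ ⊥) (hE1 : E ≠ ⊥) (hUE : U ⊓ E = ⊥)
    (hUn : E ≤ Subgroup.normalizer (U : Set X))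
    (hfpf : ∀ e ∈ E, e ≠ 1 → ∀ u ∈ U, e * u = u * e → u = 1)
    (hWH : U ⊔ E ≤ Subgroup.normalizer (H : Set X)) (hsolv : Group.IsSolvable H)
    (hcop : Nat.Coprime (Nat.card H) (Nat.card ↥(U ⊔ E))) :
    Nat.card ↥(H ⊓ Subgroup.centralizer ((U ⊔ E : Subgroup X) : Set X)) ^ Nat.card E * Nat.card H =
      Nat.card ↥(H ⊓ Subgroup.centralizer (E : Set X)) ^ Nat.card E *
        Nat.card ↥(H ⊓ Subgroup.centralizer (U : Set X)) :=
  formula_aux _ U E H le_rfl hU1 hE1 hUE hUn hfpf hWH hsolv hcop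

end CfsgLib.OddChar.Wielandt
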