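import Cfsg.Prelude.Def_OddOrderLocal
import Cfsg.Agent.S0042
import Cfsg.Agent.Lib.Frobenius.Basic
import Cfsg.Agent.Lib.Solvable.Basic
import Cfsg.Agent.Lib.Transfer.PGroup

/-!
The kernel of a Frobenius group is its largest normal nilpotent Hall subgroup.
-/

set_option autoImplicit false

namespace CfsgLib.OddChar.FrobKernelHall

open Subgroup

variable {Γ : Type*} [Group Γ] [Finite Γ]

theorem frobeniusKernel_eq_fittingHall {E : Subgroup Γ} (hE : Cfsg.IsFrobeniusComplement E) :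
    Cfsg.frobeniusKernel E = ((Cfsg.fittingHall Γ : Subgroup Γ) : Set Γ) := by
  obtain ⟨N, hN, hNn, hNnil⟩ := Cfsg.Agent.S0042.result E hE
  haveI := hNn
  obtain ⟨-, hc⟩ := CfsgLib.Frobenius.normal_isComplement'_of_coe_eq hE hN
  rw [← hN]
  refine congrArg _ (le_antisymm (le_sSup ⟨hNn, hNnil, ?_⟩) ?_)
  · rw [hc.symm.index_eq_card]
    have h := CfsgLib.Frobenius.coprime_card_index hE
    rw [hc.index_eq_card] at h
    exact h.symm
  intro x hx
  set F := Cfsg.fittingHall Γ with hF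
  have hNF : N ≤ F := le_sSup ⟨hNn, hNnil, by
    rw [hc.symm.index_eq_card]
    have h := CfsgLib.Frobenius.coprime_card_index hE
    rw [hc.index_eq_card] at h
    exact h.symm⟩
  haveI hFnil : Group.IsNilpotent F := by
    haveI := CfsgLib.Solvable.fittingSubgroup_isNilpotent Γ
    have hle : F ≤ Cfsg.fittingSubgroup Γ := sSup_le_sSup fun N hN => ⟨hN.1, hN.2.1⟩
    exact Group.nilpotent_of_mulEquiv (subgroupOfEquivOfLe hle)
  by_contra hxN
  -- an element of `F ∩ E`
  obtain ⟨⟨n, e⟩, hne⟩ := hc.2 x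
  simp only at hne
  have heF : (e : Γ) ∈ F := by
    have : (e : Γ) = (n : Γ)⁻¹ * x := by rw [← hne]; group
    rw [this]; exact mul_mem (inv_mem (hNF n.2)) hx
  have he1 : (e : Γ) ≠ 1 := fun h => hxN (by rw [← hne, h, mul_one]; exact n.2)
  have hN1 : N ≠ ⊥ := fun h => by
    have h2 := hc.card_mul_card
    rw [h, Subgroup.card_bot, one_mul] at h2
    exact hE.2.1 (Subgroup.card_eq_iff_eq_top E |>.1 h2)
  haveI : (N.subgroupOf F).Normal := inferInstance
  have hNF1 : N.subgroupOf F ≠ ⊥ := fun h => hN1 (by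
    have := disjoint_iff.1 (subgroupOf_eq_bot.1 h)
    rwa [inf_eq_left.2 hNF] at this)
  obtain ⟨z, hz, hz1⟩ := (N.subgroupOf F ⊓ Subgroup.center F).bot_or_exists_ne_one.resolve_left
    (CfsgLib.Transfer.inf_center_ne_bot hNF1)
  have hfix := CfsgLib.Frobenius.fpf_of_isFrobeniusComplement hc hE e.2 he1
  have hcomm : (z : Γ) * e = e * z :=
    congrArg Subtype.val (Subgroup.mem_center_iff.1 hz.2 ⟨e, heF⟩).symm
  have : (z : Γ) ∈ N ⊓ centralizer ({(e : Γ)} : Set Γ) :=
    mem_inf.2 ⟨hz.1, mem_centralizer_singleton_iff.2 hcomm⟩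
  rw [hfix, mem_bot] at this
  exact hz1 (Subtype.ext this)

end CfsgLib.OddChar.FrobKernelHall
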