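import Cfsg.Agent.Lib.OddChar.MaxTypes

/-!
The Dade hypothesis for the sets of a maximal subgroup, from Theorem II of Bender-Glauberman section 16.
-/

set_option autoImplicit false

namespace CfsgLib.OddChar.MaxTypes

open Subgroup

variable {G : Type*} [Group G] [Finite G] {M : Subgroup G}

/-- The content of Theorem II of Bender-Glauberman used for the Dade hypothesis. -/
structure SupportData (M : Subgroup G) (X : Set G) : Prop where
  fusion : ∀ x ∈ X, ∀ g : G, g * x * g⁻¹ ∈ X → ∃ m ∈ M, m * x * m⁻¹ = g * x * g⁻¹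
  unique : ∀ x ∈ X, ¬ centralizer ({x} : Set G) ≤ M →
    x ∈ Cfsg.typeA1 M ∧ ∃! L : Subgroup G, IsCoatom L ∧ centralizer ({x} : Set G) ≤ L
  split : ∀ x ∈ X, ¬ centralizer ({x} : Set G) ≤ M → ∀ L : Subgroup G, IsCoatom L →
    centralizer ({x} : Set G) ≤ L →
      centralizer ({x} : Set G) ≤
          normalizer ((Cfsg.fittingHallOf L ⊓ centralizer ({x} : Set G) : Subgroup G) : Set G) ∧
      Cfsg.IsComplIn (Cfsg.fittingHallOf L ⊓ centralizer ({x} : Set G))
        (M ⊓ centralizer ({x} : Set G)) (centralizer ({x} : Set G)) ∧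
      ∀ y ∈ X, (Nat.card (Cfsg.fittingHallOf L)).Coprime
        (Nat.card ↥(M ⊓ centralizer ({y} : Set G)))

omit [Finite G] in
theorem supportR_of_le {x : G} (h : centralizer ({x} : Set G) ≤ M) :
    Cfsg.supportR M x = ⊥ :=
  dif_neg fun h' => h'.1 h

omit [Finite G] in
theorem supportR_of_not_le {L : Subgroup G} {x : G} (hx : ¬ centralizer ({x} : Set G) ≤ M)
    (hu : ∃! L : Subgroup G, IsCoatom L ∧ centralizer ({x} : Set G) ≤ L)
    (hL : IsCoatom L) (hCL : centralizer ({x} : Set G) ≤ L) :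
    Cfsg.supportR M x = Cfsg.fittingHallOf L ⊓ centralizer ({x} : Set G) := by
  have h : ¬ centralizer ({x} : Set G) ≤ M ∧
      ∃! L : Subgroup G, IsCoatom L ∧ centralizer ({x} : Set G) ≤ L := ⟨hx, hu⟩
  rw [Cfsg.supportR, dif_pos h]
  rw [hu.unique (Classical.choose_spec h.2.exists) ⟨hL, hCL⟩]

theorem dadeHypothesis {A X : Set G} (hAX : A ⊆ X) (hsub : A ⊆ (M : Set G)) (h1 : (1 : G) ∉ A)
    (hinv : ∀ x ∈ M, ∀ a ∈ A, x * a * x⁻¹ ∈ A) (h : SupportData M X) :
    Cfsg.DadeHypothesis A M (Cfsg.supportR M) := by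
  have key : ∀ a ∈ A,
      Cfsg.supportR M a ≤ centralizer ({a} : Set G) ∧
      (∀ c ∈ centralizer ({a} : Set G), ∀ u ∈ Cfsg.supportR M a, c * u * c⁻¹ ∈ Cfsg.supportR M a) ∧
      Cfsg.supportR M a ⊓ (M ⊓ centralizer ({a} : Set G)) = ⊥ ∧
      Cfsg.supportR M a ⊔ (M ⊓ centralizer ({a} : Set G)) = centralizer ({a} : Set G) ∧
      ∀ b ∈ A, (Nat.card (Cfsg.supportR M a)).Coprime
        (Nat.card ↥(M ⊓ centralizer ({b} : Set G))) := by
    intro a ha
    by_cases hC : centralizer ({a} : Set G) ≤ M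
    · rw [supportR_of_le hC]
      refine ⟨bot_le, fun c _ u hu => ?_, bot_inf_eq _, by rw [bot_sup_eq, inf_eq_right.2 hC],
        fun b _ => by rw [Subgroup.card_bot]; exact Nat.coprime_one_left _⟩
      rw [Subgroup.mem_bot] at hu ⊢
      rw [hu]; group
    · obtain ⟨-, hu⟩ := h.unique a (hAX ha) hC
      obtain ⟨L, hL, hCL⟩ := hu.exists
      obtain ⟨hn, hcompl, hco⟩ := h.split a (hAX ha) hC L hL hCL
      rw [supportR_of_not_le hC hu hL hCL]
      refine ⟨inf_le_right, fun c hc u hu' => (mem_normalizer_iff.1 (hn hc) u).1 hu', hcompl.2.2.1,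
        le_antisymm (sup_le inf_le_right inf_le_right) fun c hc => ?_, fun b hb => ?_⟩
      · obtain ⟨r, hr, s, hs, rfl⟩ := hcompl.2.2.2 c hc
        exact mul_mem_sup hr hs
      · exact (hco b (hAX hb)).coprime_dvd_left (card_dvd_of_le inf_le_left)
  exact ⟨h1, hsub, hinv, fun a ha g hg => h.fusion a (hAX ha) g (hAX hg),
    fun a ha => (key a ha).1, fun a ha => (key a ha).2.1, fun a ha => (key a ha).2.2.1,
    fun a ha => (key a ha).2.2.2.1, fun a ha => (key a ha).2.2.2.2⟩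

/-- A subset of non-identity elements with all centralisers in `M` and `M`-controlled fusion is TI. -/
theorem isTISubset {A : Set G} (hN : normalizer A = M)
    (hC : ∀ a ∈ A, centralizer ({a} : Set G) ≤ M)
    (hfus : ∀ x ∈ A, ∀ g : G, g * x * g⁻¹ ∈ A → ∃ m ∈ M, m * x * m⁻¹ = g * x * g⁻¹) :
    Cfsg.IsTISubset A := by
  intro g hg a ha hga
  exfalso
  apply hg
  rw [hN]
  obtain ⟨m, hm, e⟩ := hfus a ha g hga
  have hc : m⁻¹ * g ∈ centralizer ({a} : Set G) := by
    rw [mem_centralizer_singleton_iff]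
    calc m⁻¹ * g * a = m⁻¹ * (g * a * g⁻¹) * g := by group
      _ = _ := by rw [← e]; group
  simpa using mul_mem hm (hC a ha hc)

end CfsgLib.OddChar.MaxTypes
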