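import Cfsg.Prelude.Def_OddOrderLocal
import Cfsg.Prelude.Def_OddOrderChar
import Cfsg.Agent.Lib.OddOrder.FHall

/-!
The sets `A₁(M) ⊆ A(M) ⊆ A₀(M)` attached to a maximal subgroup, and the exclusivity of type I and type P
(Peterfalvi, section 8).
-/

set_option autoImplicit false

namespace CfsgLib.OddChar.MaxTypes

set_option linter.style.haveILetI false

open Subgroup CfsgLib.OddOrder

variable {G : Type*} [Group G] {M : Subgroup G}

theorem typeCore_le (M : Subgroup G) : Cfsg.typeCore M ≤ M := by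
  unfold Cfsg.typeCore
  split_ifs with h
  · exact commutator_le_self M
  · exact Subgroup.map_subtype_le _

theorem conj_mem_commutator {x a : G} (hx : x ∈ M) (ha : a ∈ ⁅M, M⁆) : x * a * x⁻¹ ∈ ⁅M, M⁆ := by
  have h := Subgroup.mem_map_of_mem (MulAut.conj x).toMonoidHom ha
  rw [Subgroup.map_commutator] at h
  have hM : M.map (MulAut.conj x).toMonoidHom ≤ M := by
    rintro _ ⟨y, hy, rfl⟩
    exact mul_mem (mul_mem hx hy) (inv_mem hx)
  exact Subgroup.commutator_mono hM hM h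

variable [Finite G]

theorem conj_mem_fittingHallOf {x a : G} (hx : x ∈ M) (ha : a ∈ Cfsg.fittingHallOf M) :
    x * a * x⁻¹ ∈ Cfsg.fittingHallOf M :=
  (Subgroup.mem_normalizer_iff.1 (le_normalizer_fittingHallOf M hx) a).1 ha

theorem conj_mem_typeCore {x a : G} (hx : x ∈ M) (ha : a ∈ Cfsg.typeCore M) :
    x * a * x⁻¹ ∈ Cfsg.typeCore M := by
  unfold Cfsg.typeCore at ha ⊢
  split_ifs at ha ⊢ with h
  · exact conj_mem_commutator hx ha
  · exact conj_mem_fittingHallOf hx ha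

theorem conj_commute {x a b : G} (h : a * b = b * a) :
    x * a * x⁻¹ * (x * b * x⁻¹) = x * b * x⁻¹ * (x * a * x⁻¹) := by
  calc x * a * x⁻¹ * (x * b * x⁻¹) = x * (a * b) * x⁻¹ := by group
    _ = x * (b * a) * x⁻¹ := by rw [h]
    _ = _ := by group

theorem typeA1_conj {x a : G} (hx : x ∈ M) (ha : a ∈ Cfsg.typeA1 M) :
    x * a * x⁻¹ ∈ Cfsg.typeA1 M :=
  ⟨conj_mem_typeCore hx ha.1, fun h => ha.2 (conj_eq_one_iff.1 h)⟩

theorem typeA_conj {x a : G} (hx : x ∈ M) (ha : a ∈ Cfsg.typeA M) :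
    x * a * x⁻¹ ∈ Cfsg.typeA M := by
  unfold Cfsg.typeA at ha ⊢
  split_ifs at ha ⊢ with h
  · obtain ⟨h1, h2, b, hb, hb1, hab⟩ := ha
    exact ⟨mul_mem (mul_mem hx h1) (inv_mem hx), fun e => h2 (conj_eq_one_iff.1 e), _,
      conj_mem_fittingHallOf hx hb, fun e => hb1 (conj_eq_one_iff.1 e), conj_commute hab⟩
  · obtain ⟨h1, h2, b, hb, hb1, hab⟩ := ha
    exact ⟨conj_mem_commutator hx h1, fun e => h2 (conj_eq_one_iff.1 e), _,
      conj_mem_typeCore hx hb, fun e => hb1 (conj_eq_one_iff.1 e), conj_commute hab⟩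

theorem typeA0_conj {x a : G} (hx : x ∈ M) (ha : a ∈ Cfsg.typeA0 M) :
    x * a * x⁻¹ ∈ Cfsg.typeA0 M := by
  rcases ha with ha | ⟨h, W₁, U, W₂, hP, m, hm, w, hw, hw1, hw2, rfl⟩
  · exact Or.inl (typeA_conj hx ha)
  · exact Or.inr ⟨h, W₁, U, W₂, hP, x * m, mul_mem hx hm, w, hw, hw1, hw2, by group⟩

theorem W₁_le {W₁ U W₂ : Subgroup G} (hP : Cfsg.IsTypePWith M W₁ U W₂) : W₁ ≤ M :=
  hP.W₁_compl.2.1

theorem W₂_le {W₁ U W₂ : Subgroup G} (hP : Cfsg.IsTypePWith M W₁ U W₂) : W₂ ≤ M :=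
  hP.W₂_le.trans (inf_le_left.trans (TypeP.fittingHallOf_le M))

theorem typeA1_subset_M : Cfsg.typeA1 M ⊆ (M : Set G) := fun _ ha => typeCore_le M ha.1

theorem typeA_subset_M : Cfsg.typeA M ⊆ (M : Set G) := by
  intro a ha
  unfold Cfsg.typeA at ha
  split_ifs at ha with h
  · exact ha.1
  · exact commutator_le_self M ha.1

theorem typeA0_subset_M : Cfsg.typeA0 M ⊆ (M : Set G) := by
  rintro a (ha | ⟨-, W₁, U, W₂, hP, m, hm, w, hw, -, -, rfl⟩)
  · exact typeA_subset_M ha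
  · exact mul_mem (mul_mem hm (sup_le (W₁_le hP) (W₂_le hP) hw)) (inv_mem hm)

theorem one_notMem_typeA : (1 : G) ∉ Cfsg.typeA M := by
  intro ha
  unfold Cfsg.typeA at ha
  split_ifs at ha with h <;> exact ha.2.1 rfl

theorem one_notMem_typeA0 : (1 : G) ∉ Cfsg.typeA0 M := by
  rintro (ha | ⟨-, W₁, U, W₂, hP, m, hm, w, hw, hw1, -, e⟩)
  · exact one_notMem_typeA ha
  · refine hw1 ?_
    rw [show w = 1 from conj_eq_one_iff.1 e.symm]
    exact one_mem _

theorem typeA_subset_typeA0 : Cfsg.typeA M ⊆ Cfsg.typeA0 M := fun _ ha => Or.inl ha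

theorem fittingHallOf_le_commutator_of_typeP {W₁ U W₂ : Subgroup G}
    (hP : Cfsg.IsTypePWith M W₁ U W₂) : Cfsg.fittingHallOf M ≤ ⁅M, M⁆ :=
  hP.U_compl.1

/-- A subgroup of type I is not of type P. -/
theorem not_typeP_of_typeI (hI : Cfsg.IsOfTypeI M) {W₁ U W₂ : Subgroup G}
    (hP : Cfsg.IsTypePWith M W₁ U W₂) : False := by
  classical
  obtain ⟨⟨-, -, -, -, E, -, hcE, -, E₀, hE₀, hexp, hfpf⟩, -⟩ := hI
  obtain ⟨r, hr, hrW⟩ := Nat.exists_prime_and_dvd (n := Nat.card W₁)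
    (fun h => hP.W₁_ne (Subgroup.card_eq_one.1 h))
  haveI : Fact r.Prime := ⟨hr⟩
  have hW₁M := W₁_le hP
  have hHM' := fittingHallOf_le_commutator_of_typeP hP
  set W' := W₁.subgroupOf M with hW'
  have hWcard : Nat.card W' = Nat.card W₁ :=
    Nat.card_congr (Subgroup.subgroupOfEquivOfLe hW₁M).toEquiv
  have hWidx : W'.index = W₁.relIndex M := rfl
  have hrI : ¬ r ∣ W'.index := fun h =>
    hr.not_dvd_one (hP.W₁_hall ▸ Nat.dvd_gcd hrW (hWidx ▸ h))
  obtain ⟨w, hw⟩ := exists_prime_orderOf_dvd_card' (G := W') r (hWcard.symm ▸ hrW)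
  rw [← Subgroup.orderOf_coe] at hw
  -- `r` divides the exponent of the complement of `M_F`
  have hwH : (w : M) ∉ Cfsg.fittingHall M := by
    intro h
    have h1 : ((w : M) : G) ∈ W₁ ⊓ ⁅M, M⁆ :=
      ⟨Subgroup.mem_subgroupOf.1 w.2, hHM' (Subgroup.mem_map_of_mem M.subtype h)⟩
    rw [inf_comm, hP.W₁_compl.2.2.1, Subgroup.mem_bot] at h1
    rw [show (w : M) = 1 from Subtype.ext h1, orderOf_one] at hw
    exact hr.ne_one hw.symm
  have hrE : r ∣ Nat.card E := by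
    rw [← hcE.symm.index_eq_card, Subgroup.index_eq_card]
    have h1 : orderOf (QuotientGroup.mk' (Cfsg.fittingHall M) (w : M)) ∣ r :=
      hw ▸ orderOf_map_dvd _ _
    rcases (Nat.dvd_prime hr).1 h1 with h2 | h2
    · rw [orderOf_eq_one_iff, QuotientGroup.mk'_apply, QuotientGroup.eq_one_iff] at h2
      exact absurd h2 hwH
    · rw [← h2]; exact orderOf_dvd_natCard _
  have hrE₀ : r ∣ Nat.card E₀ := by
    obtain ⟨e, he⟩ := exists_prime_orderOf_dvd_card' (G := E) r hrE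
    exact (he ▸ hexp.symm ▸ Monoid.order_dvd_exponent e).trans Group.exponent_dvd_nat_card
  obtain ⟨u, hu⟩ := exists_prime_orderOf_dvd_card' (G := E₀) r hrE₀
  rw [← Subgroup.orderOf_coe] at hu
  -- a conjugate of `u` lies in `W₁`
  obtain ⟨R⟩ := (inferInstance : Nonempty (Sylow r W'))
  have hRp : IsPGroup r ((R : Subgroup W').map W'.subtype) := R.isPGroup'.map _
  have hRi : ¬ r ∣ ((R : Subgroup W').map W'.subtype).index := by
    rw [Subgroup.index_map_of_injective _ W'.subtype_injective, Subgroup.range_subtype]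
    exact fun h => (hr.dvd_mul.1 h).elim R.not_dvd_index hrI
  set P : Sylow r M := hRp.toSylow hRi with hPdef
  have hPW : (P : Subgroup M) ≤ W' := by
    rw [hPdef, IsPGroup.toSylow_coe]
    exact Subgroup.map_subtype_le _
  have hzp : IsPGroup r (Subgroup.zpowers (u : M)) :=
    IsPGroup.of_card (n := 1) (by rw [Nat.card_zpowers, hu, pow_one])
  obtain ⟨Q, hQ⟩ := hzp.exists_le_sylow
  obtain ⟨g, hg⟩ := MulAction.exists_smul_eq M Q P
  have hgu : g * (u : M) * g⁻¹ ∈ W' := by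
    refine hPW ?_
    rw [← hg, Sylow.coe_subgroup_smul]
    exact Subgroup.smul_mem_pointwise_smul (u : M) (MulAut.conj g) (Q : Subgroup M)
      (hQ (Subgroup.mem_zpowers _))
  -- it centralises a nontrivial element of `M_F`
  obtain ⟨x, hx, hx1⟩ :=
    W₂.bot_or_exists_ne_one.resolve_left hP.selfNormalizing.2.1
  have hgu1 : ((g * (u : M) * g⁻¹ : M) : G) ≠ 1 := by
    intro h
    have h' : g * (u : M) * g⁻¹ = 1 := Subtype.ext h
    rw [conj_eq_one_iff] at h'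
    rw [h', orderOf_one] at hu
    exact hr.ne_one hu.symm
  have hxC := hP.W₂_centralizer _ (Subgroup.mem_subgroupOf.1 hgu) hgu1
  rw [← hxC] at hx
  have hcomm := Subgroup.mem_centralizer_singleton_iff.1 hx.2
  have hxH : x ∈ Cfsg.fittingHallOf M := (hxC ▸ hP.W₂_le) hx |>.1
  obtain ⟨x', hx', rfl⟩ := hxH
  have hfix : (u : M) * (g⁻¹ * x' * g) = g⁻¹ * x' * g * (u : M) := by
    have e : g * (u : M) * g⁻¹ * x' = x' * (g * (u : M) * g⁻¹) := Subtype.ext hcomm.symm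
    calc (u : M) * (g⁻¹ * x' * g) = g⁻¹ * (g * (u : M) * g⁻¹ * x') * g := by group
      _ = g⁻¹ * (x' * (g * (u : M) * g⁻¹)) * g := by rw [e]
      _ = _ := by group
  have hu1 : (u : M) ≠ 1 := fun h => hr.ne_one (hu.symm.trans (orderOf_eq_one_iff.2 h))
  have hxm : g⁻¹ * x' * g ∈ Cfsg.fittingHall M := by
    simpa using (Cfsg.fittingHall_normal M).conj_mem x' hx' g⁻¹
  have := hfpf _ u.2 hu1 _ hxm hfix
  refine hx1 ?_
  have h2 : x' = 1 := by
    calc x' = g * (g⁻¹ * x' * g) * g⁻¹ := by group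
      _ = 1 := by rw [this]; group
  rw [h2]; rfl

theorem not_typeIII_of_typeI (hI : Cfsg.IsOfTypeI M) :
    ¬ (Cfsg.IsOfTypeIII M ∨ Cfsg.IsOfTypeIV M) := by
  rintro (⟨W₁, U, W₂, hP, -⟩ | ⟨W₁, U, W₂, hP, -⟩) <;> exact not_typeP_of_typeI hI hP

theorem typeCore_of_typeI (hI : Cfsg.IsOfTypeI M) : Cfsg.typeCore M = Cfsg.fittingHallOf M :=
  if_neg (not_typeIII_of_typeI hI)

theorem typeA_of_typeI (hI : Cfsg.IsOfTypeI M) : Cfsg.typeA M =
    {a | a ∈ M ∧ a ≠ 1 ∧ ∃ x ∈ Cfsg.fittingHallOf M, x ≠ 1 ∧ a * x = x * a} :=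
  if_pos hI

theorem typeA0_of_typeI (hI : Cfsg.IsOfTypeI M) : Cfsg.typeA0 M = Cfsg.typeA M := by
  refine Set.Subset.antisymm ?_ typeA_subset_typeA0
  rintro a (ha | ⟨h, -⟩)
  · exact ha
  · exact absurd hI h

theorem typeA1_subset_typeA (hle : Cfsg.fittingHallOf M ≤ ⁅M, M⁆) :
    Cfsg.typeA1 M ⊆ Cfsg.typeA M := by
  intro a ha
  unfold Cfsg.typeA
  split_ifs with hI
  · exact ⟨typeCore_le M ha.1, ha.2, a, typeCore_of_typeI hI ▸ ha.1, ha.2, rfl⟩
  · refine ⟨?_, ha.2, a, ha.1, ha.2, rfl⟩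
    have h := ha.1
    unfold Cfsg.typeCore at h
    split_ifs at h with h'
    · exact h
    · exact hle h

theorem typeA1_nonempty (hne : Cfsg.fittingHallOf M ≠ ⊥) (hle : Cfsg.fittingHallOf M ≤ ⁅M, M⁆) :
    (Cfsg.typeA1 M).Nonempty := by
  obtain ⟨a, ha, ha1⟩ := (Cfsg.fittingHallOf M).bot_or_exists_ne_one.resolve_left hne
  refine ⟨a, ?_, ha1⟩
  show a ∈ Cfsg.typeCore M
  unfold Cfsg.typeCore
  split_ifs with h
  · exact hle ha
  · exact ha

/-- A nonempty `M`-invariant subset of `M` without the identity has normaliser `M`. -/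
theorem normalizer_eq (hG : Cfsg.IsMinSimpleOddOrder G) (hM : IsCoatom M) {A : Set G}
    (hsub : A ⊆ (M : Set G)) (h1 : (1 : G) ∉ A) (hne : A.Nonempty)
    (hinv : ∀ x ∈ M, ∀ a ∈ A, x * a * x⁻¹ ∈ A) : Subgroup.normalizer A = M := by
  have hle : M ≤ Subgroup.normalizer A := fun x hx => by
    rw [Subgroup.mem_set_normalizer_iff]
    refine fun a => ⟨hinv x hx a, fun h => ?_⟩
    simpa [mul_assoc] using hinv x⁻¹ (inv_mem hx) _ h
  rcases eq_or_lt_of_le hle with h | h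
  · exact h.symm
  exfalso
  have htop := hM.2 _ h
  haveI : IsSimpleGroup G := hG.2.1
  haveI hn : (Subgroup.closure A).Normal := by
    refine ⟨fun a ha g => ?_⟩
    have : (Subgroup.closure A).map (MulAut.conj g).toMonoidHom ≤ Subgroup.closure A := by
      rw [MonoidHom.map_closure, Subgroup.closure_le]
      rintro _ ⟨b, hb, rfl⟩
      exact Subgroup.subset_closure
        ((Subgroup.mem_set_normalizer_iff.1 (htop ▸ Subgroup.mem_top g) b).1 hb)
    exact this (Subgroup.mem_map_of_mem _ ha)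
  have hcl : Subgroup.closure A ≤ M := (Subgroup.closure_le M).2 hsub
  rcases hn.eq_bot_or_eq_top with h2 | h2
  · obtain ⟨a, ha⟩ := hne
    have := Subgroup.subset_closure (k := A) ha
    rw [h2] at this
    exact h1 ((Subgroup.mem_bot.1 this) ▸ ha)
  · exact hM.1 (top_le_iff.1 (h2 ▸ hcl))

end CfsgLib.OddChar.MaxTypes
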