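import Cfsg.Agent.S1351
import Cfsg.Agent.S1355
import Cfsg.Agent.S1357
import Cfsg.Agent.S1381
import Cfsg.Agent.S1382
import Cfsg.Agent.S1383
import Cfsg.Agent.Lib.OddOrder.TypeExclusive
import Cfsg.Agent.S1352
import Cfsg.Agent.S1354
import Cfsg.Agent.S1365
import Cfsg.Agent.Lib.OddOrder.KappaDerived
import Cfsg.Agent.Lib.Solvable.InvariantHall
import Cfsg.Agent.Lib.OddChar.MaxTypes

/-!
The sets `A₁(M)`, `A(M)`, `A₀(M)` of the five types expressed by a standard factorisation `M = K U M_σ`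
(Bender-Glauberman, section 16).
-/

set_option autoImplicit false

namespace CfsgLib.OddChar.MaxTypes

open Subgroup CfsgLib.OddOrder
open scoped Pointwise

set_option linter.style.haveILetI false

variable {G : Type*} [Group G] [Finite G] (hG : Cfsg.IsMinSimpleOddOrder G) {M : Subgroup G}
  (hM : IsCoatom M)

include hG hM

theorem exists_decomposition : ∃ K U : Subgroup G, Cfsg.IsSigmaDecomposition M K U := by
  obtain ⟨⟨K, hK⟩, hc⟩ := Cfsg.Agent.S1351.result hG M hM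
  obtain ⟨U, hU⟩ := (Cfsg.Agent.S1352.result hG M hM K (hc K hK) hK).1
  exact ⟨K, U, hU⟩

variable {K U : Subgroup G} (hKU : Cfsg.IsSigmaDecomposition M K U)
include hKU

theorem le_normalizer_sup : M ≤ normalizer ((U ⊔ Cfsg.sigmaCore M : Subgroup G) : Set G) :=
  (Cfsg.Agent.S1352.result hG M hM K hKU.cyclic hKU.hall).2 U hKU

omit hG hM in
theorem sup_le_M : U ⊔ Cfsg.sigmaCore M ≤ M :=
  sup_le hKU.compl.1 (piCoreOf_le _ _)

/-- `K` complements `U M_σ` in `M`. -/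
theorem isComplIn_sup : Cfsg.IsComplIn K (U ⊔ Cfsg.sigmaCore M) M := by
  have hn := le_normalizer_sup hG hM hKU
  refine ⟨hKU.hall.1, sup_le_M hKU,
    inf_eq_bot_of_coprime (decomposition_coprime hG hM hKU), fun m hm => ?_⟩
  have hle : M ≤ K ⊔ (U ⊔ Cfsg.sigmaCore M) := fun z hz => by
    obtain ⟨a, ha, b, hb, rfl⟩ := hKU.compl.2.2.2 z hz
    exact mul_mem (mem_sup_right (mem_sup_left ha))
      ((sup_le_sup_left le_sup_right K : K ⊔ Cfsg.sigmaCore M ≤ _) hb)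
  obtain ⟨w, hw, k, hk, e⟩ := (Solvable.mem_sup_of_le_normalizer (hKU.hall.1.trans hn)).1
    (sup_comm K (U ⊔ Cfsg.sigmaCore M) ▸ hle hm)
  refine ⟨k, hk, k⁻¹ * w * k, ?_, by rw [← e]; group⟩
  have := (mem_normalizer_iff.1 (hn (inv_mem (hKU.hall.1 hk))) w).1 hw
  rwa [inv_inv] at this

theorem mem_sup_iff_coprime {x : G} (hx : x ∈ M) :
    x ∈ U ⊔ Cfsg.sigmaCore M ↔ (orderOf x).Coprime (Nat.card K) := by
  refine ⟨fun h => (decomposition_coprime hG hM hKU).symm.coprime_dvd_left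
    (orderOf_dvd_card_of_mem h), fun h => ?_⟩
  exact mem_of_orderOf_coprime_relIndex (le_normalizer_sup hG hM hKU) hx
    (card_eq_relIndex_of_isComplIn (isComplIn_sup hG hM hKU) ▸ h)

theorem mem_sup_conj_iff {x g : G} (hx : x ∈ M) (hgx : g * x * g⁻¹ ∈ M) :
    g * x * g⁻¹ ∈ U ⊔ Cfsg.sigmaCore M ↔ x ∈ U ⊔ Cfsg.sigmaCore M := by
  rw [mem_sup_iff_coprime hG hM hKU hx, mem_sup_iff_coprime hG hM hKU hgx,
    ← MulAut.conj_apply, MulEquiv.orderOf_eq]

/-- `K = 1` forces `U ≠ 1`. -/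
theorem U_ne_bot_of_K_eq_bot (hK : K = ⊥) : U ≠ ⊥ := by
  intro hU
  obtain ⟨-, -, hle, hlt, -⟩ := Cfsg.Agent.S1355.result hG M hM
  refine not_le_of_gt hlt (le_trans (fun m hm => ?_) hle)
  obtain ⟨a, ha, b, hb, rfl⟩ := hKU.compl.2.2.2 m hm
  rw [hU, mem_bot] at ha
  rw [hK, bot_sup_eq] at hb
  simpa [ha] using hb

omit hG hM in
theorem sup_eq_M_of_K_eq_bot (hK : K = ⊥) : U ⊔ Cfsg.sigmaCore M = M := by
  refine le_antisymm (sup_le_M hKU) fun m hm => ?_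
  obtain ⟨a, ha, b, hb, rfl⟩ := hKU.compl.2.2.2 m hm
  rw [hK, bot_sup_eq] at hb
  exact mul_mem (mem_sup_left ha) (mem_sup_right hb)

theorem fittingHallOf_eq_sigmaCore (hU : U ≠ ⊥) : Cfsg.fittingHallOf M = Cfsg.sigmaCore M :=
  by_contra fun h => hU (Cfsg.Agent.S1357.result hG M hM K U hKU h).1

theorem derived_eq (hK : K ≠ ⊥) : ⁅M, M⁆ = U ⊔ Cfsg.sigmaCore M :=
  (Cfsg.Agent.S1365.result hG M hM K U hKU hK).1

/-- `M_s = M_σ`. -/
theorem typeCore_eq : Cfsg.typeCore M = Cfsg.sigmaCore M := by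
  have h34 := Cfsg.Agent.S1382.result hG M hM K U hKU
  unfold Cfsg.typeCore
  split_ifs with h
  · obtain ⟨hK, hU, -⟩ := h34.1 h
    rw [derived_eq hG hM hKU hK, hU, bot_sup_eq]
  · by_cases hU : U = ⊥
    · refine by_contra fun hne => h (h34.2 ⟨fun hK => ?_, hU, hne⟩)
      exact U_ne_bot_of_K_eq_bot hG hM hKU hK hU
    · exact fittingHallOf_eq_sigmaCore hG hM hKU hU

theorem typeA1_eq : Cfsg.typeA1 M = (Cfsg.sigmaCore M : Set G) \ {1} := by
  rw [Cfsg.typeA1, typeCore_eq hG hM hKU]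

theorem K_eq_bot_of_typeI (hI : Cfsg.IsOfTypeI M) : K = ⊥ := by
  by_contra hK
  by_cases hU : U = ⊥
  · by_cases hF : Cfsg.fittingHallOf M = Cfsg.sigmaCore M
    · exact TypeP.not_one_and_five hI ((Cfsg.Agent.S1383.result hG M hM K U hKU).2 ⟨hK, hU, hF⟩)
    · exact TypeP.not_one_and_three_four hI
        ((Cfsg.Agent.S1382.result hG M hM K U hKU).2 ⟨hK, hU, hF⟩)
  · exact TypeP.not_one_and_two hI ((Cfsg.Agent.S1381.result hG M hM K U hKU).2 ⟨hK, hU⟩)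

/-- A maximal subgroup of type P has a prime in `κ`. -/
theorem K_ne_bot_of_typeP {W₁ V W₂ : Subgroup G} (hP : Cfsg.IsTypePWith M W₁ V W₂) : K ≠ ⊥ := by
  intro hK
  obtain ⟨-, hFS, hSM, -⟩ := Cfsg.Agent.S1355.result hG M hM
  obtain ⟨hD, hW₁M, hdis, hfac⟩ := hP.W₁_compl
  obtain ⟨p, hp, hpd⟩ := Nat.exists_prime_and_dvd (n := Nat.card W₁)
    (((Subgroup.one_lt_card_iff_ne_bot W₁).2 hP.W₁_ne).ne')
  haveI := Fact.mk hp
  obtain ⟨⟨k, hk⟩, hko⟩ := exists_prime_orderOf_dvd_card' p hpd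
  rw [Subgroup.orderOf_mk] at hko
  have hk1 : k ≠ 1 := fun h => hp.one_lt.ne' (by rw [← hko, h, orderOf_one])
  obtain ⟨y, hy, hy1⟩ := (W₂.bot_or_exists_ne_one).resolve_left hP.selfNormalizing.2.1
  have hyS : y ∈ Cfsg.sigmaCore M := hFS (hP.W₂_le hy).1
  have hky : k * y = y * k := by
    have h := (hP.W₂_centralizer k hk hk1).symm ▸ hy
    exact (mem_centralizer_singleton_iff.1 h.2).symm
  have hpσ : p ∉ Cfsg.sigma M := fun hσ => hk1 (mem_bot.1 (hdis ▸ mem_inf.2 ⟨hSM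
    (le_sigmaCore_of_piSubgroup hG hM (fun q hq hd => by
      rw [Nat.card_zpowers, hko] at hd
      rwa [(Nat.prime_dvd_prime_iff_eq hq hp).1 hd]) (zpowers_le.2 (hW₁M hk)) (mem_zpowers k)), hk⟩))
  have hκ : p ∈ Cfsg.kappa M := by
    refine ⟨hp, hpd.trans (card_dvd_of_le hW₁M), hpσ, ?_⟩
    obtain ⟨S⟩ : Nonempty (Sylow p ↥W₁) := inferInstance
    have hWn : (W₁.subgroupOf M).index.Coprime p := by
      have h := hP.W₁_hall
      exact (h.coprime_dvd_left hpd).symm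
    obtain ⟨P₀, hP₀⟩ := (IsPGroup.of_card (n := 1)
      (show Nat.card (zpowers (⟨k, hW₁M hk⟩ : M)) = p ^ 1 by
        rw [Nat.card_zpowers, Subgroup.orderOf_mk, hko, pow_one])).exists_le_sylow
    -- some Sylow subgroup of `M` lies in `W₁` and contains `k`
    intro P
    obtain ⟨S, hS⟩ : ∃ S : Sylow p M, (S : Subgroup M) ≤ W₁.subgroupOf M := by
      obtain ⟨S⟩ : Nonempty (Sylow p ↥(W₁.subgroupOf M)) := inferInstance
      have hd : ¬ p ∣ ((S : Subgroup ↥(W₁.subgroupOf M)).map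
          (W₁.subgroupOf M).subtype).index := fun h => by
        rw [Subgroup.index_map_subtype] at h
        rcases hp.dvd_mul.1 h with h | h
        · exact S.not_dvd_index h
        · exact hp.one_lt.ne' (Nat.eq_one_of_dvd_coprimes hWn h dvd_rfl)
      exact ⟨(S.2.map _).toSylow hd, Subgroup.map_subtype_le _⟩
    obtain ⟨g, hg⟩ := MulAction.exists_smul_eq M S P
    haveI := hP.W₁_cyclic
    haveI hSc : IsCyclic (S : Subgroup M) :=
      isCyclic_of_injective ((subgroupOfEquivOfLe hW₁M).toMonoidHom.comp (Subgroup.inclusion hS))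
        ((subgroupOfEquivOfLe hW₁M).injective.comp (Subgroup.inclusion_injective hS))
    have hPc : IsCyclic (P : Subgroup M) := by
      rw [← hg]
      exact isCyclic_of_surjective (Sylow.equiv S (g • S)).toMonoidHom
        (Sylow.equiv S (g • S)).surjective
    refine ⟨hPc, ?_⟩
    obtain ⟨n, hn⟩ := MulAction.exists_smul_eq M P₀ P
    refine ⟨n * ⟨k, hW₁M hk⟩ * n⁻¹, hn ▸ ?_, fun h => hk1 (congrArg Subtype.val
      (conj_eq_one_iff.1 h)), (n : G) * y * (n : G)⁻¹,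
      (mem_normalizer_iff.1 (le_normalizer_piCoreOf (Cfsg.sigma M) M n.2) y).1 hyS,
      fun h => hy1 (conj_eq_one_iff.1 h), conj_commute hky⟩
    rw [Sylow.coe_subgroup_smul]
    exact smul_mem_pointwise_smul _ (MulAut.conj n) _ (hP₀ (mem_zpowers _))
  refine hKU.hall.2.2 p hp hκ ?_
  rw [hK, relIndex_bot_left]
  exact hpd.trans (card_dvd_of_le hW₁M)

/-- `A(M)` is `M̂_σ ∩ U M_σ` without the identity (for `M` of type I or of type P). -/
theorem mem_typeA_iff (hor : Cfsg.IsOfTypeI M ∨ K ≠ ⊥) {a : G} :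
    a ∈ Cfsg.typeA M ↔ a ∈ Cfsg.sigmaA M U ∧ a ≠ 1 := by
  have hcore := typeCore_eq hG hM hKU
  unfold Cfsg.typeA Cfsg.sigmaA Cfsg.sigmaHat
  by_cases hI : Cfsg.IsOfTypeI M
  · have hK := K_eq_bot_of_typeI hG hM hKU hI
    rw [if_pos hI, sup_eq_M_of_K_eq_bot hKU hK,
      fittingHallOf_eq_sigmaCore hG hM hKU (U_ne_bot_of_K_eq_bot hG hM hKU hK)]
    simp only [Set.mem_setOf_eq, Set.mem_inter_iff, SetLike.mem_coe]
    tauto
  · rw [if_neg hI, derived_eq hG hM hKU (hor.resolve_left hI), hcore]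
    simp only [Set.mem_setOf_eq, Set.mem_inter_iff, SetLike.mem_coe]
    constructor
    · rintro ⟨h1, h2, h3⟩
      exact ⟨⟨⟨sup_le_M hKU h1, h3⟩, h1⟩, h2⟩
    · rintro ⟨⟨⟨-, h3⟩, h1⟩, h2⟩
      exact ⟨h1, h2, h3⟩

theorem mem_sigmaA_of_mem_typeA {a : G} (ha : a ∈ Cfsg.typeA M) : a ∈ Cfsg.sigmaA M U := by
  by_cases hor : Cfsg.IsOfTypeI M ∨ K ≠ ⊥
  · exact ((mem_typeA_iff hG hM hKU hor).1 ha).1
  push Not at hor
  have hcore := typeCore_eq hG hM hKU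
  unfold Cfsg.typeA at ha
  rw [if_neg hor.1, hcore] at ha
  obtain ⟨h1, -, h3⟩ := ha
  exact ⟨⟨commutator_le_self M h1, h3⟩, by
    rw [sup_eq_M_of_K_eq_bot hKU hor.2]; exact commutator_le_self M h1⟩

theorem typeA1_subset_sigmaA {a : G} (ha : a ∈ Cfsg.typeA1 M) : a ∈ Cfsg.sigmaA M U := by
  rw [typeA1_eq hG hM hKU] at ha
  exact ⟨⟨piCoreOf_le _ _ ha.1, a, ha.1, ha.2, rfl⟩, mem_sup_right ha.1⟩

theorem derived_inf_centralizer (hK : K ≠ ⊥) {k : G} (hk : k ∈ K) (hk1 : k ≠ 1) :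
    ⁅M, M⁆ ⊓ centralizer ({k} : Set G) = Cfsg.sigmaCore M ⊓ centralizer (K : Set G) := by
  set W := U ⊔ Cfsg.sigmaCore M with hW
  rw [derived_eq hG hM hKU hK]
  refine le_antisymm (fun a ha => ?_)
    (le_inf (inf_le_left.trans le_sup_right)
      (inf_le_right.trans (centralizer_le (Set.singleton_subset_iff.2 hk))))
  have h : a ∈ K ⊔ (Cfsg.sigmaCore M ⊓ centralizer (K : Set G)) :=
    (Cfsg.Agent.S1354.result hG M hM K hKU.cyclic hKU.hall).2 hK k hk hk1 ▸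
      (⟨sup_le_M hKU ha.1, ha.2⟩ : a ∈ M ⊓ centralizer ({k} : Set G))
  have hn : K ≤ normalizer ((Cfsg.sigmaCore M ⊓ centralizer (K : Set G) : Subgroup G) : Set G) :=
    fun j hj => by
      rw [mem_normalizer_iff]
      intro b
      constructor
      · intro hb
        rwa [show j * b * j⁻¹ = b by rw [(mem_centralizer_iff.1 hb.2 j hj), mul_inv_cancel_right]]
      · intro hb
        have := mem_centralizer_iff.1 hb.2 j⁻¹ (inv_mem hj)
        have e : b = j * b * j⁻¹ := by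
          calc b = j⁻¹ * (j * b * j⁻¹) * j := by group
            _ = j * b * j⁻¹ * j⁻¹ * j := by rw [this]
            _ = _ := by group
        rwa [← e] at hb
  obtain ⟨b, hb, j, hj, rfl⟩ := (Solvable.mem_sup_of_le_normalizer hn).1 (sup_comm K _ ▸ h)
  have hjW : j ∈ W := by
    simpa using mul_mem (inv_mem (mem_sup_right hb.1 : b ∈ W)) ha.1
  have hj1 : j ∈ (⊥ : Subgroup G) := (isComplIn_sup hG hM hKU).2.2.1 ▸ mem_inf.2 ⟨hj, hjW⟩
  rw [mem_bot.1 hj1, mul_one]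
  exact hb

/-- The part of `A₀(M)` outside `A(M)` consists of conjugates from `K × C_{M_σ}(K)`. -/
theorem typeA0_extra {v : G} (hv : v ∈ Cfsg.typeA0 M) (hvA : v ∉ Cfsg.typeA M) :
    K ≠ ⊥ ∧ ∃ m ∈ M, ∃ z ∈ ((↑(K ⊔ (Cfsg.sigmaCore M ⊓ centralizer (K : Set G))) : Set G) \
      ((K : Set G) ∪ ↑(Cfsg.sigmaCore M ⊓ centralizer (K : Set G)))), v = m * z * m⁻¹ := by
  obtain ⟨hI, W₁, V, W₂, hP, m, hm, w, hw, hw1, hw2, rfl⟩ := hv.resolve_left hvA
  have hK : K ≠ ⊥ := K_ne_bot_of_typeP hG hM hKU hP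
  refine ⟨hK, ?_⟩
  set W := U ⊔ Cfsg.sigmaCore M with hW
  have hd : ⁅M, M⁆ = W := derived_eq hG hM hKU hK
  have hsolM : Group.IsSolvable M := isSolvable_of_ne_top hG hM.1
  have hcardK : Nat.card K = W.relIndex M := card_eq_relIndex_of_isComplIn (isComplIn_sup hG hM hKU)
  have hcardW₁ : Nat.card W₁ = W.relIndex M := by
    have h := hP.W₁_compl
    rw [← hd]
    refine card_eq_relIndex_of_isComplIn ⟨h.2.1, h.1, inf_comm ⁅M, M⁆ W₁ ▸ h.2.2.1, fun z hz => ?_⟩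
    obtain ⟨a, ha, b, hb, e⟩ := h.2.2.2 z⁻¹ (inv_mem hz)
    exact ⟨b⁻¹, inv_mem hb, a⁻¹, inv_mem ha, by rw [← mul_inv_rev, ← e, inv_inv]⟩
  have hall : ∀ B : Subgroup G, B ≤ M → Nat.card B = Nat.card K →
      (Nat.card B).Coprime (B.relIndex M) →
      Cfsg.IsPiHallOf {q | q.Prime ∧ q ∣ Nat.card K} B M := fun B hB e hco =>
    ⟨hB, fun q hq hd => ⟨hq, e ▸ hd⟩, fun q hq hqK hd =>
      hq.one_lt.ne' (Nat.eq_one_of_dvd_coprimes hco (e ▸ hqK.2) hd)⟩
  have hKco : (Nat.card K).Coprime (K.relIndex M) := Nat.coprime_of_dvd fun q hq h1 h2 =>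
    hKU.hall.2.2 q hq (hKU.hall.2.1 q hq h1) h2
  obtain ⟨n, hn, hnK⟩ := Solvable.exists_conj_of_isPiHallOf hsolM (hall K hKU.hall.1 rfl hKco)
    (hall W₁ hP.W₁_compl.2.1 (hcardW₁.trans hcardK.symm) hP.W₁_hall)
  obtain ⟨k₀, hk₀⟩ := Subgroup.ne_bot_iff_exists_ne_one.1 hP.W₁_ne
  have hk₁ : (k₀ : G) ≠ 1 := fun h => hk₀ (Subtype.ext h)
  have hW₁ : ∀ a : G, a ∈ W₁ ↔ n⁻¹ * a * n ∈ K := fun a => by
    rw [← hnK, Subgroup.mem_pointwise_smul_iff_inv_smul_mem, MulAut.smul_def, MulAut.inv_def,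
      MulAut.conj_symm_apply]
  have hW₂ : ∀ a : G, a ∈ W₂ ↔ n⁻¹ * a * n ∈ Cfsg.sigmaCore M ⊓ centralizer (K : Set G) := fun a => by
    rw [← hP.W₂_centralizer k₀ k₀.2 hk₁, ← derived_inf_centralizer hG hM hKU hK
      ((hW₁ k₀).1 k₀.2) (fun h => hk₁ (conj_eq_one_iff.1 (show n⁻¹ * (k₀ : G) * n⁻¹⁻¹ = 1 by
        rw [inv_inv]; exact h))),
      mem_inf, mem_inf, mem_centralizer_singleton_iff, mem_centralizer_singleton_iff]
    refine and_congr ⟨fun h => ?_, fun h => ?_⟩ ⟨fun h => ?_, fun h => ?_⟩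
    · simpa using conj_mem_commutator (inv_mem hn) h
    · have := conj_mem_commutator hn h
      simpa [mul_assoc] using this
    · have h2 := congrArg (fun z => n⁻¹ * z * n) h
      simpa [mul_assoc] using h2
    · have h2 := congrArg (fun z => n * z * n⁻¹) h
      simpa [mul_assoc] using h2
  have hle : W₁ ⊔ W₂ ≤ (K ⊔ (Cfsg.sigmaCore M ⊓ centralizer (K : Set G))).comap
      (MulAut.conj n⁻¹).toMonoidHom := by
    refine sup_le (fun a ha => ?_) (fun a ha => ?_)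
    · exact mem_sup_left (by simpa using (hW₁ a).1 ha)
    · exact mem_sup_right (by simpa using (hW₂ a).1 ha)
  refine ⟨m * n, mul_mem hm hn, n⁻¹ * w * n, ⟨by simpa using hle hw, ?_⟩, by group⟩
  rintro (h | h)
  · exact hw1 ((hW₁ w).2 h)
  · exact hw2 ((hW₂ w).2 h)

end CfsgLib.OddChar.MaxTypes
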