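import Cfsg.Agent.S1376
import Cfsg.Agent.S1436
import Cfsg.Agent.S1362
import Cfsg.Agent.S1371
import Cfsg.Agent.S1375
import Cfsg.Agent.S1378
import Cfsg.Agent.S1432
import Cfsg.Agent.Lib.OddOrder.SigmaSignalizer
import Cfsg.Agent.Lib.OddOrder.SigmaJordan
import Cfsg.Agent.Lib.OddChar.MaxDade
import Cfsg.Agent.Lib.OddChar.TypeSigma
import Cfsg.Agent.Lib.OddChar.FrobKernelHall

/-!
Theorem II of Bender-Glauberman section 16: the sets `A(M)` and `A₀(M)` are tamely embedded.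
-/

set_option autoImplicit false

namespace CfsgLib.OddChar.MaxTypes

open Subgroup CfsgLib.OddOrder

set_option linter.style.haveILetI false

variable {G : Type*} [Group G] [Finite G] (hG : Cfsg.IsMinSimpleOddOrder G) {M : Subgroup G}
  (hM : IsCoatom M)

omit [Finite G] in
theorem isComplIn_swap {A B X : Subgroup G} (h : Cfsg.IsComplIn A B X)
    (hn : A ≤ normalizer (B : Set G)) : Cfsg.IsComplIn B A X := by
  refine ⟨h.2.1, h.1, inf_comm A B ▸ h.2.2.1, fun m hm => ?_⟩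
  obtain ⟨a, ha, b, hb, rfl⟩ := h.2.2.2 m hm
  exact ⟨a * b * a⁻¹, (mem_normalizer_iff.1 (hn ha) b).1 hb, a, ha, by group⟩

include hG hM

theorem isPiSubgroup_zpowers_of_mem {x : G} (hx : x ∈ Cfsg.sigmaCore M) :
    ∀ p : ℕ, p.Prime → p ∣ orderOf x → p ∈ Cfsg.sigma M := fun _ hp hd =>
  sigma_of_dvd_sigmaCore hp (hd.trans (orderOf_dvd_card_of_mem hx))

theorem mem_sigmaCore_iff {x : G} (hx : x ∈ M) :
    x ∈ Cfsg.sigmaCore M ↔ ∀ p : ℕ, p.Prime → p ∣ orderOf x → p ∈ Cfsg.sigma M := by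
  refine ⟨isPiSubgroup_zpowers_of_mem hG hM, fun h => ?_⟩
  exact le_sigmaCore_of_piSubgroup hG hM (fun p hp hd => h p hp (Nat.card_zpowers x ▸ hd))
    (zpowers_le.2 hx) (mem_zpowers x)

theorem mem_sigmaCore_conj_iff {x g : G} (hx : x ∈ M) (hgx : g * x * g⁻¹ ∈ M) :
    g * x * g⁻¹ ∈ Cfsg.sigmaCore M ↔ x ∈ Cfsg.sigmaCore M := by
  rw [mem_sigmaCore_iff hG hM hx, mem_sigmaCore_iff hG hM hgx, ← MulAut.conj_apply,
    MulEquiv.orderOf_eq]

variable {K U : Subgroup G} (hKU : Cfsg.IsSigmaDecomposition M K U)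
include hKU

theorem mem_typeA_diff {a : G} (ha : a ∈ Cfsg.typeA M \ Cfsg.typeA1 M) :
    a ∈ Cfsg.sigmaA M U \ (Cfsg.sigmaCore M : Set G) := by
  refine ⟨mem_sigmaA_of_mem_typeA hG hM hKU ha.1, fun h => ha.2 ?_⟩
  rw [typeA1_eq hG hM hKU]
  exact ⟨h, fun e => one_notMem_typeA (Set.mem_singleton_iff.1 e ▸ ha.1)⟩

theorem normalizer_sigmaA_diff (hne : (Cfsg.sigmaA M U \ (Cfsg.sigmaCore M : Set G)).Nonempty) :
    normalizer (Cfsg.sigmaA M U \ (Cfsg.sigmaCore M : Set G)) = M := by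
  refine normalizer_eq hG hM (fun a ha => ha.1.1.1) (fun h => h.2 (one_mem _)) hne
    fun x hx a ha => ?_
  have hS := le_normalizer_piCoreOf (Cfsg.sigma M) M hx
  obtain ⟨⟨⟨haM, y, hy, hy1, hay⟩, haW⟩, haS⟩ := ha
  exact ⟨⟨⟨mul_mem (mul_mem hx haM) (inv_mem hx), x * y * x⁻¹,
    (mem_normalizer_iff.1 hS y).1 hy, fun h => hy1 (conj_eq_one_iff.1 h), conj_commute hay⟩,
    (mem_normalizer_iff.1 (le_normalizer_sup hG hM hKU hx) a).1 haW⟩,
    fun h => haS ((mem_normalizer_iff.1 hS a).2 h)⟩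

theorem mem_of_conj_typeA_diff {x g : G} (hx : x ∈ Cfsg.typeA M \ Cfsg.typeA1 M)
    (hgx : g * x * g⁻¹ ∈ Cfsg.typeA M \ Cfsg.typeA1 M) : g ∈ M := by
  by_contra hg
  rw [← normalizer_sigmaA_diff hG hM hKU ⟨x, mem_typeA_diff hG hM hKU hx⟩] at hg
  exact one_notMem_typeA (Cfsg.Agent.S1362.result hG M hM K U hKU g hg x
    (mem_typeA_diff hG hM hKU hx) (mem_typeA_diff hG hM hKU hgx) ▸ hx.1)

theorem typeA_diff_isTI : Cfsg.IsTISubset (Cfsg.typeA M \ Cfsg.typeA1 M) := by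
  intro g hg x hx hgx
  have hN : M ≤ normalizer (Cfsg.typeA M \ Cfsg.typeA1 M) := fun z hz => by
    have fwd : ∀ w ∈ M, ∀ a ∈ Cfsg.typeA M \ Cfsg.typeA1 M,
        w * a * w⁻¹ ∈ Cfsg.typeA M \ Cfsg.typeA1 M := fun w hw a ha =>
      ⟨typeA_conj hw ha.1, fun h => ha.2 (by
        simpa [mul_assoc] using typeA1_conj (inv_mem hw) h)⟩
    rw [Subgroup.mem_set_normalizer_iff]
    exact fun a => ⟨fwd z hz a, fun h => by
      simpa [mul_assoc] using fwd z⁻¹ (inv_mem hz) _ h⟩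
  exact absurd (hN (mem_of_conj_typeA_diff hG hM hKU hx hgx)) hg

theorem extra_mem_diff {v : G} (hv : v ∈ Cfsg.typeA0 M) (hvA : v ∉ Cfsg.typeA M) :
    v ∈ Cfsg.sigmaA0 M K \ Cfsg.sigmaA M U := by
  obtain ⟨hK, h⟩ := typeA0_extra hG hM hKU hv hvA
  exact (Cfsg.Agent.S1371.result hG M hM K U hKU hK).1 ▸ h

theorem mem_of_conj_extra {x g : G} (hx : x ∈ Cfsg.typeA0 M) (hxA : x ∉ Cfsg.typeA M)
    (hgx : g * x * g⁻¹ ∈ Cfsg.typeA0 M) (hgxA : g * x * g⁻¹ ∉ Cfsg.typeA M) : g ∈ M := by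
  obtain ⟨hK, -⟩ := typeA0_extra hG hM hKU hx hxA
  obtain ⟨he, hTI⟩ := Cfsg.Agent.S1371.result hG M hM K U hKU hK
  have h1 : (1 : G) ∉ Cfsg.sigmaA0 M K \ Cfsg.sigmaA M U := by
    rw [← he]
    rintro ⟨m, -, z, hz, h⟩
    have : z = 1 := conj_eq_one_iff.1 h.symm
    exact hz.2 (Or.inl (this ▸ one_mem K))
  have hN : normalizer (Cfsg.sigmaA0 M K \ Cfsg.sigmaA M U) = M := by
    refine normalizer_eq hG hM (fun a ha => ha.1.1.1) h1 ⟨x, extra_mem_diff hG hM hKU hx hxA⟩ ?_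
    rw [← he]
    rintro y hy _ ⟨m, hm, z, hz, rfl⟩
    exact ⟨y * m, mul_mem hy hm, z, hz, by group⟩
  by_contra hg
  rw [← hN] at hg
  have h := hTI g hg x (extra_mem_diff hG hM hKU hx hxA) (extra_mem_diff hG hM hKU hgx hgxA)
  exact one_notMem_typeA0 (h ▸ hx)

theorem mem_sigmaHat_of_mem_typeA0 {x : G} (hx : x ∈ Cfsg.typeA0 M) : x ∈ Cfsg.sigmaHat M := by
  by_cases hA : x ∈ Cfsg.typeA M
  · exact (mem_sigmaA_of_mem_typeA hG hM hKU hA).1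
  · exact (extra_mem_diff hG hM hKU hx hA).1.1

/-- For an element of `A₀(M)`, membership in `A(M)` is membership in `U M_σ`. -/
theorem mem_typeA_iff_mem_sup {x : G} (hx : x ∈ Cfsg.typeA0 M) :
    x ∈ Cfsg.typeA M ↔ x ∈ U ⊔ Cfsg.sigmaCore M := by
  refine ⟨fun h => (mem_sigmaA_of_mem_typeA hG hM hKU h).2, fun h => by_contra fun hA => ?_⟩
  obtain ⟨hK, -⟩ := typeA0_extra hG hM hKU hx hA
  exact hA ((mem_typeA_iff hG hM hKU (Or.inr hK)).2
    ⟨⟨mem_sigmaHat_of_mem_typeA0 hG hM hKU hx, h⟩, fun e => one_notMem_typeA0 (e ▸ hx)⟩)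

theorem mem_typeA1_iff {x : G} (hx : x ∈ Cfsg.typeA0 M) :
    x ∈ Cfsg.typeA1 M ↔ x ∈ Cfsg.sigmaCore M := by
  rw [typeA1_eq hG hM hKU]
  exact ⟨And.left, fun h => ⟨h, fun e => one_notMem_typeA0 (Set.mem_singleton_iff.1 e ▸ hx)⟩⟩

/-- Fusion in `A₀(M)` is controlled by `M`. -/
theorem fusion {x : G} (hx : x ∈ Cfsg.typeA0 M) {g : G} (hgx : g * x * g⁻¹ ∈ Cfsg.typeA0 M) :
    ∃ m ∈ M, m * x * m⁻¹ = g * x * g⁻¹ := by
  have hxM : x ∈ M := typeA0_subset_M hx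
  have hgxM : g * x * g⁻¹ ∈ M := typeA0_subset_M hgx
  by_cases hs : x ∈ Cfsg.sigmaCore M
  · obtain ⟨m, hm, c, hc, rfl⟩ := exists_mul_centralizer_of_sigma hG hM hs
      (fun e => one_notMem_typeA0 (e ▸ hx)) hgxM
    refine ⟨m, hm, ?_⟩
    calc m * x * m⁻¹ = m * (x * c) * c⁻¹ * m⁻¹ := by group
      _ = _ := by rw [← mem_centralizer_singleton_iff.1 hc]; group
  refine ⟨g, ?_, rfl⟩
  by_cases hA : x ∈ Cfsg.typeA M
  · have hgA : g * x * g⁻¹ ∈ Cfsg.typeA M := (mem_typeA_iff_mem_sup hG hM hKU hgx).2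
      ((mem_sup_conj_iff hG hM hKU hxM hgxM).2 ((mem_typeA_iff_mem_sup hG hM hKU hx).1 hA))
    refine mem_of_conj_typeA_diff hG hM hKU ⟨hA, fun h => hs ((mem_typeA1_iff hG hM hKU hx).1 h)⟩
      ⟨hgA, fun h => hs ?_⟩
    exact (mem_sigmaCore_conj_iff hG hM hxM hgxM).1 ((mem_typeA1_iff hG hM hKU hgx).1 h)
  · refine mem_of_conj_extra hG hM hKU hx hA hgx fun hgA => hA ?_
    exact (mem_typeA_iff_mem_sup hG hM hKU hx).2
      ((mem_sup_conj_iff hG hM hKU hxM hgxM).1 ((mem_typeA_iff_mem_sup hG hM hKU hgx).1 hgA))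

/-- An element of `A₀(M)` outside `A₁(M)` has its centraliser in `M`. -/
theorem mem_typeA1_of_not_le {x : G} (hx : x ∈ Cfsg.typeA0 M)
    (hC : ¬ centralizer ({x} : Set G) ≤ M) : x ∈ Cfsg.typeA1 M := by
  by_contra h
  refine hC fun c hc => ?_
  have e : c * x * c⁻¹ = x := by rw [mem_centralizer_singleton_iff.1 hc, mul_inv_cancel_right]
  by_cases hA : x ∈ Cfsg.typeA M
  · exact mem_of_conj_typeA_diff hG hM hKU ⟨hA, h⟩ (e.symm ▸ ⟨hA, h⟩)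
  · exact mem_of_conj_extra hG hM hKU hx hA (e.symm ▸ hx) (e.symm ▸ hA)

/-- The supporting subgroup of an element of `A₀(M)`. -/
theorem supporting {x : G} (hx : x ∈ Cfsg.typeA0 M) (hC : ¬ centralizer ({x} : Set G) ≤ M) :
    ∃ L : Subgroup G, IsCoatom L ∧ centralizer ({x} : Set G) ≤ L ∧
      (∀ L' : Subgroup G, IsCoatom L' → centralizer ({x} : Set G) ≤ L' → L' = L) ∧
      Cfsg.sigmaCore L = Cfsg.fittingHallOf L ∧ (∀ g : G, L ≠ M.map (MulAut.conj g).toMonoidHom) ∧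
      centralizer ({x} : Set G) ≤
        normalizer ((Cfsg.sigmaCore L ⊓ centralizer ({x} : Set G) : Subgroup G) : Set G) ∧
      Cfsg.IsComplIn (M ⊓ centralizer ({x} : Set G)) (Cfsg.sigmaCore L ⊓ centralizer ({x} : Set G))
        (centralizer ({x} : Set G)) ∧
      Cfsg.IsComplIn (M ⊓ L) (Cfsg.sigmaCore L) L ∧
      ∀ K' U' : Subgroup G, Cfsg.IsSigmaDecomposition L K' U' →
        U' ≠ ⊥ ∧ x ∈ Cfsg.sigmaA L U' ∧ x ∉ Cfsg.sigmaCore L := by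
  have hs := (mem_typeA1_iff hG hM hKU hx).1 (mem_typeA1_of_not_le hG hM hKU hx hC)
  have hx1 : x ≠ 1 := fun e => one_notMem_typeA0 (e ▸ hx)
  obtain ⟨N, ⟨hN, hCN⟩, huniq, hF, hn, hR, hE, hd⟩ :=
    Cfsg.Agent.S1375.result hG M hM x hs hx1 hC
  obtain ⟨L, ⟨hL, hCL⟩, -, -, hnc, -⟩ := supporting_structure hG hM (Cfsg.Agent.S1378.result hG).2
    (Cfsg.Agent.S1432.result hG) hs hx1 hC
  exact ⟨N, hN, hCN, huniq, hF, huniq L hL hCL ▸ hnc, hn, hR, hE, hd⟩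

/-- `|L_F|` is coprime to `|C_M(y)|` for every `y` of `A₀(M)`. -/
theorem coprime_supporting {x : G} (hx : x ∈ Cfsg.typeA0 M) (hC : ¬ centralizer ({x} : Set G) ≤ M)
    {L : Subgroup G} (hL : IsCoatom L) (hCL : centralizer ({x} : Set G) ≤ L) {y : G}
    (hy : y ∈ Cfsg.typeA0 M) :
    (Nat.card (Cfsg.sigmaCore L)).Coprime (Nat.card ↥(M ⊓ centralizer ({y} : Set G))) := by
  obtain ⟨N, -, -, huniq, -, hnc, -⟩ := supporting hG hM hKU hx hC
  have hnc : ∀ g : G, L ≠ M.map (MulAut.conj g).toMonoidHom := huniq L hL hCL ▸ hnc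
  refine Nat.coprime_of_dvd fun q hq hqL hqC => ?_
  haveI := Fact.mk hq
  have hqσ : q ∈ Cfsg.sigma L := sigma_of_dvd_sigmaCore hq hqL
  have hqM : q ∉ Cfsg.sigma M := fun h => by
    obtain ⟨g, hg⟩ := (Cfsg.Agent.S1378.result hG).2 M L hM hL ⟨q, h, hqσ⟩
    exact hnc g hg
  have hs := (mem_typeA1_iff hG hM hKU hx).1 (mem_typeA1_of_not_le hG hM hKU hx hC)
  obtain ⟨hκ, hτ⟩ := (Cfsg.Agent.S1436.result hG M hM x hs (fun e => one_notMem_typeA0 (e ▸ hx)) hC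
    L hL hCL).1 ⟨q, hqσ, hqC.trans (card_dvd_of_le inf_le_left)⟩
  have hy1 : y ≠ 1 := fun e => one_notMem_typeA0 (e ▸ hy)
  -- the `σ'`-elements of `M` centralising an element of `M_σ`
  have key : ∀ w ∈ Cfsg.sigmaCore M, w ≠ 1 → ∀ s : ℕ, s.Prime → s ∉ Cfsg.sigma M →
      ∀ z ∈ M, z * w = w * z → s ≠ orderOf z := by
    intro w hw hw1 s hsp hsσ z hz hzw e
    have hz1 : z ≠ 1 := fun h => hsp.one_lt.ne' (by rw [e, h, orderOf_one])
    rcases Cfsg.Agent.S1432.result hG M hM w hw hw1 z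
        ⟨hz, mem_centralizer_singleton_iff.2 hzw⟩ hz1 (fun p hp hd => by
          rw [← e] at hd
          rwa [(Nat.prime_dvd_prime_iff_eq hp hsp).1 hd]) with ⟨h, -⟩ | ⟨h, -⟩
    · exact Set.notMem_empty s (hκ ▸ h s hsp (by rw [← e]))
    · exact Set.notMem_empty s (hτ ▸ h s hsp (by rw [← e]))
  obtain ⟨⟨hyM, w, hw, hw1, hyw⟩⟩ := PLift.up (mem_sigmaHat_of_mem_typeA0 hG hM hKU hy)
  by_cases hys : y ∈ Cfsg.sigmaCore M
  · obtain ⟨⟨z, hz⟩, hzo⟩ := exists_prime_orderOf_dvd_card' q hqC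
    rw [Subgroup.orderOf_mk] at hzo
    exact key y hys hy1 q hq hqM z hz.1 (mem_centralizer_singleton_iff.1 hz.2) hzo.symm
  · rw [mem_sigmaCore_iff hG hM hyM] at hys
    push Not at hys
    obtain ⟨s, hsp, hsd, hsσ⟩ := hys
    refine key w hw hw1 s hsp hsσ (y ^ (orderOf y / s)) (pow_mem hyM _)
      ((show Commute y w from hyw).pow_left _).eq ?_
    exact (orderOf_pow_orderOf_div (orderOf_pos y).ne' hsd).symm

theorem supportData : SupportData M (Cfsg.typeA0 M) := by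
  refine ⟨fun x hx g hgx => fusion hG hM hKU hx hgx, fun x hx hC => ?_,
    fun x hx hC L hL hCL => ?_⟩
  · obtain ⟨L, hL, hCL, huniq, -⟩ := supporting hG hM hKU hx hC
    exact ⟨mem_typeA1_of_not_le hG hM hKU hx hC, L, ⟨hL, hCL⟩, fun L' h => huniq L' h.1 h.2⟩
  obtain ⟨N, hN, hCN, huniq, hF, -, hn, hR, -, -⟩ := supporting hG hM hKU hx hC
  obtain rfl := huniq L hL hCL
  rw [← hF]
  exact ⟨hn, isComplIn_swap hR (inf_le_right.trans hn),
    fun y hy => coprime_supporting hG hM hKU hx hC hN hCN hy⟩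

end CfsgLib.OddChar.MaxTypes
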