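import Cfsg.Agent.Lib.OddChar.Dade
import Cfsg.Agent.Lib.Char.Orth
import Cfsg.Agent.Lib.Char.Virtual
import Cfsg.Agent.Lib.Char.Complete

/-!
The Dade image of a generalized character supported in `A` is a generalized character:
`⟨α^τ, χ⟩` is an alternating sum over nonempty subsets `B` of `A` of inner products over
`H(B) ⋊ N_L(B)`.
-/

set_option autoImplicit false

open ComplexConjugate

namespace CfsgLib.OddChar

variable {G : Type*} [Group G]

open Classical in
/-- Averaging a `K`-invariant function over the coset `K * g`. -/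
theorem sum_coset_eq [Fintype G] (K : Subgroup G) (g : G)
    (hg : g ∈ Subgroup.normalizer (K : Set G))
    (hcop : Nat.Coprime (orderOf g) (Nat.card K)) (F : G → ℂ)
    (hF : ∀ x ∈ K, ∀ z, F (x * z * x⁻¹) = F z) :
    (Nat.card ↥(K ⊓ Subgroup.centralizer ({g} : Set G)) : ℂ) * ∑ h : K, F (h * g) =
      (Nat.card K : ℂ) *
        ∑ c : ↥(K ⊓ Subgroup.centralizer ({g} : Set G)), F (c * g) := by
  set C := K ⊓ Subgroup.centralizer ({g} : Set G)
  have hgn : ∀ z ∈ K, g * z * g⁻¹ ∈ K := fun z hz => (Subgroup.mem_normalizer_iff.1 hg z).1 hz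
  obtain ⟨k, hk⟩ := exists_pow_split (G := G) hcop
  have hcg : ∀ c ∈ C, c * g = g * c := fun c hc => Subgroup.mem_centralizer_singleton_iff.1 hc.2
  have hpow : ∀ c ∈ C, (c * g) ^ k = g := fun c hc => by
    rw [hcg c hc]
    exact hk g c (hcg c hc).symm (pow_orderOf_eq_one g) (pow_card_mem hc.1)
  let f : K × C → K := fun p =>
    ⟨(p.1 : G) * (p.2 : G) * (g * (p.1 : G)⁻¹ * g⁻¹),
      mul_mem (mul_mem p.1.2 p.2.2.1) (hgn _ (inv_mem p.1.2))⟩
  have hfib : ∀ z : K, Nat.card {p : K × C // f p = z} = Nat.card C := by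
    intro z
    obtain ⟨x, hx, c, hc, hcomm, e⟩ := exists_conj_centralizer_coset K g hg hcop z z.2
    have hzg : (z : G) * g = x⁻¹ * (c * g) * x := by rw [← e]; group
    have hcC : c ∈ C := ⟨hc, Subgroup.mem_centralizer_singleton_iff.2 hcomm⟩
    have hfz : ∀ p : K × C, f p = z ↔ (p.1 : G) * ((p.2 : G) * g) * (p.1 : G)⁻¹ = (z : G) * g := by
      intro p
      rw [Subtype.ext_iff]
      show (p.1 : G) * (p.2 : G) * (g * (p.1 : G)⁻¹ * g⁻¹) = (z : G) ↔ _
      refine ⟨fun h => by rw [← h]; group, fun h => mul_right_cancel (b := g) ?_⟩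
      rw [← h]; group
    symm
    refine Nat.card_eq_of_bijective
      (fun y : C => (⟨(⟨x⁻¹ * y, mul_mem (inv_mem hx) y.2.1⟩,
        ⟨(y : G)⁻¹ * c * y, mul_mem (mul_mem (inv_mem y.2) hcC) y.2⟩), (hfz _).2 (by
          rw [hzg]
          calc (x⁻¹ * (y : G)) * ((y : G)⁻¹ * c * y * g) * (x⁻¹ * (y : G))⁻¹
              = x⁻¹ * c * ((y : G) * g) * (y : G)⁻¹ * x := by group
            _ = x⁻¹ * c * (g * (y : G)) * (y : G)⁻¹ * x := by rw [hcg y y.2]
            _ = _ := by group)⟩ : {p : K × C // f p = z})) ⟨?_, ?_⟩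
    · intro y y' h
      exact Subtype.ext (mul_left_cancel (congrArg (fun p => ((p.1.1 : K) : G)) h))
    · rintro ⟨⟨x', c'⟩, hp⟩
      have h1 := (hfz _).1 hp
      rw [hzg] at h1
      set y := x * (x' : G)
      have h2 : y * ((c' : G) * g) * y⁻¹ = c * g := by
        calc _ = x * ((x' : G) * ((c' : G) * g) * (x' : G)⁻¹) * x⁻¹ := by simp only [y]; group
          _ = _ := by rw [h1]; group
      have h3 : y * g * y⁻¹ = g := by
        have := congrArg (fun w => w ^ k) h2
        simpa only [conj_pow, hpow _ c'.2, hpow _ hcC] using this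
      have hyC : y ∈ C := ⟨mul_mem hx x'.2, Subgroup.mem_centralizer_singleton_iff.2 (by
        calc y * g = y * g * y⁻¹ * y := by group
          _ = g * y := by rw [h3])⟩
      have h4 : y * (c' : G) * y⁻¹ = c := by
        apply mul_right_cancel (b := g)
        calc y * (c' : G) * y⁻¹ * g = y * (c' : G) * y⁻¹ * (y * g * y⁻¹) := by rw [h3]
          _ = c * g := by rw [← h2]; group
      refine ⟨⟨y, hyC⟩, Subtype.ext (Prod.ext (Subtype.ext ?_) (Subtype.ext ?_))⟩
      · show x⁻¹ * y = (x' : G)
        simp [y]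
      · show y⁻¹ * c * y = (c' : G)
        rw [← h4]; group
  have hval : ∀ p : K × C, F ((p.2 : G) * g) = F ((f p : G) * g) := by
    intro p
    rw [← hF _ p.1.2 ((p.2 : G) * g)]
    congr 1
    show _ = (p.1 : G) * (p.2 : G) * (g * (p.1 : G)⁻¹ * g⁻¹) * g
    group
  calc (Nat.card C : ℂ) * ∑ h : K, F (h * g)
      = ∑ h : K, ∑ p ∈ Finset.univ.filter (fun p => f p = h), F ((p.2 : G) * g) := by
        rw [Finset.mul_sum]
        refine Finset.sum_congr rfl fun h _ => ?_
        rw [Finset.sum_congr rfl (fun p hp => by rw [hval p, (Finset.mem_filter.1 hp).2]),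
          Finset.sum_const, ← Fintype.card_subtype, ← Nat.card_eq_fintype_card, hfib h, nsmul_eq_mul]
    _ = _ := by
        rw [Finset.sum_fiberwise, Fintype.sum_prod_type]
        simp [Nat.card_eq_fintype_card]

theorem exists_int_classInner_gen {K : Type*} [Group K] [Fintype K] {θ η : K → ℂ}
    (hθ : Cfsg.IsGeneralizedCharacter K θ) (hη : Cfsg.IsGeneralizedCharacter K η) :
    ∃ z : ℤ, Cfsg.classInner θ η = z := by
  obtain ⟨a, b, ha, hb, rfl⟩ := hθ
  obtain ⟨c, d, hc, hd, rfl⟩ := hη
  obtain ⟨n₁, e₁⟩ := CfsgLib.Char.IsCharacter.exists_nat_classInner' ha hc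
  obtain ⟨n₂, e₂⟩ := CfsgLib.Char.IsCharacter.exists_nat_classInner' ha hd
  obtain ⟨n₃, e₃⟩ := CfsgLib.Char.IsCharacter.exists_nat_classInner' hb hc
  obtain ⟨n₄, e₄⟩ := CfsgLib.Char.IsCharacter.exists_nat_classInner' hb hd
  exact ⟨(n₁ : ℤ) - n₂ - n₃ + n₄, by
    simp only [CfsgLib.Char.classInner_sub_left, CfsgLib.Char.classInner_sub_right, e₁, e₂, e₃, e₄]
    push_cast; ring⟩

/-- The inner product over a semidirect product of an inflated and a restricted character. -/
theorem exists_int_semidirect_sum [Fintype G] (K N : Subgroup G)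
    (hN : N ≤ Subgroup.normalizer (K : Set G)) [Fintype K] [Fintype N]
    {β : N → ℂ} (hβ : Cfsg.IsGeneralizedCharacter N β)
    {χ : G → ℂ} (hχ : Cfsg.IsGeneralizedCharacter G χ) :
    ∃ z : ℤ, ∑ y : N, β y * ∑ h : K, conj (χ (h * y)) =
      (z : ℂ) * ((Nat.card K : ℂ) * Nat.card N) := by
  classical
  have hmem : ∀ (y : N) (h : K), (y : G) * h * (y : G)⁻¹ ∈ K := fun y h =>
    (Subgroup.mem_normalizer_iff.1 (hN y.2) h).1 h.2
  let act : N →* MulAut K :=
    { toFun := fun y =>
        { toFun := fun h => ⟨(y : G) * h * (y : G)⁻¹, hmem y h⟩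
          invFun := fun h => ⟨(y : G)⁻¹ * h * y, by simpa using hmem y⁻¹ h⟩
          left_inv := fun h => Subtype.ext (by simp [mul_assoc])
          right_inv := fun h => Subtype.ext (by simp [mul_assoc])
          map_mul' := fun h h' => Subtype.ext (by simp [mul_assoc]) }
      map_one' := MulEquiv.ext fun h => Subtype.ext (by simp)
      map_mul' := fun y y' => MulEquiv.ext fun h => Subtype.ext (by simp [mul_assoc]) }
  let M := K ⋊[act] N
  let ι : M →* G :=
    { toFun := fun m => (m.left : G) * m.right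
      map_one' := by simp
      map_mul' := fun m m' => by
        show ((m.left * act m.right m'.left : K) : G) * ((m.right * m'.right : N) : G) = _
        simp [act, mul_assoc] }
  letI : Fintype M := Fintype.ofEquiv _ SemidirectProduct.equivProd.symm
  obtain ⟨z, hz⟩ := exists_int_classInner_gen (K := M)
    (CfsgLib.Char.IsGeneralizedCharacter.comp hβ SemidirectProduct.rightHom)
    (CfsgLib.Char.IsGeneralizedCharacter.comp hχ ι)
  refine ⟨z, ?_⟩
  rw [← hz, Cfsg.classInner, mul_comm _ ((Nat.card K : ℂ) * _), ← mul_assoc,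
    show (Nat.card M : ℂ) = (Nat.card K : ℂ) * Nat.card N by
      rw [← Nat.cast_mul, ← Nat.card_prod]; exact congrArg _ (Nat.card_congr SemidirectProduct.equivProd),
    mul_inv_cancel₀ (mul_ne_zero (Nat.cast_ne_zero.2 Nat.card_pos.ne')
      (Nat.cast_ne_zero.2 Nat.card_pos.ne')), one_mul,
    Finset.sum_congr rfl (fun y _ => Finset.mul_sum _ _ _), Finset.sum_comm,
    ← Fintype.sum_prod_type']
  exact (Fintype.sum_equiv SemidirectProduct.equivProd _ _ (fun m => rfl)).symm

section Virtual

open Classical Pointwise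

variable {A : Set G} {L : Subgroup G} {H : G → Subgroup G} [Fintype G] [Fintype L]

/-- `H(B)`: the intersection of the `H b`, `b ∈ B`. -/
def dadeH (H : G → Subgroup G) (B : Finset {a : L // (a : G) ∈ A}) : Subgroup G :=
  ⨅ b ∈ B, H ((b.1 : L) : G)

omit [Fintype G] [Fintype L] in
theorem mem_dadeH {B : Finset {a : L // (a : G) ∈ A}} {z : G} :
    z ∈ dadeH H B ↔ ∀ b ∈ B, z ∈ H ((b.1 : L) : G) := by
  simp [dadeH, Subgroup.mem_iInf]

omit [Fintype G] [Fintype L] in
theorem dadeH_singleton (b : {a : L // (a : G) ∈ A}) : dadeH H {b} = H ((b.1 : L) : G) := by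
  ext z; simp [mem_dadeH]

theorem dade_inner_int (hD : Cfsg.DadeHypothesis A L H) {α : L → ℂ}
    (hα : Cfsg.IsGeneralizedCharacter L α) (hαA : ∀ x : L, (x : G) ∉ A → α x = 0)
    {χ : G → ℂ} (hχ : Cfsg.IsGeneralizedCharacter G χ) :
    ∃ z : ℤ, (∑ a : L, if (a : G) ∈ A then
      α a * ((Nat.card (H (a : G)) : ℂ)⁻¹ * ∑ u : H (a : G), conj (χ ((a : G) * u))) else 0) =
      (z : ℂ) * Nat.card L := by
  let T := {a : L // (a : G) ∈ A}
  letI : MulAction L T :=
    { smul := fun l a => ⟨l * a.1 * l⁻¹, by simpa using hD.conj_mem l l.2 _ a.2⟩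
      one_smul := fun a => Subtype.ext (show (1 : L) * a.1 * 1⁻¹ = a.1 by simp)
      mul_smul := fun l m a => Subtype.ext (show (l * m) * a.1 * (l * m)⁻¹ =
        l * (m * a.1 * m⁻¹) * l⁻¹ by group) }
  have smul_val : ∀ (l : L) (a : T), (l • a).1 = l * a.1 * l⁻¹ := fun _ _ => rfl
  have hclass := CfsgLib.Char.IsGeneralizedCharacter.isClassFunction hχ
  let avg : Finset T → L → ℂ := fun B y =>
    (Nat.card (dadeH H B) : ℂ)⁻¹ * ∑ h : dadeH H B, conj (χ ((h : G) * (y : G)))
  have hHconj : ∀ (l : L) (B : Finset T) (z : G), z ∈ dadeH H B →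
      (l : G) * z * (l : G)⁻¹ ∈ dadeH H (l • B) := by
    intro l B z hz
    rw [mem_dadeH] at hz ⊢
    intro b hb
    obtain ⟨b₀, hb₀, rfl⟩ := Finset.mem_smul_finset.1 hb
    rw [smul_val]
    simpa using dade_H_conj_mem hD b₀.2 l.2 (hz b₀ hb₀)
  have hHconj' : ∀ (l : L) (B : Finset T) (z : G), z ∈ dadeH H (l • B) →
      (l : G)⁻¹ * z * l ∈ dadeH H B := by
    intro l B z hz
    simpa using hHconj l⁻¹ (l • B) z hz
  have hins : ∀ (B : Finset T) (y : T), B.Nonempty → y.1 • B = B →
      avg B y.1 = avg (insert y B) y.1 := by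
    intro B y hB hy
    obtain ⟨b, hb⟩ := hB
    set K := dadeH H B with hK
    have hle : K ≤ H (b.1 : G) := fun z hz => mem_dadeH.1 hz b hb
    have hn : ((y.1 : L) : G) ∈ Subgroup.normalizer (K : Set G) := by
      refine Subgroup.mem_normalizer_iff.2 fun z => ⟨fun hz => ?_, fun hz => ?_⟩
      · have := hHconj y.1 B z hz
        rwa [hy] at this
      · have := hHconj' y.1 B ((y.1 : G) * z * (y.1 : G)⁻¹) (by rw [hy]; exact hz)
        simpa [mul_assoc] using this
    have hord : orderOf ((y.1 : L) : G) ∣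
        Nat.card ↥(L ⊓ Subgroup.centralizer ({((y.1 : L) : G)} : Set G)) :=
      orderOf_dvd_of_pow_eq_one (dade_pow_card_eq_one hD y.2)
    have hcop : Nat.Coprime (orderOf ((y.1 : L) : G)) (Nat.card K) :=
      ((hD.coprime _ b.2 _ y.2).symm.coprime_dvd_left hord).coprime_dvd_right
        (Subgroup.card_dvd_of_le hle)
    have hCeq : K ⊓ Subgroup.centralizer ({((y.1 : L) : G)} : Set G) = dadeH H (insert y B) := by
      ext z
      rw [Subgroup.mem_inf, mem_dadeH, mem_dadeH]
      constructor
      · rintro ⟨h1, h2⟩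
        intro c hc
        rcases Finset.mem_insert.1 hc with rfl | hc
        · obtain ⟨l, hl, u, hu, e⟩ := dade_centralizer_split hD c.2 h2
          obtain ⟨k, hk⟩ := exists_pow_split (G := G) ((hD.coprime _ b.2 _ c.2).symm)
          have hpow : ∀ n : ℕ, ∃ w ∈ H (c.1 : G), (l * u) ^ n = l ^ n * w := by
            intro n
            induction n with
            | zero => exact ⟨1, one_mem _, by simp⟩
            | succ n ih =>
              obtain ⟨w, hw, e'⟩ := ih
              refine ⟨l⁻¹ * w * l * u, mul_mem ?_ hu, ?_⟩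
              · simpa using hD.conj_mem_H _ c.2 l⁻¹ (inv_mem hl.2) w hw
              · rw [pow_succ, e', pow_succ]; group
          obtain ⟨w, hw, e'⟩ := hpow (Nat.card (H (b.1 : G)))
          rw [← e, pow_card_mem (h1 b hb)] at e'
          have h3 : l ^ Nat.card (H (b.1 : G)) ∈
              H (c.1 : G) ⊓ (L ⊓ Subgroup.centralizer ({((c.1 : L) : G)} : Set G)) := by
            refine ⟨?_, pow_mem hl _⟩
            rw [eq_inv_of_mul_eq_one_left e'.symm]
            exact (H _).inv_mem hw
          rw [hD.inf_eq_bot _ c.2, Subgroup.mem_bot] at h3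
          have h4 : l = 1 := orderOf_eq_one_iff.1
            (Nat.eq_one_of_dvd_coprimes (hD.coprime _ b.2 _ c.2) (orderOf_dvd_of_pow_eq_one h3)
              (orderOf_dvd_of_pow_eq_one (pow_card_mem hl)))
          rw [e, h4, one_mul]; exact hu
        · exact h1 c hc
      · intro h
        exact ⟨fun c hc => h c (Finset.mem_insert_of_mem hc),
          hD.le_centralizer _ y.2 (h y (Finset.mem_insert_self _ _))⟩
    have hF : ∀ x ∈ K, ∀ z, (fun w => conj (χ w)) (x * z * x⁻¹) = (fun w => conj (χ w)) z :=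
      fun x _ z => by simp only [hclass z x]
    have h := sum_coset_eq K _ hn hcop (fun w => conj (χ w)) hF
    rw [hCeq] at h
    show (Nat.card K : ℂ)⁻¹ * _ = (Nat.card (dadeH H (insert y B)) : ℂ)⁻¹ * _
    have h1 : (Nat.card K : ℂ) ≠ 0 := Nat.cast_ne_zero.2 Nat.card_pos.ne'
    have h2 : (Nat.card (dadeH H (insert y B)) : ℂ) ≠ 0 := Nat.cast_ne_zero.2 Nat.card_pos.ne'
    field_simp
    linear_combination h
  let s : Finset T → ℂ := fun B => if B.Nonempty then -(-1) ^ B.card else 0
  let term : Finset T → ℂ := fun B => ∑ y : T, if y.1 • B = B then α y.1 * avg B y.1 else 0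
  have hcancel : ∀ y : T, ∑ B : Finset T, (if y.1 • B = B then s B * avg B y.1 else 0) =
      avg {y} y.1 := by
    intro y
    have hy : y.1 • y = y := Subtype.ext (by rw [smul_val]; group)
    have hiff : ∀ B : Finset T, y ∉ B → (y.1 • (insert y B) = insert y B ↔ y.1 • B = B) := by
      intro B hB
      rw [Finset.smul_finset_insert, hy]
      refine ⟨fun h => ?_, fun h => by rw [h]⟩
      have h' : y ∉ y.1 • B := by
        intro hm
        obtain ⟨b, hb, e⟩ := Finset.mem_smul_finset.1 hm
        exact hB (MulAction.injective y.1 (e.trans hy.symm) ▸ hb)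
      rw [← Finset.erase_insert h', h, Finset.erase_insert hB]
    rw [← Finset.sum_filter_add_sum_filter_not Finset.univ (fun B : Finset T => y ∈ B)]
    have hbij : ∑ B ∈ Finset.univ.filter (fun B : Finset T => y ∈ B),
        (if y.1 • B = B then s B * avg B y.1 else 0) =
        ∑ B ∈ Finset.univ.filter (fun B : Finset T => y ∉ B),
        (if y.1 • B = B then -(-1) ^ (B.card + 1) * avg (insert y B) y.1 else 0) := by
      refine Finset.sum_bij' (fun B _ => B.erase y) (fun B _ => insert y B) ?_ ?_ ?_ ?_ ?_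
      · intro B _; simp
      · intro B _; simp
      · intro B hB; exact Finset.insert_erase (Finset.mem_filter.1 hB).2
      · intro B hB; exact Finset.erase_insert (Finset.mem_filter.1 hB).2
      · intro B hB
        have hB' := (Finset.mem_filter.1 hB).2
        obtain ⟨B', hB'y, rfl⟩ : ∃ B', y ∉ B' ∧ insert y B' = B :=
          ⟨B.erase y, by simp, Finset.insert_erase hB'⟩
        rw [Finset.erase_insert hB'y]
        refine ite_congr (propext (hiff B' hB'y)) (fun _ => ?_) (fun _ => rfl)
        simp [s, Finset.card_insert_of_notMem hB'y]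
    rw [hbij, ← Finset.sum_add_distrib, Finset.sum_eq_single ∅]
    · simp [s]
    · intro B hB hne
      split_ifs with h
      · have hB' := Finset.nonempty_iff_ne_empty.2 hne
        rw [hins B y hB' h]
        simp [s, hB', pow_succ]
      · simp
    · simp
  have hmain : (∑ a : L, if (a : G) ∈ A then
      α a * ((Nat.card (H (a : G)) : ℂ)⁻¹ * ∑ u : H (a : G), conj (χ ((a : G) * u))) else 0) =
      ∑ B : Finset T, s B * term B := by
    simp only [term, Finset.mul_sum, mul_ite, mul_zero]
    rw [Finset.sum_comm]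
    have : ∀ y : T, ∑ B : Finset T, (if y.1 • B = B then s B * (α y.1 * avg B y.1) else 0) =
        α y.1 * avg {y} y.1 := by
      intro y
      rw [← hcancel y, Finset.mul_sum]
      exact Finset.sum_congr rfl fun B _ => by split_ifs <;> ring
    rw [Finset.sum_congr rfl (fun y _ => this y), ← Finset.sum_filter,
      Finset.sum_subtype (p := fun a : L => (a : G) ∈ A) _ (by simp)]
    refine Finset.sum_congr rfl fun y _ => ?_
    have hK : ∀ K : Subgroup G, K = H ((y.1 : L) : G) →
        (Nat.card K : ℂ)⁻¹ * ∑ h : K, conj (χ ((h : G) * (y.1 : G))) =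
        (Nat.card (H ((y.1 : L) : G)) : ℂ)⁻¹ * ∑ u : H ((y.1 : L) : G), conj (χ ((y.1 : G) * u)) := by
      rintro _ rfl
      congr 1
      refine Finset.sum_congr rfl fun u _ => ?_
      rw [dade_commute hD y.2 u.2]
    show _ = α y.1 * ((Nat.card (dadeH H {y}) : ℂ)⁻¹ * ∑ h : dadeH H {y}, conj (χ ((h : G) * (y.1 : G))))
    rw [hK _ (dadeH_singleton y)]
    simp only [Finset.mul_sum]
  rw [hmain]
  have hint : ∀ B : Finset T, ∃ z : ℤ,
      s B * term B = (z : ℂ) * Nat.card (MulAction.stabilizer L B) := by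
    intro B
    by_cases hB : B.Nonempty
    swap
    · exact ⟨0, by simp [s, hB]⟩
    let N := (MulAction.stabilizer L B).map L.subtype
    let e : MulAction.stabilizer L B ≃* N := Subgroup.equivMapOfInjective _ _ L.subtype_injective
    have hNn : N ≤ Subgroup.normalizer (dadeH H B : Set G) := by
      rintro _ ⟨l, hl, rfl⟩
      refine Subgroup.mem_normalizer_iff.2 fun z => ⟨fun hz => ?_, fun hz => ?_⟩
      · have := hHconj l B z hz
        rwa [MulAction.mem_stabilizer_iff.1 hl] at this
      · have := hHconj' l B ((l : G) * z * (l : G)⁻¹)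
          (by rw [MulAction.mem_stabilizer_iff.1 hl]; exact hz)
        simpa [mul_assoc] using this
    obtain ⟨z, hz⟩ := exists_int_semidirect_sum (dadeH H B) N hNn
      (CfsgLib.Char.IsGeneralizedCharacter.comp hα ((MulAction.stabilizer L B).subtype.comp e.symm.toMonoidHom)) hχ
    have hterm : term B = (z : ℂ) * Nat.card (MulAction.stabilizer L B) := by
      have h1 : (Nat.card (dadeH H B) : ℂ) * term B =
          (z : ℂ) * ((Nat.card (dadeH H B) : ℂ) * Nat.card N) := by
        rw [← hz, ← Fintype.sum_equiv e.toEquiv (fun l : MulAction.stabilizer L B =>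
          α l.1 * ∑ h : dadeH H B, conj (χ ((h : G) * (l.1 : G)))) _ (fun l => ?_)]
        · have h2 : ∑ l : MulAction.stabilizer L B,
              α l.1 * ∑ h : dadeH H B, conj (χ ((h : G) * (l.1 : G))) =
              ∑ l : L, if l • B = B then α l * ∑ h : dadeH H B, conj (χ ((h : G) * (l : G))) else 0 := by
            rw [← Finset.sum_filter, Finset.sum_subtype (p := fun l : L => l ∈ MulAction.stabilizer L B) _ (by simp)]
          rw [h2, Finset.mul_sum]
          have h3 : ∀ l : L, (if l • B = B then α l * ∑ h : dadeH H B, conj (χ ((h : G) * (l : G))) else 0) =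
              if (l : G) ∈ A then
                (Nat.card (dadeH H B) : ℂ) * (if l • B = B then α l * avg B l else 0) else 0 := by
            intro l
            split_ifs with hl hA
            · simp only [avg]
              field_simp [Nat.cast_ne_zero.2 (Nat.card_pos (α := dadeH H B)).ne']
            · rw [hαA l hA, zero_mul]
            · ring
            · rfl
          rw [Finset.sum_congr rfl (fun l _ => h3 l), ← Finset.sum_filter,
            Finset.sum_subtype (p := fun a : L => (a : G) ∈ A) _ (by simp)]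
        · simp only [MulEquiv.toEquiv_eq_coe, EquivLike.coe_coe, MonoidHom.comp_apply,
            MulEquiv.coe_toMonoidHom, MulEquiv.symm_apply_apply, Subgroup.coe_subtype]
          rfl
      rw [Nat.card_congr e.toEquiv]
      apply mul_left_cancel₀ (Nat.cast_ne_zero.2 (Nat.card_pos (α := dadeH H B)).ne' : (Nat.card (dadeH H B) : ℂ) ≠ 0)
      linear_combination h1
    refine ⟨-(-1) ^ B.card * z, ?_⟩
    rw [hterm]
    simp only [s, if_pos hB]
    push_cast
    ring
  have hinv : ∀ (l : L) (B : Finset T), s (l • B) * term (l • B) = s B * term B := by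
    intro l B
    have h1 : s (l • B) = s B := by simp [s, Finset.card_smul_finset]
    rw [h1]
    congr 1
    refine (Fintype.sum_equiv (MulAction.toPerm l) _ _ fun y => ?_).symm
    simp only [MulAction.toPerm_apply, smul_val]
    have h2 : (l * y.1 * l⁻¹) • (l • B) = l • (y.1 • B) := by
      rw [smul_smul, smul_smul]; congr 1; group
    refine ite_congr (propext (by rw [h2, smul_left_cancel_iff])) (fun _ => ?_) (fun _ => rfl)
    rw [CfsgLib.Char.IsGeneralizedCharacter.isClassFunction hα y.1 l]
    congr 1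
    simp only [avg]
    let e : dadeH H B ≃ dadeH H (l • B) :=
      { toFun := fun h => ⟨(l : G) * h * (l : G)⁻¹, hHconj l B h h.2⟩
        invFun := fun h => ⟨(l : G)⁻¹ * h * l, hHconj' l B h h.2⟩
        left_inv := fun h => Subtype.ext (by simp [mul_assoc])
        right_inv := fun h => Subtype.ext (by simp [mul_assoc]) }
    rw [Nat.card_congr e]
    congr 1
    refine Fintype.sum_equiv e _ _ fun h => ?_
    congr 1
    rw [← hclass ((h : G) * (y.1 : G)) (l : G)]
    congr 1
    simp [e, mul_assoc]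
  choose z hz using hint
  let π : Finset T → MulAction.orbitRel.Quotient L (Finset T) := Quotient.mk''
  refine ⟨∑ q : MulAction.orbitRel.Quotient L (Finset T), z q.out, ?_⟩
  rw [← Finset.sum_fiberwise Finset.univ π, Int.cast_sum, Finset.sum_mul]
  refine Finset.sum_congr rfl fun q _ => ?_
  have hq : ∀ B, π B = q ↔ B ∈ MulAction.orbit L q.out := by
    intro B
    rw [← MulAction.orbitRel_apply]
    exact ⟨fun h => Quotient.eq''.1 (h.trans q.out_eq.symm),
      fun h => (Quotient.eq''.2 h).trans q.out_eq⟩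
  have hcongr : ∀ B ∈ Finset.univ.filter (fun B => π B = q), s B * term B = s q.out * term q.out := by
    intro B hB
    obtain ⟨l, rfl⟩ := (hq B).1 (Finset.mem_filter.1 hB).2
    exact hinv l _
  rw [Finset.sum_congr rfl hcongr, Finset.sum_const, nsmul_eq_mul, hz]
  have hcard : (Finset.univ.filter (fun B => π B = q)).card = Nat.card (MulAction.orbit L q.out) := by
    rw [← Fintype.card_subtype, ← Nat.card_eq_fintype_card]
    exact Nat.card_congr (Equiv.subtypeEquivRight hq)
  have hos : Nat.card (MulAction.orbit L q.out) * Nat.card (MulAction.stabilizer L q.out) =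
      Nat.card L := by
    rw [← Nat.card_prod]
    exact Nat.card_congr (MulAction.orbitProdStabilizerEquivGroup L q.out)
  rw [hcard, ← hos]
  push_cast
  ring

theorem dadeIsometry_isGeneralizedCharacter (hD : Cfsg.DadeHypothesis A L H) {α : L → ℂ}
    (hα : Cfsg.IsGeneralizedCharacter L α) (hαA : ∀ x : L, (x : G) ∉ A → α x = 0) :
    Cfsg.IsGeneralizedCharacter G (Cfsg.dadeIsometry A L H α) := by
  have hcl := CfsgLib.Char.IsGeneralizedCharacter.isClassFunction hα
  have hcl' := dadeIsometry_isClassFunction hD hcl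
  rw [CfsgLib.Char.IsClassFunction.eq_sum_classInner hcl']
  refine CfsgLib.Char.IsGeneralizedCharacter.sum _ _ fun χ _ => ?_
  have hint : ∃ z : ℤ, Cfsg.classInner (Cfsg.dadeIsometry A L H α) (χ : G → ℂ) = z := by
    have hχ := CfsgLib.Char.IsIrrCharacter.isClassFunction χ.2
    have hF : ∀ g x : G, (fun w => Cfsg.dadeIsometry A L H α w * conj ((χ : G → ℂ) w)) (x * g * x⁻¹) =
        (fun w => Cfsg.dadeIsometry A L H α w * conj ((χ : G → ℂ) w)) g := fun g x => by
      simp only [hcl' g x, hχ g x]
    have h := dade_sum_classFun hD (fun w => Cfsg.dadeIsometry A L H α w * conj ((χ : G → ℂ) w)) hF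
    rw [Finset.sum_filter_of_ne (fun g _ hne => by
      by_contra hg
      exact hne (by rw [dadeIsometry_eq_zero hg, zero_mul]))] at h
    obtain ⟨z, hz⟩ := dade_inner_int hD hα hαA (χ := (χ : G → ℂ))
      (CfsgLib.Char.IsIrrCharacter.isGeneralizedCharacter χ.2)
    refine ⟨z, ?_⟩
    rw [Cfsg.classInner, h]
    apply mul_left_cancel₀ (Nat.cast_ne_zero.2 (Nat.card_pos (α := L)).ne' : (Nat.card L : ℂ) ≠ 0)
    rw [← mul_assoc, mul_inv_cancel₀ (Nat.cast_ne_zero.2 (Nat.card_pos (α := L)).ne'), one_mul,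
      mul_comm _ (z : ℂ), ← hz]
    refine Finset.sum_congr rfl fun a _ => ?_
    split_ifs with ha
    · rw [Finset.sum_congr rfl (fun u _ => by rw [dadeIsometry_apply hD hcl a ha u.2 (x := 1) (by group)]),
        ← Finset.mul_sum]
      ring
    · rfl
  obtain ⟨z, hz⟩ := hint
  rw [hz]
  exact CfsgLib.Char.IsGeneralizedCharacter.intCast_smul
    (CfsgLib.Char.IsIrrCharacter.isGeneralizedCharacter χ.2) z

end Virtual

end CfsgLib.OddChar
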