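import Cfsg.Prelude.Def_OddOrderChar
import Cfsg.Agent.Lib.Char.Orth
import Cfsg.Agent.Lib.Char.Complete
import Cfsg.Agent.Lib.Char.Virtual
import Cfsg.Agent.Lib.Char.Conj
import Cfsg.Agent.Lib.Char.Exceptional

/-!
Generalized characters of norm one, conjugates and integer spans, for coherence.
-/

set_option autoImplicit false

open ComplexConjugate

namespace CfsgLib.OddChar

variable {G : Type*} [Group G] [Fintype G]

theorem exists_int_coeff {θ : G → ℂ} (hθ : Cfsg.IsGeneralizedCharacter G θ) :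
    ∃ z : Cfsg.IrrCharacter G → ℤ, (θ = ∑ χ, (z χ : ℂ) • (χ : G → ℂ)) ∧
      (∀ χ : Cfsg.IrrCharacter G, Cfsg.classInner θ χ = z χ) ∧
      Cfsg.classInner θ θ = (∑ χ, z χ ^ 2 : ℤ) := by
  choose z hz using fun χ : Cfsg.IrrCharacter G => CfsgLib.CharExc.exists_int_classInner hθ χ.2
  have e : θ = ∑ χ, (z χ : ℂ) • (χ : G → ℂ) := by
    conv_lhs => rw [CfsgLib.Char.IsClassFunction.eq_sum_classInner
      (CfsgLib.Char.IsGeneralizedCharacter.isClassFunction hθ)]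
    simp_rw [hz]
  refine ⟨z, e, hz, ?_⟩
  conv_lhs => rw [e, CfsgLib.Char.classInner_sum_smul_sum_smul]
  push_cast
  refine Finset.sum_congr rfl fun χ _ => ?_
  simp [sq]

theorem irr_or_neg_of_norm_one {θ : G → ℂ} (hθ : Cfsg.IsGeneralizedCharacter G θ)
    (h1 : Cfsg.classInner θ θ = 1) : Cfsg.IsIrrCharacter G θ ∨ Cfsg.IsIrrCharacter G (-θ) := by
  classical
  obtain ⟨z, e, -, hn⟩ := exists_int_coeff hθ
  rw [h1] at hn
  have hn' : ∑ χ, z χ ^ 2 = 1 := by exact_mod_cast hn.symm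
  obtain ⟨χ₀, hχ₀⟩ : ∃ χ, z χ ≠ 0 := by
    by_contra h
    simp only [not_exists, not_not] at h
    simp [h] at hn'
  have hle : z χ₀ ^ 2 ≤ 1 :=
    hn' ▸ Finset.single_le_sum (f := fun χ => z χ ^ 2) (fun χ _ => sq_nonneg _) (Finset.mem_univ χ₀)
  have h0 : ∀ χ, χ ≠ χ₀ → z χ = 0 := by
    intro χ hne
    rw [← Finset.add_sum_erase _ _ (Finset.mem_univ χ₀)] at hn'
    have hpos : 0 < z χ₀ ^ 2 := by positivity
    have : ∑ x ∈ Finset.univ.erase χ₀, z x ^ 2 = 0 := by omega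
    have := (Finset.sum_eq_zero_iff_of_nonneg (fun x _ => sq_nonneg (z x))).1 this χ (by simp [hne])
    simpa using this
  rw [Finset.sum_eq_single χ₀ (fun χ _ hne => by simp [h0 χ hne]) (by simp)] at e
  have hz : z χ₀ = 1 ∨ z χ₀ = -1 := by
    have : z χ₀ ^ 2 = 1 := le_antisymm hle (by
      have : 0 < z χ₀ ^ 2 := by positivity
      omega)
    exact sq_eq_one_iff.1 this
  rcases hz with h | h
  · left; rw [e, h]; simpa using χ₀.2
  · right; rw [e, h]; simpa using χ₀.2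

theorem conjFun_sub {X : Type*} (a b : X → ℂ) :
    Cfsg.conjFun (a - b) = Cfsg.conjFun a - Cfsg.conjFun b := by
  funext x; simp [Cfsg.conjFun]

theorem conjFun_conjFun {X : Type*} (a : X → ℂ) : Cfsg.conjFun (Cfsg.conjFun a) = a := by
  funext x; simp [Cfsg.conjFun]

theorem conj_apply_one {χ : G → ℂ} (hχ : Cfsg.IsCharacter G χ) : conj (χ 1) = χ 1 := by
  obtain ⟨n, hn⟩ := CfsgLib.Char.IsCharacter.exists_degree hχ
  rw [hn, map_natCast]

theorem isIrrCharacter_conjFun {χ : G → ℂ} (hχ : Cfsg.IsIrrCharacter G χ) :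
    Cfsg.IsIrrCharacter G (Cfsg.conjFun χ) :=
  CfsgLib.Char.IsIrrCharacter.conj_apply' hχ

theorem mem_zspan_self {X : Type*} {S : Set (X → ℂ)} {χ : X → ℂ} (h : χ ∈ S) : χ ∈ Cfsg.zspan S :=
  Submodule.subset_span h

theorem sub_conjFun_mem_zspanOn {L : Type*} [Group L] [Fintype L] {S : Set (L → ℂ)}
    (hS : ∀ χ ∈ S, Cfsg.IsCharacter L χ) {χ : L → ℂ} (hχ : χ ∈ S) (hc : Cfsg.conjFun χ ∈ S) :
    χ - Cfsg.conjFun χ ∈ Cfsg.zspanOn S {1}ᶜ := by
  refine ⟨Submodule.sub_mem _ (mem_zspan_self hχ) (mem_zspan_self hc), fun x hx => ?_⟩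
  have : x = 1 := by simpa using hx
  subst this
  simp [Cfsg.conjFun, conj_apply_one (hS χ hχ)]

end CfsgLib.OddChar
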