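import Mathlib
import Cfsg.Prelude.Def_OddOrderChar
import Cfsg.Agent.Lib.OddChar.Virt

/-!
Coherence toolkit: extension of a map defined on an orthogonal family, projection onto an
orthonormal set of generalized characters, and basic properties of coherence systems.
-/

set_option autoImplicit false

open ComplexConjugate

namespace CfsgLib.OddChar.Coh

variable {L : Type*} [Group L] [Fintype L] {G : Type*} [Group G] [Fintype G]

theorem classInner_self_eq (θ : G → ℂ) :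
    Cfsg.classInner θ θ = (((Nat.card G : ℝ)⁻¹ * ∑ g, ‖θ g‖ ^ 2 : ℝ) : ℂ) := by
  rw [Cfsg.classInner]
  push_cast
  congr 1
  refine Finset.sum_congr rfl fun g _ => ?_
  rw [Complex.mul_conj']

theorem classInner_self_im (θ : G → ℂ) : (Cfsg.classInner θ θ).im = 0 := by
  rw [classInner_self_eq, Complex.ofReal_im]

theorem classInner_self_nonneg (θ : G → ℂ) : 0 ≤ (Cfsg.classInner θ θ).re := by
  rw [classInner_self_eq, Complex.ofReal_re]
  positivity

theorem eq_zero_of_classInner_self {θ : G → ℂ} (h : (Cfsg.classInner θ θ).re ≤ 0) : θ = 0 := by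
  rw [classInner_self_eq, Complex.ofReal_re] at h
  have h1 : ∑ g, ‖θ g‖ ^ 2 ≤ 0 := by
    by_contra hc
    rw [not_le] at hc
    have hG : (0 : ℝ) < (Nat.card G : ℝ)⁻¹ := inv_pos.2 (Nat.cast_pos.2 Nat.card_pos)
    have := mul_pos hG hc
    linarith
  funext g
  have := Finset.single_le_sum (f := fun g => ‖θ g‖ ^ 2) (fun g _ => sq_nonneg _) (Finset.mem_univ g)
  have h2 : ‖θ g‖ ^ 2 = 0 := le_antisymm (this.trans h1) (sq_nonneg _)
  simpa using h2

theorem classInner_self_eq_zero {θ : G → ℂ} (h : Cfsg.classInner θ θ = 0) : θ = 0 :=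
  eq_zero_of_classInner_self (by rw [h]; simp)

theorem classInner_zsmul_left (n : ℤ) (a b : G → ℂ) :
    Cfsg.classInner (n • a) b = (n : ℂ) * Cfsg.classInner a b := by
  rw [← CfsgLib.Char.classInner_smul_left]
  congr 1
  funext x; simp

theorem classInner_zsmul_right (n : ℤ) (a b : G → ℂ) :
    Cfsg.classInner a (n • b) = (n : ℂ) * Cfsg.classInner a b := by
  rw [show n • b = (n : ℂ) • b by funext x; simp, CfsgLib.Char.classInner_smul_right]
  simp

theorem intCast_smul_eq {X : Type*} (n : ℤ) (a : X → ℂ) : (n : ℂ) • a = n • a := by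
  funext x; simp

theorem natCast_smul_eq {X : Type*} (n : ℕ) (a : X → ℂ) : (n : ℂ) • a = (n : ℤ) • a := by
  funext x; simp

/-- Inner products of generalized characters are real integers. -/
theorem exists_int_inner {a b : G → ℂ} (ha : Cfsg.IsGeneralizedCharacter G a)
    (hb : Cfsg.IsGeneralizedCharacter G b) : ∃ z : ℤ, Cfsg.classInner a b = z := by
  obtain ⟨z, e, -, -⟩ := exists_int_coeff ha
  obtain ⟨w, e', -, -⟩ := exists_int_coeff hb
  refine ⟨∑ φ, z φ * w φ, ?_⟩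
  rw [e, e', CfsgLib.Char.classInner_sum_smul_sum_smul]
  push_cast
  simp

theorem classInner_comm_gen {a b : G → ℂ} (ha : Cfsg.IsGeneralizedCharacter G a)
    (hb : Cfsg.IsGeneralizedCharacter G b) : Cfsg.classInner a b = Cfsg.classInner b a := by
  obtain ⟨z, hz⟩ := exists_int_inner ha hb
  rw [← CfsgLib.Char.classInner_conj_symm a b, hz, map_intCast]

/-! ### Bessel -/

theorem inner_sum_orth {ι : Type*} (S : Finset ι) (f : ι → G → ℂ) (c : ι → ℂ)
    (h : ∀ i ∈ S, ∀ j ∈ S, i ≠ j → Cfsg.classInner (f i) (f j) = 0) {j : ι} (hj : j ∈ S) :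
    Cfsg.classInner (∑ i ∈ S, c i • f i) (f j) = c j * Cfsg.classInner (f j) (f j) := by
  rw [CfsgLib.Char.classInner_sum_left, Finset.sum_eq_single j]
  · rw [CfsgLib.Char.classInner_smul_left]
  · intro i hi hij
    rw [CfsgLib.Char.classInner_smul_left, h i hi j hj hij, mul_zero]
  · exact fun h' => absurd hj h'

theorem norm_sum_orth {ι : Type*} (S : Finset ι) (f : ι → G → ℂ) (c : ι → ℂ)
    (h : ∀ i ∈ S, ∀ j ∈ S, i ≠ j → Cfsg.classInner (f i) (f j) = 0) :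
    Cfsg.classInner (∑ i ∈ S, c i • f i) (∑ i ∈ S, c i • f i) =
      ∑ i ∈ S, c i * conj (c i) * Cfsg.classInner (f i) (f i) := by
  rw [CfsgLib.Char.classInner_sum_right]
  refine Finset.sum_congr rfl fun i hi => ?_
  rw [CfsgLib.Char.classInner_smul_right, inner_sum_orth S f c h hi]
  ring

/-- Bessel's inequality for an orthogonal family, with the equality case. -/
theorem bessel {ι : Type*} (S : Finset ι) (f : ι → G → ℂ) (β : G → ℂ)
    (h : ∀ i ∈ S, ∀ j ∈ S, i ≠ j → Cfsg.classInner (f i) (f j) = 0)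
    (N k : ι → ℝ) (hN : ∀ i ∈ S, Cfsg.classInner (f i) (f i) = (N i : ℂ)) (hN0 : ∀ i ∈ S, 0 < N i)
    (hk : ∀ i ∈ S, Cfsg.classInner β (f i) = (k i : ℂ)) :
    ∑ i ∈ S, k i ^ 2 / N i ≤ (Cfsg.classInner β β).re ∧
      ((Cfsg.classInner β β).re ≤ ∑ i ∈ S, k i ^ 2 / N i →
        β = ∑ i ∈ S, ((k i / N i : ℝ) : ℂ) • f i) := by
  set Y := ∑ i ∈ S, ((k i / N i : ℝ) : ℂ) • f i with hY
  have hYY : Cfsg.classInner Y Y = ((∑ i ∈ S, k i ^ 2 / N i : ℝ) : ℂ) := by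
    rw [hY, norm_sum_orth S f _ h, Complex.ofReal_sum]
    refine Finset.sum_congr rfl fun i hi => ?_
    rw [hN i hi, Complex.conj_ofReal, ← Complex.ofReal_mul, ← Complex.ofReal_mul]
    congr 1
    field_simp [(hN0 i hi).ne']
  have hβY : Cfsg.classInner β Y = ((∑ i ∈ S, k i ^ 2 / N i : ℝ) : ℂ) := by
    rw [hY, CfsgLib.Char.classInner_sum_right, Complex.ofReal_sum]
    refine Finset.sum_congr rfl fun i hi => ?_
    rw [CfsgLib.Char.classInner_smul_right, hk i hi, Complex.conj_ofReal, ← Complex.ofReal_mul]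
    congr 1
    ring
  have hYβ : Cfsg.classInner Y β = ((∑ i ∈ S, k i ^ 2 / N i : ℝ) : ℂ) := by
    rw [← CfsgLib.Char.classInner_conj_symm, hβY, Complex.conj_ofReal]
  have key : (Cfsg.classInner (β - Y) (β - Y)).re =
      (Cfsg.classInner β β).re - ∑ i ∈ S, k i ^ 2 / N i := by
    rw [CfsgLib.Char.classInner_sub_left, CfsgLib.Char.classInner_sub_right,
      CfsgLib.Char.classInner_sub_right, hYY, hβY, hYβ]
    simp [← Complex.ofReal_pow]
  refine ⟨by linarith [classInner_self_nonneg (β - Y)], fun hle => ?_⟩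
  exact sub_eq_zero.1 (eq_zero_of_classInner_self (by rw [key]; linarith))

open Classical in
/-- The part of `β` along an orthonormal set `R` with `⟨β, ∑ R⟩ = n`. -/
theorem exists_part {β : G → ℂ} (hβ : Cfsg.IsGeneralizedCharacter G β) (R : Finset (G → ℂ))
    (horth : ∀ a ∈ R, ∀ b ∈ R, Cfsg.classInner a b = if a = b then 1 else 0)
    (hvirt : ∀ a ∈ R, Cfsg.IsGeneralizedCharacter G a) {n : ℕ}
    (hsum : Cfsg.classInner β (∑ a ∈ R, a) = n) :
    ∃ k : (G → ℂ) → ℤ, (∀ a ∈ R, Cfsg.classInner β a = k a) ∧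
      (n : ℤ) ≤ ∑ a ∈ R, k a ^ 2 ∧
      (∑ a ∈ R, k a ^ 2 ≤ (n : ℤ) → ∃ T : Finset (G → ℂ), T ⊆ R ∧ T.card = n ∧
        ∀ a ∈ R, Cfsg.classInner β a = if a ∈ T then 1 else 0) := by
  choose! k hk using fun a (ha : a ∈ R) => exists_int_inner hβ (hvirt a ha)
  have hs : ∑ a ∈ R, k a = (n : ℤ) := by
    rw [CfsgLib.Char.classInner_sum_right, Finset.sum_congr rfl hk] at hsum
    exact_mod_cast hsum
  have hle1 : ∀ a ∈ R, k a ≤ k a ^ 2 := fun a _ => Int.le_self_sq (k a)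
  refine ⟨k, hk, hs ▸ Finset.sum_le_sum hle1, fun hle => ?_⟩
  have heq : ∑ a ∈ R, k a ^ 2 = (n : ℤ) := le_antisymm hle (hs ▸ Finset.sum_le_sum hle1)
  have h01 : ∀ a ∈ R, k a = 0 ∨ k a = 1 := by
    intro a ha
    have := (Finset.sum_eq_sum_iff_of_le hle1).1 (hs.trans heq.symm) a ha
    rcases mul_eq_zero.1 (show k a * (k a - 1) = 0 by linear_combination -this) with h | h
    · exact Or.inl h
    · exact Or.inr (sub_eq_zero.1 h)
  refine ⟨R.filter (fun a => k a = 1), Finset.filter_subset _ _, ?_, fun a ha => ?_⟩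
  · have : ∑ a ∈ R, k a = ((R.filter (fun a => k a = 1)).card : ℤ) := by
      rw [Finset.card_filter, Nat.cast_sum]
      exact Finset.sum_congr rfl fun a ha => by rcases h01 a ha with h | h <;> simp [h]
    rw [hs] at this
    exact_mod_cast this.symm
  · rw [hk a ha]
    rcases h01 a ha with h | h <;> simp [ha, h]

open Classical in
theorem inner_sum_subset {R T T' : Finset (G → ℂ)}
    (horth : ∀ a ∈ R, ∀ b ∈ R, Cfsg.classInner a b = if a = b then 1 else 0)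
    (hT : T ⊆ R) (hT' : T' ⊆ R) :
    Cfsg.classInner (∑ a ∈ T, a) (∑ a ∈ T', a) = ((T ∩ T').card : ℂ) := by
  rw [CfsgLib.Char.classInner_sum_left]
  simp only [CfsgLib.Char.classInner_sum_right]
  rw [Finset.sum_congr rfl (fun a ha => Finset.sum_congr rfl (fun b hb => horth a (hT ha) b (hT' hb)))]
  simp only [Finset.sum_ite_eq]
  rw [Finset.sum_boole, Finset.filter_mem_eq_inter]

theorem isGeneralized_sum {T : Finset (G → ℂ)} (h : ∀ a ∈ T, Cfsg.IsGeneralizedCharacter G a) :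
    Cfsg.IsGeneralizedCharacter G (∑ a ∈ T, a) :=
  CfsgLib.Char.IsGeneralizedCharacter.sum T _ h

/-! ### Extension from an orthogonal family -/

/-- The linear map sending each member `φ` of the orthogonal family `S` to `f φ`. -/
noncomputable def ext (S : Finset (L → ℂ)) (f : (L → ℂ) → (G → ℂ)) (α : L → ℂ) : G → ℂ :=
  ∑ φ ∈ S, (Cfsg.classInner α φ / Cfsg.classInner φ φ) • f φ

variable {S : Finset (L → ℂ)} {f : (L → ℂ) → (G → ℂ)}

theorem ext_add (α β : L → ℂ) : ext S f (α + β) = ext S f α + ext S f β := by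
  simp only [ext, CfsgLib.Char.classInner_add_left, add_div, add_smul, Finset.sum_add_distrib]

theorem ext_smul (c : ℂ) (α : L → ℂ) : ext S f (c • α) = c • ext S f α := by
  simp only [ext, CfsgLib.Char.classInner_smul_left, mul_div_assoc, Finset.smul_sum, smul_smul]

theorem ext_zsmul (n : ℤ) (α : L → ℂ) : ext S f (n • α) = n • ext S f α := by
  rw [← intCast_smul_eq, ext_smul, intCast_smul_eq]

theorem ext_zero : ext S f 0 = 0 := by
  simp [ext, CfsgLib.Char.classInner_zero_left]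

theorem ext_sub (α β : L → ℂ) : ext S f (α - β) = ext S f α - ext S f β := by
  simp only [ext, CfsgLib.Char.classInner_sub_left, sub_div, sub_smul, Finset.sum_sub_distrib]

theorem ext_self (horth : ∀ a ∈ S, ∀ b ∈ S, a ≠ b → Cfsg.classInner a b = 0)
    (hne : ∀ a ∈ S, Cfsg.classInner a a ≠ 0) {φ : L → ℂ} (hφ : φ ∈ S) : ext S f φ = f φ := by
  rw [ext, Finset.sum_eq_single φ]
  · rw [div_self (hne φ hφ), one_smul]
  · intro b hb hb'
    rw [horth φ hφ b hb (Ne.symm hb'), zero_div, zero_smul]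
  · exact fun h => absurd hφ h

theorem mem_zspan_finset {α : L → ℂ} (h : α ∈ Cfsg.zspan (↑S : Set (L → ℂ))) :
    ∃ c : (L → ℂ) → ℤ, α = ∑ φ ∈ S, c φ • φ := by
  obtain ⟨c, -, hc⟩ := Submodule.mem_span_finset.1 h
  exact ⟨c, hc.symm⟩

/-- The basic way to prove coherence: give the images of the members of the family. -/
theorem isLinearIsometryOn_ext (horth : ∀ a ∈ S, ∀ b ∈ S, a ≠ b → Cfsg.classInner a b = 0)
    (hne : ∀ a ∈ S, Cfsg.classInner a a ≠ 0) (hgen : ∀ φ ∈ S, Cfsg.IsGeneralizedCharacter G (f φ))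
    (hgram : ∀ a ∈ S, ∀ b ∈ S, Cfsg.classInner (f a) (f b) = Cfsg.classInner a b) :
    Cfsg.IsLinearIsometryOn (Cfsg.zspan (↑S : Set (L → ℂ))) (ext S f) := by
  refine ⟨fun α _ β _ => ext_add α β, fun α _ n => ext_zsmul n α, ?_, ?_⟩
  · intro α hα β hβ
    obtain ⟨c, rfl⟩ := mem_zspan_finset hα
    obtain ⟨d, rfl⟩ := mem_zspan_finset hβ
    have he : ∀ c : (L → ℂ) → ℤ, ext S f (∑ φ ∈ S, c φ • φ) = ∑ φ ∈ S, c φ • f φ := by
      intro c
      rw [show ext S f (∑ φ ∈ S, c φ • φ) = ∑ φ ∈ S, ext S f (c φ • φ) from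
        map_sum (AddMonoidHom.mk' (ext S f) ext_add) _ S]
      exact Finset.sum_congr rfl fun φ hφ => by rw [ext_zsmul, ext_self horth hne hφ]
    rw [he, he]
    simp only [CfsgLib.Char.classInner_sum_left, CfsgLib.Char.classInner_sum_right,
      classInner_zsmul_left, classInner_zsmul_right]
    refine Finset.sum_congr rfl fun a ha => ?_
    congr 1
    exact Finset.sum_congr rfl fun b hb => by rw [hgram b hb a ha]
  · intro α hα
    obtain ⟨c, rfl⟩ := mem_zspan_finset hα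
    rw [show ext S f (∑ φ ∈ S, c φ • φ) = ∑ φ ∈ S, ext S f (c φ • φ) from
      map_sum (AddMonoidHom.mk' (ext S f) ext_add) _ S]
    refine CfsgLib.Char.IsGeneralizedCharacter.sum _ _ fun φ hφ => ?_
    rw [ext_zsmul, ext_self horth hne hφ]
    exact CfsgLib.Char.IsGeneralizedCharacter.zsmul (hgen φ hφ) _

/-- Coherence from images, agreement being checked on a set of generators. -/
theorem isCoherent_of_images {τ : (L → ℂ) → (G → ℂ)}
    (horth : ∀ a ∈ S, ∀ b ∈ S, a ≠ b → Cfsg.classInner a b = 0)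
    (hne : ∀ a ∈ S, Cfsg.classInner a a ≠ 0) (hgen : ∀ φ ∈ S, Cfsg.IsGeneralizedCharacter G (f φ))
    (hgram : ∀ a ∈ S, ∀ b ∈ S, Cfsg.classInner (f a) (f b) = Cfsg.classInner a b)
    (hnz : ∃ α ∈ Cfsg.zspanOn (↑S : Set (L → ℂ)) {1}ᶜ, α ≠ 0)
    (hagree : ∀ α ∈ Cfsg.zspanOn (↑S : Set (L → ℂ)) {1}ᶜ, ext S f α = τ α) :
    Cfsg.IsCoherent (↑S : Set (L → ℂ)) {1}ᶜ τ :=
  ⟨hnz, ext S f, isLinearIsometryOn_ext horth hne hgen hgram, hagree⟩

/-! ### Integer spans -/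

theorem mem_zspanOn_iff {T : Set (L → ℂ)} {α : L → ℂ} :
    α ∈ Cfsg.zspanOn T {1}ᶜ ↔ α ∈ Cfsg.zspan T ∧ α 1 = 0 := by
  refine ⟨fun h => ⟨h.1, h.2 1 (by simp)⟩, fun h => ⟨h.1, fun x hx => ?_⟩⟩
  have : x = 1 := by simpa using hx
  exact this ▸ h.2

theorem zspan_mono {T T' : Set (L → ℂ)} (h : T ⊆ T') {α : L → ℂ} (hα : α ∈ Cfsg.zspan T) :
    α ∈ Cfsg.zspan T' := Submodule.span_mono h hα

theorem zspanOn_mono {T T' : Set (L → ℂ)} (h : T ⊆ T') {α : L → ℂ}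
    (hα : α ∈ Cfsg.zspanOn T {1}ᶜ) : α ∈ Cfsg.zspanOn T' {1}ᶜ :=
  ⟨zspan_mono h hα.1, hα.2⟩

theorem zspanOn_add {T : Set (L → ℂ)} {α β : L → ℂ} (hα : α ∈ Cfsg.zspanOn T {1}ᶜ)
    (hβ : β ∈ Cfsg.zspanOn T {1}ᶜ) : α + β ∈ Cfsg.zspanOn T {1}ᶜ :=
  mem_zspanOn_iff.2 ⟨Submodule.add_mem _ hα.1 hβ.1, by
    simp [(mem_zspanOn_iff.1 hα).2, (mem_zspanOn_iff.1 hβ).2]⟩

theorem zspanOn_zsmul {T : Set (L → ℂ)} {α : L → ℂ} (hα : α ∈ Cfsg.zspanOn T {1}ᶜ) (n : ℤ) :
    n • α ∈ Cfsg.zspanOn T {1}ᶜ :=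
  mem_zspanOn_iff.2 ⟨Submodule.smul_mem _ n hα.1, by simp [(mem_zspanOn_iff.1 hα).2]⟩

theorem zspanOn_sub {T : Set (L → ℂ)} {α β : L → ℂ} (hα : α ∈ Cfsg.zspanOn T {1}ᶜ)
    (hβ : β ∈ Cfsg.zspanOn T {1}ᶜ) : α - β ∈ Cfsg.zspanOn T {1}ᶜ :=
  mem_zspanOn_iff.2 ⟨Submodule.sub_mem _ hα.1 hβ.1, by
    simp [(mem_zspanOn_iff.1 hα).2, (mem_zspanOn_iff.1 hβ).2]⟩

theorem isometry_sub {T : Set (L → ℂ)} {τ : (L → ℂ) → (G → ℂ)}
    (hτ : Cfsg.IsLinearIsometryOn (Cfsg.zspanOn T {1}ᶜ) τ) {α β : L → ℂ}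
    (hα : α ∈ Cfsg.zspanOn T {1}ᶜ) (hβ : β ∈ Cfsg.zspanOn T {1}ᶜ) : τ (α - β) = τ α - τ β := by
  have h := hτ.1 _ (zspanOn_sub hα hβ) _ hβ
  rw [sub_add_cancel] at h
  rw [h, add_sub_cancel_right]

theorem zspan_isometry_sub {T : Set (L → ℂ)} {τ : (L → ℂ) → (G → ℂ)}
    (hτ : Cfsg.IsLinearIsometryOn (Cfsg.zspan T) τ) {α β : L → ℂ}
    (hα : α ∈ Cfsg.zspan T) (hβ : β ∈ Cfsg.zspan T) : τ (α - β) = τ α - τ β := by
  have h := hτ.1 _ (Submodule.sub_mem _ hα hβ) _ hβ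
  rw [sub_add_cancel] at h
  rw [h, add_sub_cancel_right]

/-! ### Coherence systems -/

section System

variable {T : Set (L → ℂ)} {τ : (L → ℂ) → (G → ℂ)} {R : (L → ℂ) → Finset (G → ℂ)}
  (hS : Cfsg.IsCoherenceSystem T τ R)

include hS

theorem member_ne_zero {χ : L → ℂ} (hχ : χ ∈ T) : χ ≠ 0 := by
  intro h
  refine hS.conj_ne χ hχ ?_
  funext x
  simp [h, Cfsg.conjFun]

theorem apply_one_ne_zero {χ : L → ℂ} (hχ : χ ∈ T) : χ 1 ≠ 0 := by
  intro h
  apply member_ne_zero hS hχ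
  funext x
  have hd := CfsgLib.Char.IsCharacter.degree_cast (hS.isCharacter χ hχ)
  have hn := CfsgLib.Char.IsCharacter.norm_apply_le (hS.isCharacter χ hχ) x
  rw [h, Nat.cast_eq_zero] at hd
  rw [hd] at hn
  simpa using hn

theorem inner_self_ne_zero {χ : L → ℂ} (hχ : χ ∈ T) : Cfsg.classInner χ χ ≠ 0 :=
  fun h => member_ne_zero hS hχ (classInner_self_eq_zero h)

theorem exists_norm {χ : L → ℂ} (hχ : χ ∈ T) : ∃ n : ℕ, 0 < n ∧ Cfsg.classInner χ χ = n := by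
  obtain ⟨n, hn⟩ := CfsgLib.Char.IsCharacter.exists_nat_classInner' (hS.isCharacter χ hχ)
    (hS.isCharacter χ hχ)
  refine ⟨n, Nat.pos_of_ne_zero fun h => inner_self_ne_zero hS hχ ?_, hn⟩
  rw [hn, h, Nat.cast_zero]

theorem finite : T.Finite := by
  classical
  have hli : LinearIndependent ℂ (fun χ : T => (χ : L → ℂ)) := by
    rw [linearIndependent_iff']
    intro s g hs i hi
    have h := congrArg (fun v : L → ℂ => Cfsg.classInner v (i : L → ℂ)) hs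
    simp only [CfsgLib.Char.classInner_sum_left, CfsgLib.Char.classInner_smul_left,
      CfsgLib.Char.classInner_zero_left] at h
    rw [Finset.sum_eq_single i (fun j _ hji => by
      rw [hS.orthogonal _ j.2 _ i.2 (fun e => hji (Subtype.ext e)), mul_zero])
      (fun h' => absurd hi h')] at h
    exact (mul_eq_zero.1 h).resolve_right (inner_self_ne_zero hS i.2)
  exact Set.finite_coe_iff.1 hli.finite

theorem sub_conj_mem {χ : L → ℂ} (hχ : χ ∈ T) :
    χ - Cfsg.conjFun χ ∈ Cfsg.zspanOn T {1}ᶜ :=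
  sub_conjFun_mem_zspanOn hS.isCharacter hχ (hS.conj_mem χ hχ)

theorem conj_apply_one' {χ : L → ℂ} (hχ : χ ∈ T) : Cfsg.conjFun χ 1 = χ 1 :=
  CfsgLib.OddChar.conj_apply_one (hS.isCharacter χ hχ)

theorem norm_conj {χ : L → ℂ} :
    Cfsg.classInner (Cfsg.conjFun χ) (Cfsg.conjFun χ) = Cfsg.classInner χ χ := by
  rw [classInner_self_eq, classInner_self_eq]
  simp [Cfsg.conjFun, Complex.norm_conj]

theorem inner_sub_conj {χ : L → ℂ} (hχ : χ ∈ T) :
    Cfsg.classInner (χ - Cfsg.conjFun χ) (χ - Cfsg.conjFun χ) = 2 * Cfsg.classInner χ χ := by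
  rw [CfsgLib.Char.classInner_sub_left, CfsgLib.Char.classInner_sub_right,
    CfsgLib.Char.classInner_sub_right, norm_conj hS,
    hS.orthogonal χ hχ _ (hS.conj_mem χ hχ) (hS.conj_ne χ hχ).symm,
    hS.orthogonal _ (hS.conj_mem χ hχ) χ hχ (hS.conj_ne χ hχ)]
  ring

/-- A coherent extension maps each member to a sum of `n` members of its `R`. -/
theorem image_of_coherent {T₁ : Set (L → ℂ)} (hsub : T₁ ⊆ T) {τ₁ : (L → ℂ) → (G → ℂ)}
    (hτ₁ : Cfsg.IsLinearIsometryOn (Cfsg.zspan T₁) τ₁)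
    (hagree : ∀ α ∈ Cfsg.zspanOn T₁ {1}ᶜ, τ₁ α = τ α) {φ : L → ℂ} (hφ : φ ∈ T₁)
    (hφc : Cfsg.conjFun φ ∈ T₁) : ∃ U, U ⊆ R φ ∧ τ₁ φ = ∑ a ∈ U, a := by
  classical
  obtain ⟨n, hn0, hn⟩ := exists_norm hS (hsub hφ)
  have hm : φ ∈ Cfsg.zspan T₁ := mem_zspan_self hφ
  have hmc : Cfsg.conjFun φ ∈ Cfsg.zspan T₁ := mem_zspan_self hφc
  have hd : φ - Cfsg.conjFun φ ∈ Cfsg.zspanOn T₁ {1}ᶜ :=
    sub_conjFun_mem_zspanOn (fun ψ h => hS.isCharacter ψ (hsub h)) hφ hφc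
  have hsum : Cfsg.classInner (τ₁ φ) (∑ a ∈ R φ, a) = n := by
    rw [← hS.sum_eq φ (hsub hφ), ← hagree _ hd, hτ₁.2.2.1 _ hm _ (Submodule.sub_mem _ hm hmc),
      CfsgLib.Char.classInner_sub_right,
      hS.orthogonal φ (hsub hφ) _ (hsub hφc) (hS.conj_ne φ (hsub hφ)).symm, sub_zero, hn]
  obtain ⟨k, hk, hge, hT⟩ := exists_part (hτ₁.2.2.2 _ hm) (R φ) (hS.orthonormal φ (hsub hφ))
    (hS.virtual φ (hsub hφ)) hsum
  have horth : ∀ a ∈ R φ, ∀ b ∈ R φ, a ≠ b → Cfsg.classInner a b = 0 := fun a ha b hb h => by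
    rw [hS.orthonormal φ (hsub hφ) a ha b hb, if_neg h]
  obtain ⟨hb1, hb2⟩ := bessel (R φ) (fun a => a) (τ₁ φ) horth (fun _ => 1) (fun a => (k a : ℝ))
    (fun a ha => by rw [hS.orthonormal φ (hsub hφ) a ha a ha, if_pos rfl]; simp)
    (fun _ _ => one_pos) (fun a ha => by rw [hk a ha]; simp)
  rw [hτ₁.2.2.1 _ hm _ hm, hn] at hb1 hb2
  simp only [Complex.natCast_re, div_one] at hb1 hb2
  have hle : ∑ a ∈ R φ, k a ^ 2 ≤ (n : ℤ) := by
    have : ((∑ a ∈ R φ, k a ^ 2 : ℤ) : ℝ) ≤ ((n : ℤ) : ℝ) := by push_cast; exact hb1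
    exact_mod_cast this
  obtain ⟨U, hUR, -, hU⟩ := hT hle
  refine ⟨U, hUR, ?_⟩
  have heq : (n : ℝ) ≤ ∑ a ∈ R φ, (k a : ℝ) ^ 2 := by exact_mod_cast hge
  rw [hb2 heq, ← Finset.inter_eq_right.2 hUR, ← Finset.filter_mem_eq_inter, Finset.sum_filter]
  refine Finset.sum_congr rfl fun a ha => ?_
  have := hU a ha
  rw [hk a ha] at this
  by_cases haU : a ∈ U
  · rw [if_pos haU] at this
    rw [if_pos haU, show (k a : ℝ) = 1 by exact_mod_cast this]; simp
  · rw [if_neg haU] at this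
    rw [if_neg haU, show (k a : ℝ) = 0 by exact_mod_cast this]; simp

end System

end CfsgLib.OddChar.Coh
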