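import Cfsg.Agent.Lib.OddChar.CyclicTI
import Mathlib.GroupTheory.NoncommPiCoprod

/-!
The dual of `W = W₁ × W₂`.
-/

set_option autoImplicit false

namespace CfsgLib.OddChar

variable {G : Type*} [Group G] {W₁ W₂ : Subgroup G}

theorem exists_proj (hdisj : W₁ ⊓ W₂ = ⊥) (hcomm : ∀ a ∈ W₁, ∀ b ∈ W₂, a * b = b * a) :
    ∃ (p₁ : ↥(W₁ ⊔ W₂) →* W₁) (p₂ : ↥(W₁ ⊔ W₂) →* W₂),
      (∀ w, (p₁ w : G) * (p₂ w : G) = w) ∧
      (∀ (w : ↥(W₁ ⊔ W₂)) (h : (w : G) ∈ W₁), p₁ w = ⟨w, h⟩ ∧ p₂ w = 1) ∧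
      (∀ (w : ↥(W₁ ⊔ W₂)) (h : (w : G) ∈ W₂), p₂ w = ⟨w, h⟩ ∧ p₁ w = 1) := by
  let m : W₁ × W₂ →* ↥(W₁ ⊔ W₂) :=
    MonoidHom.noncommCoprod (Subgroup.inclusion le_sup_left) (Subgroup.inclusion le_sup_right)
      (fun a b => Subtype.ext (hcomm a a.2 b b.2))
  have hm : ∀ x : W₁ × W₂, (m x : G) = (x.1 : G) * x.2 := fun x => rfl
  have hinj : Function.Injective m := by
    rw [injective_iff_map_eq_one]
    intro x hx
    have h := congrArg Subtype.val hx
    rw [hm, Subgroup.coe_one] at h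
    have hmem : (x.1 : G) ∈ W₁ ⊓ W₂ := ⟨x.1.2, by
      rw [eq_inv_of_mul_eq_one_left h]; exact W₂.inv_mem x.2.2⟩
    rw [hdisj, Subgroup.mem_bot] at hmem
    rw [hmem, one_mul] at h
    exact Prod.ext (Subtype.ext hmem) (Subtype.ext h)
  have hsurj : Function.Surjective m := by
    rw [← MonoidHom.range_eq_top, eq_top_iff]
    intro w _
    have hle : W₁ ⊔ W₂ ≤ m.range.map (W₁ ⊔ W₂).subtype := by
      refine sup_le (fun a ha => ?_) (fun b hb => ?_)
      · exact ⟨_, ⟨(⟨a, ha⟩, 1), rfl⟩, by simp [hm]⟩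
      · exact ⟨_, ⟨(1, ⟨b, hb⟩), rfl⟩, by simp [hm]⟩
    obtain ⟨z, hz, e⟩ := hle w.2
    rwa [← show z = w from Subtype.ext e]
  let E := MulEquiv.ofBijective m ⟨hinj, hsurj⟩
  refine ⟨(MonoidHom.fst _ _).comp E.symm.toMonoidHom, (MonoidHom.snd _ _).comp E.symm.toMonoidHom,
    fun w => ?_, fun w h => ?_, fun w h => ?_⟩
  · show ((E.symm w).1 : G) * (E.symm w).2 = w
    rw [← hm]
    exact congrArg Subtype.val (E.apply_symm_apply w)
  · have : E.symm w = (⟨w, h⟩, 1) :=
      E.symm_apply_eq.2 (Subtype.ext (by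
        show (w : G) = (m (⟨w, h⟩, 1) : G)
        simp [hm]))
    exact ⟨congrArg Prod.fst this, congrArg Prod.snd this⟩
  · have : E.symm w = (1, ⟨w, h⟩) :=
      E.symm_apply_eq.2 (Subtype.ext (by
        show (w : G) = (m (1, ⟨w, h⟩) : G)
        simp [hm]))
    exact ⟨congrArg Prod.snd this, congrArg Prod.fst this⟩

theorem card_dual {H : Type*} [Group H] [Finite H] [IsCyclic H] :
    Nat.card (H →* ℂˣ) = Nat.card H := by
  letI : CommGroup H := IsCyclic.commGroup
  exact CommGroup.card_monoidHom_of_hasEnoughRootsOfUnity H ℂ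

/-- The linear characters of `W` are exactly the products `φ * ψ`. -/
theorem exists_dual (hdisj : W₁ ⊓ W₂ = ⊥) (hcomm : ∀ a ∈ W₁, ∀ b ∈ W₂, a * b = b * a) :
    ∃ (i : (W₁ →* ℂˣ) → (↥(W₁ ⊔ W₂) →* ℂˣ)) (j : (W₂ →* ℂˣ) → (↥(W₁ ⊔ W₂) →* ℂˣ)),
      (∀ f, ∀ w : ↥(W₁ ⊔ W₂), (w : G) ∈ W₂ → i f w = 1) ∧
      (∀ g, ∀ w : ↥(W₁ ⊔ W₂), (w : G) ∈ W₁ → j g w = 1) ∧
      Function.Bijective fun x : (W₁ →* ℂˣ) × (W₂ →* ℂˣ) => i x.1 * j x.2 := by
  obtain ⟨p₁, p₂, hp, h₁, h₂⟩ := exists_proj hdisj hcomm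
  refine ⟨fun f => f.comp p₁, fun g => g.comp p₂, fun f w hw => by simp [(h₂ w hw).2],
    fun g w hw => by simp [(h₁ w hw).2], ⟨fun x y e => ?_, fun ω => ?_⟩⟩
  · refine Prod.ext (MonoidHom.ext fun a => ?_) (MonoidHom.ext fun b => ?_)
    · have := DFunLike.congr_fun e ⟨a, Subgroup.mem_sup_left a.2⟩
      simpa [(h₁ ⟨a, Subgroup.mem_sup_left a.2⟩ a.2).1,
        (h₁ ⟨a, Subgroup.mem_sup_left a.2⟩ a.2).2] using this
    · have := DFunLike.congr_fun e ⟨b, Subgroup.mem_sup_right b.2⟩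
      simpa [(h₂ ⟨b, Subgroup.mem_sup_right b.2⟩ b.2).1,
        (h₂ ⟨b, Subgroup.mem_sup_right b.2⟩ b.2).2] using this
  · refine ⟨(ω.comp (Subgroup.inclusion le_sup_left), ω.comp (Subgroup.inclusion le_sup_right)),
      sup_hom_ext (fun w hw => ?_) (fun w hw => ?_)⟩
    · show ω (Subgroup.inclusion le_sup_left (p₁ w)) * ω (Subgroup.inclusion le_sup_right (p₂ w)) = _
      rw [(h₁ w hw).1, (h₁ w hw).2, map_one, map_one, mul_one]
      rfl
    · show ω (Subgroup.inclusion le_sup_left (p₁ w)) * ω (Subgroup.inclusion le_sup_right (p₂ w)) = _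
      rw [(h₂ w hw).1, (h₂ w hw).2, map_one, map_one, one_mul]
      rfl

/-- `x i + y j` with few nonzero values is supported on one row or one column, and constant there. -/
theorem grid_few {I J : Type*} [Fintype I] [Fintype J] [DecidableEq I] [DecidableEq J] (x : I → ℂ) (y : J → ℂ) {m : ℕ}
    (hm : m = Fintype.card I) (hn : m + 2 ≤ Fintype.card J)
    [Fintype {p : I × J // x p.1 + y p.2 ≠ 0}]
    (hfew : Fintype.card {p : I × J // x p.1 + y p.2 ≠ 0} < 2 * m) :
    (∃ j₀ a, ∀ i j, x i + y j = if j = j₀ then a else 0) ∨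
      (∃ i₀ a, ∀ i j, x i + y j = if i = i₀ then a else 0) := by
  classical
  haveI : Nonempty J := Fintype.card_pos_iff.1 (by omega)
  haveI : Nonempty I := Fintype.card_pos_iff.1 (by omega)
  let row : I → Finset J := fun i => Finset.univ.filter fun j => x i + y j ≠ 0
  have htot : ∑ i, (row i).card < 2 * m := by
    refine lt_of_eq_of_lt ?_ hfew
    rw [← Finset.card_sigma, ← Finset.card_univ]
    refine Finset.card_bij' (fun s _ => ⟨(s.1, s.2), ?_⟩) (fun p _ => ⟨p.1.1, p.1.2⟩) ?_ ?_ ?_ ?_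
    · rename_i h; simpa [row] using (Finset.mem_sigma.1 h).2
    · intro s _; exact Finset.mem_univ _
    · intro p _; simpa [row] using p.2
    · intro s _; rfl
    · intro p _; rfl
  obtain ⟨i₁, hi₁⟩ : ∃ i, (row i).card ≤ 1 := by
    by_contra hc
    push_neg at hc
    have : Finset.univ.card • 2 ≤ ∑ i, (row i).card :=
      Finset.card_nsmul_le_sum _ _ 2 fun i _ => hc i
    rw [Finset.card_univ, ← hm, smul_eq_mul] at this
    omega
  set v := -x i₁
  by_cases hconst : ∀ j, y j = v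
  · -- rows are constant
    have hrow : ∀ i, x i + v ≠ 0 → (row i).card = Fintype.card J := fun i hi => by
      rw [show row i = Finset.univ from
        Finset.filter_true_of_mem fun j _ => by rw [hconst j]; exact hi, Finset.card_univ]
    obtain ⟨i₀, hi₀⟩ : ∃ i₀, ∀ i, i ≠ i₀ → x i + v = 0 := by
      by_cases hex : ∃ i, x i + v ≠ 0
      · obtain ⟨i₀, hi₀⟩ := hex
        refine ⟨i₀, fun i hi => by_contra fun hne => ?_⟩
        have hs : (row i₀).card + (row i).card ≤ ∑ k, (row k).card := by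
          rw [← Finset.sum_pair (f := fun k => (row k).card) hi.symm]
          exact Finset.sum_le_sum_of_subset (Finset.subset_univ _)
        rw [hrow _ hi₀, hrow _ hne] at hs
        omega
      · push_neg at hex
        exact ⟨i₁, fun i _ => hex i⟩
    refine Or.inr ⟨i₀, x i₀ + v, fun i j => ?_⟩
    rw [hconst j]
    split_ifs with h
    · rw [h]
    · exact hi₀ i h
  · push_neg at hconst
    obtain ⟨j₀, hj₀⟩ := hconst
    have hj : ∀ j, j ≠ j₀ → y j = v := by
      intro j hne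
      by_contra hj
      have h1 : j ∈ row i₁ := by
        simp only [row, Finset.mem_filter, Finset.mem_univ, true_and]
        exact fun h => hj (by linear_combination h)
      have h2 : j₀ ∈ row i₁ := by
        simp only [row, Finset.mem_filter, Finset.mem_univ, true_and]
        exact fun h => hj₀ (by linear_combination h)
      exact hne (Finset.card_le_one.1 hi₁ j h1 j₀ h2)
    have hx : ∀ i, x i + v = 0 := by
      intro i
      by_contra hne
      have h1 : Fintype.card J - 1 ≤ (row i).card := by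
        rw [← Finset.card_univ, ← Finset.card_erase_of_mem (Finset.mem_univ j₀)]
        exact Finset.card_le_card fun j hjm => by
          simp only [row, Finset.mem_filter, Finset.mem_univ, true_and]
          rw [hj j (Finset.ne_of_mem_erase hjm)]; exact hne
      have h2 : ∀ k, 1 ≤ (row k).card := by
        intro k
        by_contra h0
        rw [Nat.not_le, Nat.lt_one_iff, Finset.card_eq_zero] at h0
        have e1 : x k + y j₀ = 0 := by
          by_contra h
          exact Finset.notMem_empty j₀ (h0 ▸ (by simp [row, h] : j₀ ∈ row k))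
        obtain ⟨j, hjne⟩ := Fintype.exists_ne_of_one_lt_card (show 1 < Fintype.card J by omega) j₀
        have e2 : x k + y j = 0 := by
          by_contra h
          exact Finset.notMem_empty j (h0 ▸ (by simp [row, h] : j ∈ row k))
        exact hj₀ (by rw [hj j hjne] at e2; linear_combination e1 - e2)
      have h3 : (row i).card + (Fintype.card I - 1) ≤ ∑ k, (row k).card := by
        rw [← Finset.add_sum_erase _ _ (Finset.mem_univ i)]
        refine Nat.add_le_add_left ?_ _
        rw [← Finset.card_univ, ← Finset.card_erase_of_mem (Finset.mem_univ i),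
          Finset.card_eq_sum_ones]
        exact Finset.sum_le_sum fun k _ => h2 k
      omega
    refine Or.inl ⟨j₀, y j₀ - v, fun i j => ?_⟩
    split_ifs with h
    · rw [h]; linear_combination hx i
    · rw [hj j h]; exact hx i

end CfsgLib.OddChar
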