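import Mathlib

/-!
Elementary lemmas on commuting elements of coprime orders and cosets of coprime
normalised subgroups, for the Dade hypothesis.
-/

set_option autoImplicit false

namespace CfsgLib.OddChar

variable {G : Type*} [Group G]

theorem exists_pow_split {m n : ℕ} (h : Nat.Coprime m n) :
    ∃ k : ℕ, ∀ (a u : G), a * u = u * a → a ^ m = 1 → u ^ n = 1 →
      (a * u) ^ k = a := by
  obtain ⟨k, hk1, hk0⟩ := Nat.chineseRemainder h 1 0
  refine ⟨k, fun a u hc ha hu => ?_⟩
  have hc' : Commute a u := hc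
  rw [hc'.mul_pow]
  have h1 : a ^ k = a := by
    have := pow_eq_pow_iff_modEq (x := a) (n := k) (m := 1) |>.2
      (hk1.of_dvd (orderOf_dvd_of_pow_eq_one ha))
    simpa using this
  have h2 : u ^ k = 1 := by
    have := pow_eq_pow_iff_modEq (x := u) (n := k) (m := 0) |>.2
      (hk0.of_dvd (orderOf_dvd_of_pow_eq_one hu))
    simpa using this
  rw [h1, h2, mul_one]

theorem pow_card_mem [Finite G] {H : Subgroup G} {x : G} (hx : x ∈ H) : x ^ Nat.card H = 1 := by
  have := pow_card_eq_one' (x := (⟨x, hx⟩ : H))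
  exact (SubgroupClass.coe_pow _ _).symm.trans (congrArg Subtype.val this)

/-- Every element of `H * g`, for `g` normalising `H` with coprime order, is conjugate by an
element of `H` to an element of `C_H(g) * g`. -/
theorem exists_conj_centralizer_coset [Finite G] (H : Subgroup G) (g : G)
    (hg : g ∈ Subgroup.normalizer (H : Set G))
    (hcop : Nat.Coprime (orderOf g) (Nat.card H)) (h : G) (hh : h ∈ H) :
    ∃ x ∈ H, ∃ c ∈ H, c * g = g * c ∧ x * (h * g) * x⁻¹ = c * g := by
  classical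
  set C : Subgroup G := H ⊓ Subgroup.centralizer ({g} : Set G) with hC
  have hgn : ∀ z ∈ H, g * z * g⁻¹ ∈ H := fun z hz => (Subgroup.mem_normalizer_iff.1 hg z).1 hz
  haveI : Fintype G := Fintype.ofFinite G
  let f : H × C → H := fun p =>
    ⟨(p.1 : G) * (p.2 : G) * (g * (p.1 : G)⁻¹ * g⁻¹),
      mul_mem (mul_mem p.1.2 p.2.2.1) (hgn _ (inv_mem p.1.2))⟩
  obtain ⟨k, hk⟩ := exists_pow_split (G := G) hcop
  have hcomm : ∀ c ∈ C, c * g = g * c := by
    intro c hc
    exact (Subgroup.mem_centralizer_singleton_iff.1 hc.2)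
  have hpow : ∀ c ∈ C, (c * g) ^ k = g := by
    intro c hc
    rw [hcomm c hc]
    exact hk g c (hcomm c hc).symm (pow_orderOf_eq_one g) (pow_card_mem hc.1)
  have key : ∀ p q : H × C, f p = f q → (q.1 : G)⁻¹ * (p.1 : G) ∈ C ∧
      (q.2 : G) = ((q.1 : G)⁻¹ * p.1) * p.2 * ((q.1 : G)⁻¹ * p.1)⁻¹ := by
    intro p q hpq
    have h1 : (p.1 : G) * ((p.2 : G) * g) * (p.1 : G)⁻¹ = q.1 * ((q.2 : G) * g) * (q.1 : G)⁻¹ := by
      have := congrArg (fun z : H => (z : G) * g) hpq
      simpa [f, mul_assoc] using this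
    set y := (q.1 : G)⁻¹ * p.1 with hy
    have h2 : y * ((p.2 : G) * g) * y⁻¹ = (q.2 : G) * g := by
      rw [hy]
      calc _ = (q.1 : G)⁻¹ * ((p.1 : G) * ((p.2 : G) * g) * (p.1 : G)⁻¹) * q.1 := by group
        _ = _ := by rw [h1]; group
    have h3 : y * g * y⁻¹ = g := by
      have := congrArg (fun z => z ^ k) h2
      simp only [conj_pow, hpow _ p.2.2, hpow _ q.2.2] at this
      exact this
    have hyH : y ∈ H := mul_mem (inv_mem q.1.2) p.1.2
    refine ⟨⟨hyH, Subgroup.mem_centralizer_singleton_iff.2 ?_⟩, ?_⟩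
    · calc y * g = y * g * y⁻¹ * y := by group
        _ = g * y := by rw [h3]
    · have h4 : y * (p.2 : G) * y⁻¹ * (y * g * y⁻¹) = (q.2 : G) * g := by
        rw [← h2]; group
      rw [h3] at h4
      exact (mul_right_cancel h4).symm
  have hfib : ∀ z : H, Nat.card {p : H × C // f p = z} ≤ Nat.card C := by
    intro z
    by_cases hz : ∃ q, f q = z
    · obtain ⟨q, hq⟩ := hz
      apply Nat.card_le_card_of_injective
        (fun p : {p : H × C // f p = z} =>
          (⟨(q.1 : G)⁻¹ * (p.1.1 : G), (key p.1 q (p.2.trans hq.symm)).1⟩ : C))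
      intro p p' hpp
      have h1 : (p.1.1 : G) = p'.1.1 := mul_left_cancel (congrArg Subtype.val hpp)
      have h2 := (key p.1 q (p.2.trans hq.symm)).2
      have h3 := (key p'.1 q (p'.2.trans hq.symm)).2
      rw [h2, h1] at h3
      exact Subtype.ext (Prod.ext (Subtype.ext h1)
        (Subtype.ext (mul_left_cancel (mul_right_cancel h3))))
    · have : IsEmpty {p : H × C // f p = z} := ⟨fun p => hz ⟨p.1, p.2⟩⟩
      simp
  have hsurj : Function.Surjective f := by
    by_contra hns
    obtain ⟨z₀, hz₀⟩ := not_forall.1 hns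
    have e : Nat.card (H × C) = ∑ z : H, Nat.card {p : H × C // f p = z} := by
      rw [← Nat.card_sigma]
      exact Nat.card_congr (Equiv.sigmaFiberEquiv f).symm
    have hlt : ∑ z : H, Nat.card {p : H × C // f p = z} < ∑ _z : H, Nat.card C := by
      apply Finset.sum_lt_sum (fun z _ => hfib z)
      refine ⟨z₀, Finset.mem_univ _, ?_⟩
      have : IsEmpty {p : H × C // f p = z₀} := ⟨fun p => hz₀ ⟨p.1, p.2⟩⟩
      simpa using (Fintype.card_pos : 0 < Fintype.card C)
    simp [e.symm, Nat.card_prod, ← Nat.card_eq_fintype_card] at hlt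
  obtain ⟨⟨x, c⟩, hxc⟩ := hsurj ⟨h, hh⟩
  refine ⟨(x : G)⁻¹, inv_mem x.2, c, c.2.1, hcomm _ c.2, ?_⟩
  have := congrArg Subtype.val hxc
  simp only [f] at this
  rw [← this]
  group

end CfsgLib.OddChar
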