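import Mathlib
import Cfsg.Prelude.Def_OddOrderLocal
import Cfsg.Prelude.Def_OddOrderChar
import Cfsg.Agent.Lib.OddChar.Coprime
import Cfsg.Agent.Lib.Char.Orth
import Cfsg.Agent.Lib.Char.Linear
import Cfsg.Agent.Lib.Char.Induced

/-!
Linear characters of `W = W₁ ⊔ W₂`, the functions `(1 - φ) * (1 - ψ)` and induction from a
self-normalising cyclic pair.
-/

set_option autoImplicit false

open ComplexConjugate

namespace CfsgLib.OddChar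

theorem finite_linearChar (W : Type*) [Group W] [Finite W] : Finite (W →* ℂˣ) := by
  haveI : Fintype W := Fintype.ofFinite W
  exact Finite.of_equiv _ CfsgLib.Char.linearCharEquiv.symm

theorem conj_linearChar {W : Type*} [Group W] [Finite W] (f : W →* ℂˣ) (x : W) :
    conj (f x : ℂ) = (f x⁻¹ : ℂ) := by
  have h := CfsgLib.Char.IsIrrCharacter.apply_inv (CfsgLib.Char.isIrrCharacter_linear f) x
  exact h.symm

theorem classInner_linearChar {W : Type*} [Group W] [Fintype W] (f g : W →* ℂˣ)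
    [Decidable (f = g)] :
    Cfsg.classInner (fun x => (f x : ℂ)) (fun x => (g x : ℂ)) = if f = g then 1 else 0 := by
  split_ifs with h
  · subst h; exact CfsgLib.Char.classInner_irr_self (CfsgLib.Char.isIrrCharacter_linear f)
  · refine CfsgLib.Char.classInner_irr_of_ne (CfsgLib.Char.isIrrCharacter_linear f)
      (CfsgLib.Char.isIrrCharacter_linear g) fun e => h ?_
    ext x
    exact congrFun e x

open Classical in
theorem sum_linearChar_trivialOn_eq_zero {W : Type*} [CommGroup W] [Finite W] [Fintype (W →* ℂˣ)]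
    (K : Subgroup W) {a : W} (ha : a ∉ K) :
    ∑ f ∈ Finset.univ.filter (fun f : W →* ℂˣ => ∀ x ∈ K, f x = 1), (f a : ℂ) = 0 := by
  obtain ⟨f₀, hf₀⟩ := CommGroup.exists_apply_ne_one_of_hasEnoughRootsOfUnity (W ⧸ K) ℂ
    (a := QuotientGroup.mk' K a) (by simpa using ha)
  set f₁ := f₀.comp (QuotientGroup.mk' K)
  have hK : ∀ x ∈ K, f₁ x = 1 := fun x hx => by
    simp [f₁, (QuotientGroup.eq_one_iff x).2 hx]
  set S := ∑ f ∈ Finset.univ.filter (fun f : W →* ℂˣ => ∀ x ∈ K, f x = 1), (f a : ℂ)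
  have h1 : (f₁ a : ℂ) * S = S := by
    rw [Finset.mul_sum]
    refine Finset.sum_equiv (Equiv.mulLeft f₁) (fun f => ?_) (fun f _ => by simp)
    simp only [Finset.mem_filter, Finset.mem_univ, true_and, Equiv.coe_mulLeft, MonoidHom.mul_apply]
    exact forall₂_congr fun x hx => by rw [hK x hx, one_mul]
  have h2 : (f₁ a : ℂ) - 1 ≠ 0 := by
    rw [sub_ne_zero]
    exact fun h => hf₀ (Units.ext h)
  exact (mul_eq_zero.1 (show ((f₁ a : ℂ) - 1) * S = 0 by linear_combination h1)).resolve_left h2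

variable {G : Type*} [Group G] {W₁ W₂ : Subgroup G}

theorem sup_hom_ext {f g : ↥(W₁ ⊔ W₂) →* ℂˣ}
    (h₁ : ∀ w : ↥(W₁ ⊔ W₂), (w : G) ∈ W₁ → f w = g w)
    (h₂ : ∀ w : ↥(W₁ ⊔ W₂), (w : G) ∈ W₂ → f w = g w) : f = g := by
  ext ⟨x, hx⟩
  suffices h : f ⟨x, hx⟩ = g ⟨x, hx⟩ by rw [h]
  have key : ∀ y (hy : y ∈ W₁ ⊔ W₂), f ⟨y, hy⟩ = g ⟨y, hy⟩ := by
    have hle : W₁ ⊔ W₂ ≤ (f.eqLocus g).map (W₁ ⊔ W₂).subtype := by
      refine sup_le (fun a ha => ?_) (fun b hb => ?_)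
      · exact ⟨⟨a, Subgroup.mem_sup_left ha⟩, h₁ _ ha, rfl⟩
      · exact ⟨⟨b, Subgroup.mem_sup_right hb⟩, h₂ _ hb, rfl⟩
    intro y hy
    obtain ⟨z, hz, e⟩ := hle hy
    have : z = ⟨y, hy⟩ := Subtype.ext e
    rw [← this]; exact hz
  exact key x hx

/-- The function `(1 - φ) * (1 - ψ)`. -/
def tiAlpha {W : Type*} [Group W] (φ ψ : W →* ℂˣ) : W → ℂ :=
  fun w => 1 - (φ w : ℂ) - (ψ w : ℂ) + (φ w : ℂ) * (ψ w : ℂ)

theorem tiAlpha_eq_zero {φ ψ : ↥(W₁ ⊔ W₂) →* ℂˣ}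
    (hφ : ∀ w : ↥(W₁ ⊔ W₂), (w : G) ∈ W₂ → φ w = 1)
    (hψ : ∀ w : ↥(W₁ ⊔ W₂), (w : G) ∈ W₁ → ψ w = 1)
    {w : ↥(W₁ ⊔ W₂)} (hw : (w : G) ∈ W₁ ∨ (w : G) ∈ W₂) : tiAlpha φ ψ w = 0 := by
  rcases hw with h | h
  · simp [tiAlpha, hψ w h]
  · simp [tiAlpha, hφ w h]

theorem tiAlpha_eq_sum (φ ψ : ↥(W₁ ⊔ W₂) →* ℂˣ) :
    tiAlpha φ ψ = (fun w => ((1 : ↥(W₁ ⊔ W₂) →* ℂˣ) w : ℂ)) - (fun w => (φ w : ℂ))
      - (fun w => (ψ w : ℂ)) + (fun w => ((φ * ψ) w : ℂ)) := by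
  funext w
  simp [tiAlpha]

/-- A function on `W` orthogonal to all `(1 - φ) * (1 - ψ)` vanishes off `W₁ ∪ W₂`. -/
theorem eq_zero_of_orth_tiAlpha [Finite G] (hc : IsCyclic ↥(W₁ ⊔ W₂)) (hdisj : W₁ ⊓ W₂ = ⊥)
    [Fintype ↥(W₁ ⊔ W₂)] (f : ↥(W₁ ⊔ W₂) → ℂ)
    (hf : ∀ φ ψ : ↥(W₁ ⊔ W₂) →* ℂˣ, (∀ w : ↥(W₁ ⊔ W₂), (w : G) ∈ W₂ → φ w = 1) →
      (∀ w : ↥(W₁ ⊔ W₂), (w : G) ∈ W₁ → ψ w = 1) → Cfsg.classInner f (tiAlpha φ ψ) = 0)
    (w : ↥(W₁ ⊔ W₂)) (hw₁ : (w : G) ∉ W₁) (hw₂ : (w : G) ∉ W₂) : f w = 0 := by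
  classical
  haveI := hc
  letI : CommGroup ↥(W₁ ⊔ W₂) := IsCyclic.commGroup
  haveI : Finite (↥(W₁ ⊔ W₂) →* ℂˣ) := finite_linearChar _
  letI : Fintype (↥(W₁ ⊔ W₂) →* ℂˣ) := Fintype.ofFinite _
  set K₁ := W₁.subgroupOf (W₁ ⊔ W₂)
  set K₂ := W₂.subgroupOf (W₁ ⊔ W₂)
  set s₂ := Finset.univ.filter (fun f : ↥(W₁ ⊔ W₂) →* ℂˣ => ∀ x ∈ K₂, f x = 1)
  set s₁ := Finset.univ.filter (fun f : ↥(W₁ ⊔ W₂) →* ℂˣ => ∀ x ∈ K₁, f x = 1)
  have hS : ∀ (K : Subgroup ↥(W₁ ⊔ W₂)) (a : ↥(W₁ ⊔ W₂)),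
      ∑ f ∈ Finset.univ.filter (fun f : ↥(W₁ ⊔ W₂) →* ℂˣ => ∀ x ∈ K, f x = 1), (f a : ℂ) =
        if a ∈ K then ((Finset.univ.filter
          (fun f : ↥(W₁ ⊔ W₂) →* ℂˣ => ∀ x ∈ K, f x = 1)).card : ℂ) else 0 := by
    intro K a
    split_ifs with h
    · rw [Finset.sum_congr rfl (fun f hf => by rw [(Finset.mem_filter.1 hf).2 a h])]
      simp
    · convert sum_linearChar_trivialOn_eq_zero K h
  have hA : ∀ (K : Subgroup ↥(W₁ ⊔ W₂)), w ∉ K → ∀ x,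
      ∑ f ∈ Finset.univ.filter (fun f : ↥(W₁ ⊔ W₂) →* ℂˣ => ∀ x ∈ K, f x = 1),
        (f w : ℂ) * (1 - conj (f x : ℂ)) =
      if w * x⁻¹ ∈ K then -((Finset.univ.filter
          (fun f : ↥(W₁ ⊔ W₂) →* ℂˣ => ∀ x ∈ K, f x = 1)).card : ℂ) else 0 := by
    intro K hK x
    simp only [mul_sub, mul_one, Finset.sum_sub_distrib, hS K w, if_neg hK, conj_linearChar,
      ← Units.val_mul, ← map_mul, hS K (w * x⁻¹)]
    split_ifs <;> simp
  have h0 : ∑ φ ∈ s₂, ∑ ψ ∈ s₁, (φ w : ℂ) * (ψ w : ℂ) * ∑ x, f x * conj (tiAlpha φ ψ x) = 0 := by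
    refine Finset.sum_eq_zero fun φ hφ => Finset.sum_eq_zero fun ψ hψ => ?_
    have := hf φ ψ (fun v hv => (Finset.mem_filter.1 hφ).2 v hv)
      (fun v hv => (Finset.mem_filter.1 hψ).2 v hv)
    rw [Cfsg.classInner, mul_eq_zero] at this
    rw [this.resolve_left (inv_ne_zero (Nat.cast_ne_zero.2 Nat.card_pos.ne')), mul_zero]
  have h1 : ∑ φ ∈ s₂, ∑ ψ ∈ s₁, (φ w : ℂ) * (ψ w : ℂ) * ∑ x, f x * conj (tiAlpha φ ψ x) =
      ∑ x, f x * ((∑ φ ∈ s₂, (φ w : ℂ) * (1 - conj (φ x : ℂ))) *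
        (∑ ψ ∈ s₁, (ψ w : ℂ) * (1 - conj (ψ x : ℂ)))) := by
    simp only [Finset.mul_sum, Finset.sum_mul]
    rw [Finset.sum_comm]
    rw [Finset.sum_comm (s := (Finset.univ : Finset ↥(W₁ ⊔ W₂)))]
    refine Finset.sum_congr rfl fun ψ _ => ?_
    rw [Finset.sum_comm]
    refine Finset.sum_congr rfl fun x _ => Finset.sum_congr rfl fun φ _ => ?_
    simp only [tiAlpha, map_add, map_sub, map_one, map_mul]
    ring
  have hwK₁ : w ∉ K₁ := hw₁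
  have hwK₂ : w ∉ K₂ := hw₂
  rw [h1, Finset.sum_eq_single w] at h0
  · rw [hA K₂ hwK₂ w, hA K₁ hwK₁ w, if_pos (by simp), if_pos (by simp)] at h0
    simp only [neg_mul_neg, mul_eq_zero, Nat.cast_eq_zero, Finset.card_eq_zero] at h0
    refine h0.resolve_right ?_
    rintro (h | h) <;>
      exact Finset.eq_empty_iff_forall_notMem.1 h 1 (by simp)
  · intro x _ hx
    rw [hA K₂ hwK₂ x, hA K₁ hwK₁ x]
    split_ifs with ha hb <;> try simp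
    exfalso
    apply hx
    have h2 : ((w * x⁻¹ : ↥(W₁ ⊔ W₂)) : G) ∈ W₁ ⊓ W₂ := ⟨hb, ha⟩
    rw [hdisj, Subgroup.mem_bot] at h2
    exact (mul_inv_eq_one.1 (Subtype.ext h2 : w * x⁻¹ = 1)).symm
  · simp

/-- `W₁` is the set of elements of the cyclic group `W` killed by `|W₁|`. -/
theorem mem_of_pow_card_eq_one_of_cyclic [Finite G] {K W : Subgroup G} (hKW : K ≤ W)
    (hc : IsCyclic W) {z : G} (hz : z ∈ W) (h : z ^ Nat.card K = 1) : z ∈ K := by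
  classical
  haveI := hc
  haveI : Fintype W := Fintype.ofFinite W
  set T := Finset.univ.filter (fun a : W => a ^ Nat.card K = 1)
  set T' := Finset.univ.filter (fun a : W => (a : G) ∈ K)
  have hsub : T' ⊆ T := fun a ha => by
    simp only [T', T, Finset.mem_filter, Finset.mem_univ, true_and] at ha ⊢
    exact Subtype.ext (by simpa using pow_card_mem ha)
  have hcard : T'.card = Nat.card K := by
    rw [← Fintype.card_subtype, ← Nat.card_eq_fintype_card]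
    exact Nat.card_congr (Subgroup.subgroupOfEquivOfLe hKW).toEquiv
  have := Finset.eq_of_subset_of_card_le hsub
    (hcard ▸ IsCyclic.card_pow_eq_one_le Nat.card_pos)
  have hzT : (⟨z, hz⟩ : W) ∈ T := by simp [T, Subtype.ext_iff, h]
  rw [← this] at hzT
  simpa [T'] using hzT

/-- `W \ (W₁ ∪ W₂)` is a TI-subset with normaliser `W`. -/
theorem selfNormalizingCyclic_mem_of_conj [Finite G] (hW : Cfsg.IsSelfNormalizingCyclic W₁ W₂)
    {w g : G} (hwW : w ∈ W₁ ⊔ W₂) (hw₁ : w ∉ W₁) (hw₂ : w ∉ W₂)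
    (hgW : g * w * g⁻¹ ∈ W₁ ⊔ W₂) (hg₁ : g * w * g⁻¹ ∉ W₁) (hg₂ : g * w * g⁻¹ ∉ W₂) :
    g ∈ W₁ ⊔ W₂ := by
  obtain ⟨_, _, _, _, hc, hN⟩ := hW
  haveI := hc
  set W := W₁ ⊔ W₂ with hWdef
  have hab : ∀ a ∈ W, ∀ b ∈ W, a * b = b * a := by
    intro a ha b hb
    letI : CommGroup W := IsCyclic.commGroup
    exact congrArg Subtype.val (mul_comm (⟨a, ha⟩ : W) ⟨b, hb⟩)
  have hcent : ∀ v ∈ W, v ∉ W₁ → v ∉ W₂ → ∀ z : G, z * v = v * z → z ∈ W := by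
    intro v hv hv1 hv2 z hz
    have := hN {v} (by simpa using And.intro hv (And.intro hv1 hv2)) (Set.singleton_nonempty v)
    rw [← this, Subgroup.mem_set_normalizer_iff]
    intro y
    simp only [Set.mem_singleton_iff]
    constructor
    · rintro rfl; rw [hz]; group
    · intro h
      have : y = z⁻¹ * v * z := by rw [← h]; group
      rw [this, mul_assoc, ← hz]; group
  have hconj : ∀ z, z ∈ W ↔ g * z * g⁻¹ ∈ W := by
    intro z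
    constructor
    · intro hz
      apply hcent _ hgW hg₁ hg₂
      calc g * z * g⁻¹ * (g * w * g⁻¹) = g * (z * w) * g⁻¹ := by group
        _ = g * (w * z) * g⁻¹ := by rw [hab z hz w hwW]
        _ = _ := by group
    · intro hz
      apply hcent w hwW hw₁ hw₂
      have := hab _ hz _ hgW
      calc z * w = g⁻¹ * ((g * z * g⁻¹) * (g * w * g⁻¹)) * g := by group
        _ = _ := by rw [this]; group
  have hsub : ∀ K : Subgroup G, K ≤ W → ∀ z ∈ W, (z ∈ K ↔ g * z * g⁻¹ ∈ K) := by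
    intro K hK z hz
    constructor
    · intro h
      apply mem_of_pow_card_eq_one_of_cyclic hK hc ((hconj z).1 hz)
      rw [conj_pow, pow_card_mem h]; group
    · intro h
      apply mem_of_pow_card_eq_one_of_cyclic hK hc hz
      have := pow_card_mem h
      rw [conj_pow] at this
      exact conj_eq_one_iff.1 this
  have := hN ((W : Set G) \ (↑W₁ ∪ ↑W₂)) subset_rfl ⟨w, hwW, fun h => h.elim hw₁ hw₂⟩
  rw [← this, Subgroup.mem_set_normalizer_iff]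
  intro z
  simp only [Set.mem_sdiff, SetLike.mem_coe, Set.mem_union, not_or]
  constructor
  · rintro ⟨h0, h1, h2⟩
    exact ⟨(hconj z).1 h0, fun h => h1 ((hsub W₁ le_sup_left z h0).2 h),
      fun h => h2 ((hsub W₂ le_sup_right z h0).2 h)⟩
  · rintro ⟨h0, h1, h2⟩
    have h0' := (hconj z).2 h0
    exact ⟨h0', fun h => h1 ((hsub W₁ le_sup_left z h0').1 h),
      fun h => h2 ((hsub W₂ le_sup_right z h0').1 h)⟩

/-- Induction from `W` does not change a function supported off `W₁ ∪ W₂` there. -/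
theorem indFun_apply_of_selfNormalizingCyclic [Fintype G]
    (hW : Cfsg.IsSelfNormalizingCyclic W₁ W₂) (f : ↥(W₁ ⊔ W₂) → ℂ)
    (hf : ∀ w : ↥(W₁ ⊔ W₂), ((w : G) ∈ W₁ ∨ (w : G) ∈ W₂) → f w = 0)
    (w : ↥(W₁ ⊔ W₂)) (hw₁ : (w : G) ∉ W₁) (hw₂ : (w : G) ∉ W₂) :
    Cfsg.indFun (W₁ ⊔ W₂) f w = f w := by
  classical
  haveI := hW.2.2.2.2.1
  letI : CommGroup ↥(W₁ ⊔ W₂) := IsCyclic.commGroup
  rw [CfsgLib.Char.indFun_apply]
  have : ∀ x : G, Cfsg.extendByZero (W₁ ⊔ W₂) f (x⁻¹ * w * x) =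
      if x ∈ W₁ ⊔ W₂ then f w else 0 := by
    intro x
    split_ifs with hx
    · have : x⁻¹ * (w : G) * x = w := by
        have h := congrArg Subtype.val (mul_comm (⟨x, hx⟩ : ↥(W₁ ⊔ W₂)) w)
        simp only [Subgroup.coe_mul] at h
        rw [mul_assoc, ← h]; group
      rw [this, CfsgLib.Char.extendByZero_coe]
    · by_contra hne
      have hmem : x⁻¹ * (w : G) * x ∈ W₁ ⊔ W₂ := by
        by_contra h
        exact hne (CfsgLib.Char.extendByZero_of_notMem _ f h)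
      rw [CfsgLib.Char.extendByZero_apply_mem _ f hmem] at hne
      have hV : ¬ (x⁻¹ * (w : G) * x ∈ W₁ ∨ x⁻¹ * (w : G) * x ∈ W₂) :=
        fun h => hne (hf ⟨_, hmem⟩ h)
      rw [not_or] at hV
      have := selfNormalizingCyclic_mem_of_conj hW w.2 hw₁ hw₂ (g := x⁻¹)
        (by simpa using hmem) (by simpa using hV.1) (by simpa using hV.2)
      exact hx (by simpa using this)
  rw [Finset.sum_congr rfl (fun x _ => this x), ← Finset.sum_filter, Finset.sum_const,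
    ← Fintype.card_subtype, nsmul_eq_mul, ← Nat.card_eq_fintype_card, ← mul_assoc,
    inv_mul_cancel₀ (Nat.cast_ne_zero.2 Nat.card_pos.ne'), one_mul]

/-- `⟨θ, Ind ((1 - φ) * (1 - ψ))⟩` written through a cyclic TI family. -/
theorem cyclicTIFamily_inner [Fintype G] [Fintype ↥(W₁ ⊔ W₂)]
    {χ : (↥(W₁ ⊔ W₂) →* ℂˣ) → (G → ℂ)} (hχ : Cfsg.IsCyclicTIFamily W₁ W₂ χ)
    {θ : G → ℂ} (hθ : Cfsg.IsClassFunction G θ) (φ ψ : ↥(W₁ ⊔ W₂) →* ℂˣ)
    (hφ : ∀ w : ↥(W₁ ⊔ W₂), (w : G) ∈ W₂ → φ w = 1)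
    (hψ : ∀ w : ↥(W₁ ⊔ W₂), (w : G) ∈ W₁ → ψ w = 1) :
    Cfsg.classInner (fun w : ↥(W₁ ⊔ W₂) => θ w) (tiAlpha φ ψ) =
      Cfsg.classInner θ (χ 1) - Cfsg.classInner θ (χ φ) - Cfsg.classInner θ (χ ψ)
        + Cfsg.classInner θ (χ (φ * ψ)) := by
  by_cases h1 : φ = 1
  · subst h1
    rw [show (1 : ↥(W₁ ⊔ W₂) →* ℂˣ) * ψ = ψ by ext w; simp, sub_self, zero_sub, neg_add_cancel,
      show tiAlpha (1 : ↥(W₁ ⊔ W₂) →* ℂˣ) ψ = 0 by funext w; simp [tiAlpha],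
      CfsgLib.Char.classInner_zero_right]
  by_cases h2 : ψ = 1
  · subst h2
    rw [show tiAlpha φ (1 : ↥(W₁ ⊔ W₂) →* ℂˣ) = 0 by funext w; simp [tiAlpha],
      CfsgLib.Char.classInner_zero_right, show φ * (1 : ↥(W₁ ⊔ W₂) →* ℂˣ) = φ by ext w; simp]
    ring
  have he : Cfsg.indFun (W₁ ⊔ W₂) (tiAlpha φ ψ) = χ 1 - χ φ - χ ψ + χ (φ * ψ) := by
    rw [show tiAlpha φ ψ = fun w => 1 - (φ w : ℂ) - (ψ w : ℂ) + (φ w : ℂ) * (ψ w : ℂ) from rfl,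
      hχ.induced_eq φ ψ h1 h2 hφ hψ, hχ.map_one]
    rfl
  rw [← CfsgLib.Char.classInner_sub_right, ← CfsgLib.Char.classInner_sub_right,
    ← CfsgLib.Char.classInner_add_right, ← he,
    ← CfsgLib.Char.classInner_conj_symm (Cfsg.indFun (W₁ ⊔ W₂) (tiAlpha φ ψ)) θ,
    CfsgLib.Char.classInner_indFun _ _ _ hθ, CfsgLib.Char.classInner_conj_symm]

end CfsgLib.OddChar
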