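import Cfsg.Agent.Lib.OddChar.CyclicDual
import Cfsg.Agent.Lib.Char.GaloisConj
import Cfsg.Agent.Lib.Char.Virtual
import Cfsg.Agent.S1506
import Mathlib.Data.ZMod.Units

/-!
Uniqueness of a cyclic TI family and the action of coprime powers on it.
-/

set_option autoImplicit false

namespace CfsgLib.OddChar.CyclicUnique

variable {G : Type*} [Group G] [Fintype G]

/-- An irreducible character or the negative of one. -/
def Signed (α : G → ℂ) : Prop := Cfsg.IsIrrCharacter G α ∨ Cfsg.IsIrrCharacter G (-α)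

theorem Signed.exists {α : G → ℂ} (h : Signed α) :
    ∃ (a : G → ℂ) (s : ℂ), Cfsg.IsIrrCharacter G a ∧ (s = 1 ∨ s = -1) ∧ α = s • a := by
  rcases h with h | h
  · exact ⟨α, 1, h, Or.inl rfl, (one_smul ℂ α).symm⟩
  · exact ⟨-α, -1, h, Or.inr rfl, by simp⟩

theorem Signed.inner_self {α : G → ℂ} (h : Signed α) : Cfsg.classInner α α = 1 := by
  obtain ⟨a, s, ha, hs, rfl⟩ := h.exists
  rcases hs with rfl | rfl <;>
    simp [Char.classInner_smul_left, Char.classInner_smul_right, Char.classInner_neg_left,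
      Char.classInner_neg_right, Char.classInner_irr_self ha]

theorem Signed.eq_or_neg {α β : G → ℂ} (hα : Signed α) (hβ : Signed β)
    (h : Cfsg.classInner α β ≠ 0) :
    (α = β ∧ Cfsg.classInner α β = 1) ∨ (α = -β ∧ Cfsg.classInner α β = -1) := by
  obtain ⟨a, s, ha, hs, rfl⟩ := hα.exists
  obtain ⟨b, t, hb, ht, rfl⟩ := hβ.exists
  have hab : a = b := by
    by_contra hne
    simp [Char.classInner_smul_left, Char.classInner_smul_right,
      Char.classInner_irr_of_ne ha hb hne] at h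
  subst hab
  rcases hs with rfl | rfl <;> rcases ht with rfl | rfl <;>
    simp [Char.classInner_smul_left, Char.classInner_smul_right, Char.classInner_neg_left,
      Char.classInner_neg_right, Char.classInner_irr_self ha]

theorem Signed.isClassFunction {α : G → ℂ} (h : Signed α) : Cfsg.IsClassFunction G α := by
  obtain ⟨a, s, ha, -, rfl⟩ := h.exists
  intro x y
  simp [Char.IsIrrCharacter.isClassFunction ha x y]

variable {W₁ W₂ : Subgroup G}

theorem three_le_card {U : Subgroup G} (hU : U ≠ ⊥) (h : U ≤ W₁ ⊔ W₂)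
    (hodd : Odd (Nat.card ↥(W₁ ⊔ W₂))) : 3 ≤ Nat.card U := by
  obtain ⟨t, ht⟩ := hodd.of_dvd_nat (Subgroup.card_dvd_of_le h)
  have := (Subgroup.one_lt_card_iff_ne_bot U).2 hU
  omega

/-- A signed irreducible character agreeing with `ω` off `W₁ ∪ W₂` is the member at `ω`. -/
theorem eq_of_eq_on (hW : Cfsg.IsSelfNormalizingCyclic W₁ W₂)
    (hodd : Odd (Nat.card ↥(W₁ ⊔ W₂))) {χ : (↥(W₁ ⊔ W₂) →* ℂˣ) → (G → ℂ)}
    (hχ : Cfsg.IsCyclicTIFamily W₁ W₂ χ) {θ : G → ℂ} (hθ : Signed θ) (ω : ↥(W₁ ⊔ W₂) →* ℂˣ)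
    (hon : ∀ w : ↥(W₁ ⊔ W₂), (w : G) ∉ W₁ → (w : G) ∉ W₂ → θ w = (ω w : ℂ)) : θ = χ ω := by
  classical
  obtain ⟨hW1, hW2, hdisj, hcomm, hcyc, -⟩ := id hW
  haveI := hcyc
  haveI : IsCyclic W₁ :=
    isCyclic_of_injective _ (Subgroup.inclusion_injective (le_sup_left : W₁ ≤ W₁ ⊔ W₂))
  haveI : IsCyclic W₂ :=
    isCyclic_of_injective _ (Subgroup.inclusion_injective (le_sup_right : W₂ ≤ W₁ ⊔ W₂))
  haveI := finite_linearChar W₁
  haveI := finite_linearChar W₂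
  letI : Fintype (W₁ →* ℂˣ) := Fintype.ofFinite _
  letI : Fintype (W₂ →* ℂˣ) := Fintype.ofFinite _
  have hη : Cfsg.IsClassFunction G (θ - χ ω) := fun x y => by
    simp [hθ.isClassFunction x y, Signed.isClassFunction (hχ.irr_or_neg ω) x y]
  have hrect := fun φ φ' ψ ψ' => Cfsg.Agent.S1506.result W₁ W₂ hW χ hχ (θ - χ ω) hη
    (fun w h1 h2 => by simp [hon w h1 h2, hχ.eq_on ω w h1 h2]) φ φ' ψ ψ'
  set a : (↥(W₁ ⊔ W₂) →* ℂˣ) → ℂ := fun ξ => Cfsg.classInner (θ - χ ω) (χ ξ)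
  have ha : ∀ ξ, a ξ = Cfsg.classInner θ (χ ξ) - if ω = ξ then 1 else 0 := fun ξ => by
    simp only [a, Char.classInner_sub_left, hχ.orthonormal]
    congr
  have huniq : ∀ ξ ξ', Cfsg.classInner θ (χ ξ) ≠ 0 → Cfsg.classInner θ (χ ξ') ≠ 0 → ξ = ξ' := by
    intro ξ ξ' h h'
    by_contra hne
    have h0 : Cfsg.classInner (χ ξ) (χ ξ') = 0 := by rw [hχ.orthonormal, if_neg hne]
    rcases Signed.eq_or_neg hθ (hχ.irr_or_neg ξ) h with ⟨e, -⟩ | ⟨e, -⟩
    · exact h' (by rw [e, h0])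
    · exact h' (by rw [e, Char.classInner_neg_left, h0, neg_zero])
  obtain ⟨ξ₀, hξ₀⟩ : ∃ ξ₀, ∀ ξ, ξ ≠ ω → ξ ≠ ξ₀ → a ξ = 0 := by
    by_cases hex : ∃ ξ, Cfsg.classInner θ (χ ξ) ≠ 0
    · obtain ⟨ξ₀, h₀⟩ := hex
      refine ⟨ξ₀, fun ξ h1 h2 => ?_⟩
      rw [ha, if_neg (Ne.symm h1), sub_zero]
      exact by_contra fun h => h2 (huniq _ _ h h₀)
    · push Not at hex
      exact ⟨ω, fun ξ h1 _ => by rw [ha, hex, if_neg (Ne.symm h1), sub_zero]⟩
  obtain ⟨i, j, hi, hj, hij⟩ := exists_dual hdisj hcomm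
  obtain ⟨⟨p₁, p₂⟩, hp⟩ := hij.2 ω
  obtain ⟨⟨q₁, q₂⟩, hq⟩ := hij.2 ξ₀
  have hother : ∀ {U : Type _} [Fintype U] (u v : U), 3 ≤ Fintype.card U → ∃ x, x ≠ u ∧ x ≠ v := by
    intro U _ u v h
    by_contra hc
    push Not at hc
    have h2 := Finset.card_le_card
      (fun x _ => by simpa [or_iff_not_imp_left] using hc x : Finset.univ ⊆ ({u, v} : Finset U))
    have := Finset.card_le_two (a := u) (b := v)
    rw [Finset.card_univ] at h2
    omega
  have hc1 : 3 ≤ Fintype.card (W₁ →* ℂˣ) := by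
    rw [← Nat.card_eq_fintype_card, card_dual]; exact three_le_card hW1 le_sup_left hodd
  have hc2 : 3 ≤ Fintype.card (W₂ →* ℂˣ) := by
    rw [← Nat.card_eq_fintype_card, card_dual]; exact three_le_card hW2 le_sup_right hodd
  obtain ⟨f, hfp, hfq⟩ := hother p₁ q₁ hc1
  obtain ⟨g, hgp, hgq⟩ := hother p₂ q₂ hc2
  have hz : ∀ f' g', (f', g') ≠ (p₁, p₂) → (f', g') ≠ (q₁, q₂) → a (i f' * j g') = 0 :=
    fun f' g' h1 h2 => hξ₀ _ (fun e => h1 (hij.1 (e.trans hp.symm)))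
      (fun e => h2 (hij.1 (e.trans hq.symm)))
  have hω : a ω = 0 := by
    have h := hrect (i p₁) (i f) (j p₂) (j g) (fun w hw => ⟨hi _ w hw, hi _ w hw⟩)
      (fun w hw => ⟨hj _ w hw, hj _ w hw⟩)
    change a (i p₁ * j p₂) + a (i f * j g) = a (i p₁ * j g) + a (i f * j p₂) at h
    rw [hz f g (by simp [hfp]) (by simp [hfq]), hz p₁ g (by simp [hgp]) (by simp [hgq]),
      hz f p₂ (by simp [hfp]) (by simp [hfq]), add_zero, add_zero] at h
    rwa [show i p₁ * j p₂ = ω from hp] at h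
  rw [ha, if_pos rfl, sub_eq_zero] at hω
  rcases Signed.eq_or_neg hθ (hχ.irr_or_neg ω) (by rw [hω]; exact one_ne_zero) with ⟨e, -⟩ | ⟨-, e⟩
  · exact e
  · rw [hω] at e; norm_num at e

/-- The value at `g` is fixed by powers prime to `|G|` and congruent to `1` modulo the order of
`ω`. -/
theorem apply_pow (hW : Cfsg.IsSelfNormalizingCyclic W₁ W₂) (hodd : Odd (Nat.card ↥(W₁ ⊔ W₂)))
    {χ : (↥(W₁ ⊔ W₂) →* ℂˣ) → (G → ℂ)} (hχ : Cfsg.IsCyclicTIFamily W₁ W₂ χ)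
    (ω : ↥(W₁ ⊔ W₂) →* ℂˣ) {k : ℕ} (hk : k.Coprime (Nat.card G))
    (hk1 : k ≡ 1 [MOD orderOf ω]) (g : G) : χ ω (g ^ k) = χ ω g := by
  have hs : Signed fun x => χ ω (x ^ k) := by
    rcases hχ.irr_or_neg ω with h | h
    · exact Or.inl (CharGalois.isIrrCharacter_powMap hk h)
    · exact Or.inr (CharGalois.isIrrCharacter_powMap hk h)
  refine congrFun (eq_of_eq_on hW hodd hχ hs ω fun w h1 h2 => ?_) g
  have hout : ∀ U : Subgroup G, (w : G) ∉ U → ((w ^ k : ↥(W₁ ⊔ W₂)) : G) ∉ U := by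
    intro U hU hmem
    rw [Subgroup.coe_pow] at hmem
    refine hU ?_
    obtain ⟨y, hy⟩ := exists_pow_eq_self_of_coprime (x := (w : G)) (n := k)
      (hk.coprime_dvd_right (orderOf_dvd_natCard (w : G)))
    rw [← hy]
    exact pow_mem hmem y
  show χ ω ((w : G) ^ k) = _
  rw [← Subgroup.coe_pow, hχ.eq_on ω _ (hout _ h1) (hout _ h2)]
  have ho : (ω w) ^ orderOf ω = 1 := DFunLike.congr_fun (pow_orderOf_eq_one ω) w
  rw [map_pow, pow_eq_pow_mod k ho, show k % orderOf ω = 1 % orderOf ω from hk1,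
    ← pow_eq_pow_mod 1 ho, pow_one]

theorem exists_int (hW : Cfsg.IsSelfNormalizingCyclic W₁ W₂)
    (hodd : Odd (Nat.card ↥(W₁ ⊔ W₂))) {χ : (↥(W₁ ⊔ W₂) →* ℂˣ) → (G → ℂ)}
    (hχ : Cfsg.IsCyclicTIFamily W₁ W₂ χ) (ω : ↥(W₁ ⊔ W₂) →* ℂˣ) (g : G)
    (hg : Nat.Coprime (orderOf g) (orderOf ω)) : ∃ n : ℤ, χ ω g = n := by
  have hωG : orderOf ω ∣ Nat.card G := by
    refine (orderOf_dvd_of_pow_eq_one (MonoidHom.ext fun w => ?_)).trans
      (W₁ ⊔ W₂).card_subgroup_dvd_card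
    rw [MonoidHom.pow_apply, ← map_pow, pow_card_eq_one', map_one, MonoidHom.one_apply]
  haveI : NeZero (Nat.card G) := ⟨Nat.card_pos.ne'⟩
  have hpow : ∀ m : ℕ, m.Coprime (orderOf g) → χ ω (g ^ m) = χ ω g := by
    intro m hm
    obtain ⟨k₀, hk₁, hk₂⟩ := Nat.chineseRemainder hg m 1
    have hco : k₀.Coprime (orderOf g * orderOf ω) := by
      refine Nat.Coprime.mul_right ?_ ?_
      · rw [Nat.coprime_iff_gcd_eq_one, hk₁.gcd_eq]; exact hm
      · rw [Nat.coprime_iff_gcd_eq_one, hk₂.gcd_eq]; exact Nat.gcd_one_left _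
    obtain ⟨u, hu⟩ := ZMod.unitsMap_surjective
      (Nat.Coprime.mul_dvd_of_dvd_of_dvd hg (orderOf_dvd_natCard g) hωG)
      (ZMod.unitOfCoprime k₀ hco)
    have hmod : (u : ZMod (Nat.card G)).val ≡ k₀ [MOD orderOf g * orderOf ω] := by
      rw [← ZMod.natCast_eq_natCast_iff]
      have h := congrArg Units.val hu
      rw [ZMod.unitsMap_val, ZMod.coe_unitOfCoprime] at h
      rw [← h, ZMod.natCast_val]
    have hkG : (u : ZMod (Nat.card G)).val.Coprime (Nat.card G) := ZMod.val_coe_unit_coprime u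
    have h := apply_pow hW hodd hχ ω hkG
      ((hmod.of_mul_left _).trans hk₂) g
    rwa [pow_eq_pow_iff_modEq.2 ((hmod.of_mul_right _).trans hk₁)] at h
  have hgen : Cfsg.IsGeneralizedCharacter G (χ ω) := by
    rcases hχ.irr_or_neg ω with h | h
    · exact Char.IsIrrCharacter.isGeneralizedCharacter h
    · simpa using Char.IsGeneralizedCharacter.neg (Char.IsIrrCharacter.isGeneralizedCharacter h)
  have hrat : ∃ q : ℚ, χ ω g = (q : ℂ) := by
    rcases hχ.irr_or_neg ω with h | h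
    · exact (CharPower.exists_rat_iff (Char.IsIrrCharacter.isCharacter h) g
        (orderOf_pos g) (pow_orderOf_eq_one g)).2 hpow
    · obtain ⟨q, hq⟩ := (CharPower.exists_rat_iff (Char.IsIrrCharacter.isCharacter h) g
        (orderOf_pos g) (pow_orderOf_eq_one g)).2 fun m hm => by simp [hpow m hm]
      exact ⟨-q, by rw [Rat.cast_neg, ← hq]; simp⟩
  obtain ⟨q, hq⟩ := hrat
  obtain ⟨n, hn⟩ := Char.exists_int_of_isIntegral_ratCast
    (hq ▸ Char.IsGeneralizedCharacter.isIntegral_apply hgen g)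
  exact ⟨n, by rw [hq]; exact_mod_cast hn.symm⟩

end CfsgLib.OddChar.CyclicUnique
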