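import Cfsg.Agent.Lib.OddChar.Coprime
import Cfsg.Prelude.Def_OddOrderChar

/-!
The Dade hypothesis: conjugation of the cosets `a * H a`, and the counting formula for sums
over the Dade support.
-/

set_option autoImplicit false

namespace CfsgLib.OddChar

variable {G : Type*} [Group G] {A : Set G} {L : Subgroup G} {H : G → Subgroup G}

theorem dade_commute (hD : Cfsg.DadeHypothesis A L H) {a u : G} (ha : a ∈ A) (hu : u ∈ H a) :
    a * u = u * a :=
  (Subgroup.mem_centralizer_singleton_iff.1 (hD.le_centralizer a ha hu)).symm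

theorem dade_pow_card_eq_one [Finite G] (hD : Cfsg.DadeHypothesis A L H) {a : G} (ha : a ∈ A) :
    a ^ Nat.card ↥(L ⊓ Subgroup.centralizer ({a} : Set G)) = 1 :=
  pow_card_mem ⟨hD.subset ha, Subgroup.mem_centralizer_singleton_iff.2 rfl⟩

/-- If an element of `a * H a` is conjugated by `g` into `b * H b` then `g` conjugates `a` to `b`. -/
theorem dade_coset_conj [Finite G] (hD : Cfsg.DadeHypothesis A L H) {a b u v g : G}
    (ha : a ∈ A) (hb : b ∈ A) (hu : u ∈ H a) (hv : v ∈ H b)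
    (h : g * (a * u) * g⁻¹ = b * v) : g * a * g⁻¹ = b := by
  set m := Nat.card ↥(L ⊓ Subgroup.centralizer ({a} : Set G)) *
    Nat.card ↥(L ⊓ Subgroup.centralizer ({b} : Set G))
  set n := Nat.card (H a) * Nat.card (H b)
  have hmn : Nat.Coprime m n :=
    (Nat.Coprime.mul_left
      (((hD.coprime a ha a ha).symm).mul_right (hD.coprime b hb a ha).symm)
      (((hD.coprime a ha b hb).symm).mul_right (hD.coprime b hb b hb).symm))
  obtain ⟨k, hk⟩ := exists_pow_split (G := G) hmn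
  have h1 : (a * u) ^ k = a := hk a u (dade_commute hD ha hu)
    (by rw [pow_mul, dade_pow_card_eq_one hD ha, one_pow])
    (by rw [pow_mul, pow_card_mem hu, one_pow])
  have h2 : (b * v) ^ k = b := hk b v (dade_commute hD hb hv)
    (orderOf_dvd_iff_pow_eq_one.1 ((orderOf_dvd_of_pow_eq_one
      (dade_pow_card_eq_one hD hb)).trans (dvd_mul_left _ _)))
    (orderOf_dvd_iff_pow_eq_one.1 ((orderOf_dvd_of_pow_eq_one
      (pow_card_mem hv)).trans (dvd_mul_left _ _)))
  rw [← h2, ← h, conj_pow, h1]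

theorem dade_coset_unique [Finite G] (hD : Cfsg.DadeHypothesis A L H) {a b u v : G}
    (ha : a ∈ A) (hb : b ∈ A) (hu : u ∈ H a) (hv : v ∈ H b) (h : a * u = b * v) :
    a = b ∧ u = v := by
  have hab : a = b := by
    simpa using dade_coset_conj (g := 1) hD ha hb hu hv (by simpa using h)
  subst hab
  exact ⟨rfl, mul_left_cancel h⟩

theorem dade_centralizer_split (hD : Cfsg.DadeHypothesis A L H) {a z : G} (ha : a ∈ A)
    (hz : z ∈ Subgroup.centralizer ({a} : Set G)) :
    ∃ l ∈ L ⊓ Subgroup.centralizer ({a} : Set G), ∃ u ∈ H a, z = l * u := by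
  have hle : L ⊓ Subgroup.centralizer ({a} : Set G) ≤ Subgroup.normalizer (H a : Set G) := by
    intro c hc
    refine Subgroup.mem_normalizer_iff.2 fun w => ⟨hD.conj_mem_H a ha c hc.2 w, fun hw => ?_⟩
    have := hD.conj_mem_H a ha c⁻¹ (inv_mem hc.2) _ hw
    simpa [mul_assoc] using this
  rw [← hD.sup_eq a ha, sup_comm] at hz
  rw [← SetLike.mem_coe, Subgroup.coe_mul_of_left_le_normalizer_right _ _ hle] at hz
  obtain ⟨l, hl, u, hu, rfl⟩ := hz
  exact ⟨l, hl, u, hu, rfl⟩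

theorem dade_H_conj_mem [Finite G] (hD : Cfsg.DadeHypothesis A L H) {a u x : G}
    (ha : a ∈ A) (hx : x ∈ L) (hu : u ∈ H a) : x * u * x⁻¹ ∈ H (x * a * x⁻¹) := by
  set b := x * a * x⁻¹ with hbdef
  have hb : b ∈ A := hD.conj_mem x hx a ha
  have hz : x * u * x⁻¹ ∈ Subgroup.centralizer ({b} : Set G) := by
    rw [Subgroup.mem_centralizer_singleton_iff, hbdef]
    calc x * u * x⁻¹ * (x * a * x⁻¹) = x * (u * a) * x⁻¹ := by group
      _ = x * (a * u) * x⁻¹ := by rw [dade_commute hD ha hu]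
      _ = _ := by group
  obtain ⟨l, hl, v, hv, hlv⟩ := dade_centralizer_split hD hb hz
  have hpow : ∀ n : ℕ, ∃ w ∈ H b, (l * v) ^ n = l ^ n * w := by
    intro n
    induction n with
    | zero => exact ⟨1, one_mem _, by simp⟩
    | succ n ih =>
      obtain ⟨w, hw, e⟩ := ih
      refine ⟨l⁻¹ * w * l * v, mul_mem ?_ hv, ?_⟩
      · simpa using hD.conj_mem_H b hb l⁻¹ (inv_mem hl.2) w hw
      · rw [pow_succ, e, pow_succ]; group
  obtain ⟨w, hw, e⟩ := hpow (Nat.card (H a))
  have h1 : (l * v) ^ Nat.card (H a) = 1 := by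
    rw [← hlv, conj_pow, pow_card_mem hu]; group
  rw [h1] at e
  have h2 : l ^ Nat.card (H a) ∈ H b ⊓ (L ⊓ Subgroup.centralizer ({b} : Set G)) := by
    refine ⟨?_, pow_mem hl _⟩
    rw [eq_inv_of_mul_eq_one_left e.symm]
    exact (H b).inv_mem hw
  rw [hD.inf_eq_bot b hb, Subgroup.mem_bot] at h2
  have h3 : l = 1 := by
    rw [← orderOf_eq_one_iff]
    exact Nat.eq_one_of_dvd_coprimes (hD.coprime a ha b hb) (orderOf_dvd_of_pow_eq_one h2)
      (orderOf_dvd_of_pow_eq_one (pow_card_mem hl))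
  rw [hlv, h3, one_mul]
  exact hv

theorem dade_H_conj [Finite G] (hD : Cfsg.DadeHypothesis A L H) {a x : G}
    (ha : a ∈ A) (hx : x ∈ L) :
    H (x * a * x⁻¹) = (H a).map (MulAut.conj x).toMonoidHom := by
  apply le_antisymm
  · intro v hv
    have := dade_H_conj_mem hD (hD.conj_mem x hx a ha) (inv_mem hx) hv
    simp only [inv_inv] at this
    refine Subgroup.mem_map.2 ⟨x⁻¹ * v * x, ?_, by simp [mul_assoc]⟩
    simpa [mul_assoc] using this
  · rintro _ ⟨u, hu, rfl⟩
    simpa using dade_H_conj_mem hD ha hx hu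

/-- Conjugation of a coset `a * H a` by any element sending `a` into `A`. -/
theorem dade_conj_coset_mem [Finite G] (hD : Cfsg.DadeHypothesis A L H) {a u g : G}
    (ha : a ∈ A) (hu : u ∈ H a) (hg : g * a * g⁻¹ ∈ A) : g * u * g⁻¹ ∈ H (g * a * g⁻¹) := by
  obtain ⟨x, hx, e⟩ := hD.fusion a ha g hg
  have hc : x⁻¹ * g ∈ Subgroup.centralizer ({a} : Set G) := by
    rw [Subgroup.mem_centralizer_singleton_iff]
    calc x⁻¹ * g * a = x⁻¹ * (g * a * g⁻¹) * g := by group
      _ = _ := by rw [← e]; group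
  have := dade_H_conj_mem hD ha hx (hD.conj_mem_H a ha _ hc u hu)
  rw [e] at this
  convert this using 1
  group

theorem dade_card_H_conj [Finite G] (hD : Cfsg.DadeHypothesis A L H) {a g : G}
    (ha : a ∈ A) (hg : g * a * g⁻¹ ∈ A) : Nat.card (H (g * a * g⁻¹)) = Nat.card (H a) := by
  obtain ⟨x, hx, e⟩ := hD.fusion a ha g hg
  rw [← e, dade_H_conj hD ha hx]
  exact Nat.card_congr ((Subgroup.equivMapOfInjective _ _ (MulAut.conj x).injective).toEquiv).symm

/-- The number of elements of `G` carrying `a` into `A` is `|L| * |H a|`. -/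
theorem dade_card_transporter [Finite G] (hD : Cfsg.DadeHypothesis A L H) {a : G} (ha : a ∈ A) :
    Nat.card {y : G // y * a * y⁻¹ ∈ A} = Nat.card L * Nat.card (H a) := by
  rw [← Nat.card_prod]
  symm
  have hmem : ∀ p : L × H a, (p.1 : G) * p.2 * a * ((p.1 : G) * p.2)⁻¹ = p.1 * a * (p.1 : G)⁻¹ := by
    intro p
    calc _ = (p.1 : G) * ((p.2 : G) * a) * (p.2 : G)⁻¹ * (p.1 : G)⁻¹ := by group
      _ = (p.1 : G) * (a * (p.2 : G)) * (p.2 : G)⁻¹ * (p.1 : G)⁻¹ := by
        rw [dade_commute hD ha p.2.2]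
      _ = _ := by group
  refine Nat.card_eq_of_bijective
    (fun p : L × H a => (⟨(p.1 : G) * p.2, by rw [hmem]; exact hD.conj_mem _ p.1.2 a ha⟩ :
      {y : G // y * a * y⁻¹ ∈ A})) ⟨?_, ?_⟩
  · rintro ⟨l, u⟩ ⟨l', u'⟩ h
    have h1 : (l : G) * u = l' * u' := congrArg Subtype.val h
    have h2 : (l' : G)⁻¹ * l = u' * (u : G)⁻¹ := by
      calc (l' : G)⁻¹ * l = (l' : G)⁻¹ * ((l : G) * u) * (u : G)⁻¹ := by group
        _ = _ := by rw [h1]; group
    have hH : (l' : G)⁻¹ * l ∈ H a := by rw [h2]; exact mul_mem u'.2 (inv_mem u.2)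
    have h3 : (l' : G)⁻¹ * l ∈ H a ⊓ (L ⊓ Subgroup.centralizer ({a} : Set G)) :=
      ⟨hH, L.mul_mem (L.inv_mem l'.2) l.2, hD.le_centralizer a ha hH⟩
    rw [hD.inf_eq_bot a ha, Subgroup.mem_bot] at h3
    have hl : l = l' := Subtype.ext (inv_mul_eq_one.1 h3).symm
    subst hl
    exact Prod.ext rfl (Subtype.ext (mul_left_cancel h1))
  · rintro ⟨y, hy⟩
    obtain ⟨x, hx, e⟩ := hD.fusion a ha y hy
    have hc : x⁻¹ * y ∈ Subgroup.centralizer ({a} : Set G) := by
      rw [Subgroup.mem_centralizer_singleton_iff]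
      calc x⁻¹ * y * a = x⁻¹ * (y * a * y⁻¹) * y := by group
        _ = _ := by rw [← e]; group
    obtain ⟨l, hl, u, hu, elu⟩ := dade_centralizer_split hD ha hc
    refine ⟨(⟨x * l, mul_mem hx hl.1⟩, ⟨u, hu⟩), Subtype.ext ?_⟩
    show x * l * u = y
    rw [mul_assoc, ← elu]; group

/-- The union of the conjugates of the cosets `a * H a`, `a ∈ A`. -/
def dadeSupport (A : Set G) (H : G → Subgroup G) : Set G :=
  {g : G | ∃ a ∈ A, ∃ u ∈ H a, ∃ x : G, x * g * x⁻¹ = a * u}

theorem dadeSupport_conj {g : G} (hg : g ∈ dadeSupport A H) (y : G) :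
    y * g * y⁻¹ ∈ dadeSupport A H := by
  obtain ⟨a, ha, u, hu, x, e⟩ := hg
  exact ⟨a, ha, u, hu, x * y⁻¹, by rw [← e]; group⟩

/-- The value of the Dade map at an element conjugate into `a * H a`. -/
theorem dadeIsometry_apply [Finite G] (hD : Cfsg.DadeHypothesis A L H) {α : L → ℂ}
    (hα : Cfsg.IsClassFunction L α) (a : L) (ha : (a : G) ∈ A) {u x g : G} (hu : u ∈ H (a : G))
    (hxg : x * g * x⁻¹ = (a : G) * u) : Cfsg.dadeIsometry A L H α g = α a := by
  have h : ∃ a : L, (a : G) ∈ A ∧ ∃ x : G, ∃ u ∈ H (a : G), x * g * x⁻¹ = (a : G) * u :=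
    ⟨a, ha, x, u, hu, hxg⟩
  rw [Cfsg.dadeIsometry, dif_pos h]
  obtain ⟨hb, y, v, hv, hyg⟩ := Classical.choose_spec h
  set b := Classical.choose h
  have e : x * y⁻¹ * ((b : G) * v) * (x * y⁻¹)⁻¹ = (a : G) * u := by rw [← hyg, ← hxg]; group
  have e2 := dade_coset_conj hD hb ha hv hu e
  obtain ⟨l, hl, e3⟩ := hD.fusion _ hb (x * y⁻¹) (e2 ▸ ha)
  have : (⟨l, hl⟩ : L) * b * (⟨l, hl⟩ : L)⁻¹ = a := Subtype.ext (by simpa using e3.trans e2)
  rw [← this, hα]

theorem dadeIsometry_eq_zero {α : L → ℂ} {g : G} (hg : g ∉ dadeSupport A H) :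
    Cfsg.dadeIsometry A L H α g = 0 := by
  rw [Cfsg.dadeIsometry, dif_neg]
  rintro ⟨a, ha, x, u, hu, e⟩
  exact hg ⟨a, ha, u, hu, x, e⟩

theorem dadeIsometry_isClassFunction [Finite G] (hD : Cfsg.DadeHypothesis A L H) {α : L → ℂ}
    (hα : Cfsg.IsClassFunction L α) : Cfsg.IsClassFunction G (Cfsg.dadeIsometry A L H α) := by
  intro g y
  by_cases hg : g ∈ dadeSupport A H
  · obtain ⟨a, ha, u, hu, x, e⟩ := hg
    rw [dadeIsometry_apply hD hα ⟨a, hD.subset ha⟩ ha hu e,
      dadeIsometry_apply hD hα ⟨a, hD.subset ha⟩ ha hu (x := x * y⁻¹) (by rw [← e]; group)]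
  · rw [dadeIsometry_eq_zero hg, dadeIsometry_eq_zero]
    intro h
    have := dadeSupport_conj h y⁻¹
    exact hg (by simpa [mul_assoc] using this)

open Classical in
/-- Summation over the Dade support. -/
theorem dade_sum [Fintype G] [Fintype L] {K : Type*} [Field K] [CharZero K]
    (hD : Cfsg.DadeHypothesis A L H) (F : G → K) :
    (Nat.card L : K) * ∑ g ∈ Finset.univ.filter (fun g => g ∈ dadeSupport A H), F g =
      ∑ a : L, if (a : G) ∈ A then
        (Nat.card (H (a : G)) : K)⁻¹ * ∑ u : H (a : G), ∑ x : G, F (x⁻¹ * ((a : G) * u) * x)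
      else 0 := by
  let T := {p : G × G // p.1 ∈ A ∧ p.2 ∈ H p.1}
  let w : G → K := fun z => ∑ p : T, if p.1.1 * p.1.2 = z then (Nat.card (H p.1.1) : K)⁻¹ else 0
  have hT : ∀ f : G → G → K, (∑ a : L, if (a : G) ∈ A then ∑ u : H (a : G), f a u else 0) =
      ∑ p : T, f p.1.1 p.1.2 := by
    intro f
    rw [← Finset.sum_filter, Finset.sum_sigma']
    refine Finset.sum_bij' (fun x hx => (⟨((x.1 : G), (x.2 : G)),
        ⟨(Finset.mem_filter.1 (Finset.mem_sigma.1 hx).1).2, x.2.2⟩⟩ : T))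
      (fun p _ => ⟨⟨p.1.1, hD.subset p.2.1⟩, ⟨p.1.2, p.2.2⟩⟩) (by simp) ?_ ?_ ?_ ?_
    · intro p _
      simpa using p.2.1
    · intros; rfl
    · intros; rfl
    · intros; rfl
  have hR : (∑ a : L, if (a : G) ∈ A then
        (Nat.card (H (a : G)) : K)⁻¹ * ∑ u : H (a : G), ∑ x : G, F (x⁻¹ * ((a : G) * u) * x)
      else 0) = ∑ g : G, F g * ∑ x : G, w (x * g * x⁻¹) := by
    simp only [Finset.mul_sum]
    rw [show (∑ a : L, if (a : G) ∈ A then ∑ u : H (a : G), ∑ x : G,
        (Nat.card (H (a : G)) : K)⁻¹ * F (x⁻¹ * ((a : G) * u) * x) else 0) =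
        ∑ p : T, ∑ x : G, (Nat.card (H p.1.1) : K)⁻¹ * F (x⁻¹ * (p.1.1 * p.1.2) * x) from
      hT (fun a u => ∑ x : G, (Nat.card (H a) : K)⁻¹ * F (x⁻¹ * (a * u) * x))]
    rw [Finset.sum_comm, Finset.sum_comm (γ := G) (α := G)]
    refine Finset.sum_congr rfl fun x _ => ?_
    simp only [w, Finset.mul_sum]
    rw [Finset.sum_comm]
    refine Finset.sum_congr rfl fun p _ => ?_
    rw [Finset.sum_eq_single (x⁻¹ * (p.1.1 * p.1.2) * x)]
    · rw [if_pos (by group)]; ring
    · intro g _ hg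
      rw [if_neg, mul_zero]
      intro e
      exact hg (by rw [e]; group)
    · simp
  rw [hR, Finset.mul_sum, Finset.sum_filter]
  refine Finset.sum_congr rfl fun g _ => ?_
  split_ifs with hg
  · obtain ⟨a, ha, u, hu, x₀, e⟩ := hg
    suffices h : ∑ x : G, w (x * g * x⁻¹) = (Nat.card L : K) by rw [h, mul_comm]
    have hY := dade_card_transporter hD ha
    rw [Nat.card_eq_fintype_card, Fintype.card_subtype] at hY
    calc ∑ x : G, w (x * g * x⁻¹) = ∑ y : G, w (y * x₀ * g * (y * x₀)⁻¹) :=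
          (Equiv.sum_comp (Equiv.mulRight x₀) (fun x => w (x * g * x⁻¹))).symm
      _ = ∑ y : G, if y * a * y⁻¹ ∈ A then (Nat.card (H a) : K)⁻¹ else 0 := by
          refine Finset.sum_congr rfl fun y _ => ?_
          have ey : y * x₀ * g * (y * x₀)⁻¹ = y * (a * u) * y⁻¹ := by rw [← e]; group
          rw [ey]
          split_ifs with hy
          · show (∑ p : T, _) = _
            rw [Finset.sum_eq_single (⟨(y * a * y⁻¹, y * u * y⁻¹),
              ⟨hy, dade_conj_coset_mem hD ha hu hy⟩⟩ : T)]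
            · rw [if_pos (by group), dade_card_H_conj hD ha hy]
            · intro p _ hp
              rw [if_neg]
              intro hpe
              apply hp
              obtain ⟨h1, h2⟩ := dade_coset_unique hD p.2.1 hy p.2.2
                (dade_conj_coset_mem hD ha hu hy) (hpe.trans (by group))
              exact Subtype.ext (Prod.ext h1 h2)
            · simp
          · refine Finset.sum_eq_zero fun p _ => if_neg fun hpe => hy ?_
            rw [dade_coset_conj hD ha p.2.1 hu p.2.2 hpe.symm]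
            exact p.2.1
      _ = _ := by
          rw [← Finset.sum_filter, Finset.sum_const, hY, nsmul_eq_mul, Nat.cast_mul, mul_assoc,
            mul_inv_cancel₀ (Nat.cast_ne_zero.2 Nat.card_pos.ne'), mul_one]
  · rw [Finset.sum_eq_zero, mul_zero]
    intro x _
    refine Finset.sum_eq_zero fun p _ => if_neg fun hpe => hg ?_
    exact ⟨p.1.1, p.2.1, p.1.2, p.2.2, x, hpe.symm⟩

open Classical in
/-- Summation of a class function over the Dade support. -/
theorem dade_sum_classFun [Fintype G] [Fintype L] {K : Type*} [Field K] [CharZero K]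
    (hD : Cfsg.DadeHypothesis A L H) (F : G → K) (hF : ∀ g x : G, F (x * g * x⁻¹) = F g) :
    (Nat.card G : K)⁻¹ * ∑ g ∈ Finset.univ.filter (fun g => g ∈ dadeSupport A H), F g =
      (Nat.card L : K)⁻¹ * ∑ a : L, if (a : G) ∈ A then
        (Nat.card (H (a : G)) : K)⁻¹ * ∑ u : H (a : G), F ((a : G) * u) else 0 := by
  have hG : (Nat.card G : K) ≠ 0 := Nat.cast_ne_zero.2 Nat.card_pos.ne'
  have hL : (Nat.card L : K) ≠ 0 := Nat.cast_ne_zero.2 Nat.card_pos.ne'
  have hF' : ∀ z x : G, F (x⁻¹ * z * x) = F z := fun z x => by simpa using hF z x⁻¹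
  have h := dade_sum hD F
  simp only [hF', Finset.sum_const, Finset.card_univ, ← Nat.card_eq_fintype_card, nsmul_eq_mul,
    ← Finset.mul_sum] at h
  have h' : (Nat.card L : K) * ∑ g ∈ Finset.univ.filter (fun g => g ∈ dadeSupport A H), F g =
      (Nat.card G : K) * ∑ a : L, if (a : G) ∈ A then
        (Nat.card (H (a : G)) : K)⁻¹ * ∑ u : H (a : G), F ((a : G) * u) else 0 := by
    rw [h, Finset.mul_sum]
    refine Finset.sum_congr rfl fun a _ => ?_
    split_ifs <;> ring
  rw [inv_mul_eq_div, inv_mul_eq_div, div_eq_div_iff hG hL, mul_comm, h', mul_comm]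

end CfsgLib.OddChar
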