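import Cfsg.Agent.Lib.OddChar.Criteria
import Cfsg.Agent.Lib.Char.Clifford
import Cfsg.Agent.Lib.Char.InertiaNorm
import Cfsg.Agent.Lib.CharTools.Basic
import Mathlib.GroupTheory.FiniteAbelian.Duality

/-!
The sets `inducedIrrAbove K A` inside a coherence system on `inducedIrrAbove K ⊥`: degrees, norms,
the sum of squared degrees over norms, and the greedy extension of coherence (Peterfalvi 6.2).
-/

set_option autoImplicit false

open ComplexConjugate

namespace CfsgLib.OddChar.Above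

variable {L : Type*} [Group L] [Fintype L]

theorem indFun_conjFun (K : Subgroup L) [K.Normal] {θ : K → ℂ} (hθ : Cfsg.IsIrrCharacter K θ)
    (g : L) : Cfsg.indFun K (CharTwist.conjFun K θ g) = Cfsg.indFun K θ := by
  funext x
  by_cases hx : x ∈ K
  · have h1 := CharTwist.indFun_normal_apply K (CharTwist.conjFun K θ g) ⟨x, hx⟩
    have h2 := CharTwist.indFun_normal_apply K θ ⟨x, hx⟩
    have h3 : ∑ y : L, CharTwist.conjFun K (CharTwist.conjFun K θ g) y ⟨x, hx⟩ =
        ∑ y : L, CharTwist.conjFun K θ y ⟨x, hx⟩ := by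
      refine Fintype.sum_equiv (Equiv.mulLeft g) _ _ fun y => ?_
      rw [Equiv.coe_mulLeft, CharTwist.conjFun_mul]
    rw [h3] at h1
    exact h1.trans h2.symm
  · rw [Char.indFun_eq_zero_of_normal K _ hx, Char.indFun_eq_zero_of_normal K _ hx]

theorem exists_conj_of_indFun_eq (K : Subgroup L) [K.Normal] [Fintype K] {θ η : K → ℂ}
    (hθ : Cfsg.IsIrrCharacter K θ) (hη : Cfsg.IsIrrCharacter K η)
    (h : Cfsg.indFun K η = Cfsg.indFun K θ) : ∃ g : L, CharTwist.conjFun K θ g = η := by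
  classical
  have h0 : Cfsg.classInner (Cfsg.indFun K η) (Cfsg.indFun K θ) ≠ 0 := by
    rw [h]
    intro h0
    have := congrFun (Coh.classInner_self_eq_zero h0) 1
    rw [Char.indFun_apply_one, Pi.zero_apply, mul_eq_zero] at this
    rcases this with h | h
    · exact Subgroup.index_ne_zero_of_finite (H := K) (by exact_mod_cast h)
    · exact Char.IsIrrCharacter.apply_one_ne_zero hθ h
  have h1 := CharTwist.card_mul_classInner_indFun K hη hθ
  have h2 : Nat.card {g : L // CharTwist.conjFun K θ g = η} ≠ 0 := by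
    intro hc
    rw [hc, Nat.cast_zero, mul_eq_zero] at h1
    exact h1.elim (Nat.cast_ne_zero.2 Nat.card_pos.ne') h0
  obtain ⟨⟨g, hg⟩⟩ := (Nat.card_ne_zero.1 h2).1
  exact ⟨g, hg⟩

theorem norm_indFun (K : Subgroup L) [K.Normal] [Fintype K] {θ : K → ℂ} (hθ : Cfsg.IsIrrCharacter K θ) :
    Cfsg.classInner (Cfsg.indFun K θ) (Cfsg.indFun K θ) * Nat.card K *
      (Clifford.orbit K θ).card = Nat.card L := by
  classical
  have h1 := CharTwist.card_mul_classInner_indFun K hθ hθ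
  have h2 : Nat.card {g : L // CharTwist.conjFun K θ g = θ} =
      Nat.card (CharTwist.inertia K θ) := rfl
  rw [h2] at h1
  rw [mul_comm (Cfsg.classInner _ _), h1, Clifford.card_orbit]
  exact_mod_cast (CharTwist.inertia K θ).card_mul_index

theorem sum_sq_kernel (K A : Subgroup L) [A.Normal] [Fintype {χ : Cfsg.IrrCharacter K //
      ∀ n ∈ A.subgroupOf K, (χ : K → ℂ) n = (χ : K → ℂ) 1}] :
    ∑ χ : {χ : Cfsg.IrrCharacter K // ∀ n ∈ A.subgroupOf K, (χ : K → ℂ) n = (χ : K → ℂ) 1},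
      Cfsg.charDegree (χ.1 : K → ℂ) ^ 2 = A.relIndex K := by
  classical
  haveI : (A.subgroupOf K).Normal := inferInstance
  rw [← Fintype.sum_equiv (CharTools.quotientEquiv (A.subgroupOf K))
    (fun ψ => Cfsg.charDegree (ψ : K ⧸ A.subgroupOf K → ℂ) ^ 2) _
    (fun ψ => by rw [CharTools.charDegree_quotientEquiv])]
  rw [CharTools.sum_degree_sq']
  rfl

theorem conjFun_indFun (K : Subgroup L) (θ : K → ℂ) :
    Cfsg.conjFun (Cfsg.indFun K θ) = Cfsg.indFun K (Cfsg.conjFun θ) := by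
  funext g
  simp only [Cfsg.conjFun, Char.indFun_apply, map_mul, map_inv₀, Complex.conj_natCast, map_sum]
  congr 1
  refine Finset.sum_congr rfl fun x _ => ?_
  by_cases hx : x⁻¹ * g * x ∈ K
  · rw [Char.extendByZero_apply_mem _ _ hx, Char.extendByZero_apply_mem _ _ hx]; rfl
  · rw [Char.extendByZero_of_notMem _ _ hx, Char.extendByZero_of_notMem _ _ hx, map_zero]

theorem above_mono (K : Subgroup L) {A B : Subgroup L} (h : B ≤ A) :
    Cfsg.inducedIrrAbove K A ⊆ Cfsg.inducedIrrAbove K B := by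
  rintro φ ⟨θ, h1, h2, h3, h4⟩
  exact ⟨θ, h1, h2, fun a ha => h3 a (h ha), h4⟩

theorem above_conj (K A : Subgroup L) {φ : L → ℂ} (hφ : φ ∈ Cfsg.inducedIrrAbove K A) :
    Cfsg.conjFun φ ∈ Cfsg.inducedIrrAbove K A := by
  haveI : Fintype K := Fintype.ofFinite K
  obtain ⟨θ, h1, h2, h3, rfl⟩ := hφ
  refine ⟨Cfsg.conjFun θ, OddChar.isIrrCharacter_conjFun h1, fun e => h2 ?_, fun a ha => ?_,
    conjFun_indFun K θ⟩
  · rw [← OddChar.conjFun_conjFun θ, e]
    funext x; simp [Cfsg.conjFun]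
  · show conj (θ a) = conj (θ 1)
    rw [h3 a ha]

/-- A nontrivial finite solvable group has a non-principal linear character, trivial on a given
proper normal subgroup. -/
theorem exists_linear {K : Type*} [Group K] [Finite K] (hsolv : Group.IsSolvable K) (A : Subgroup K)
    [A.Normal] (hA : A ≠ ⊤) :
    ∃ f : K →* ℂˣ, (∃ x, f x ≠ 1) ∧ ∀ a ∈ A, f a = 1 := by
  haveI : Group.IsSolvable K := hsolv
  haveI : Nontrivial (K ⧸ A) := QuotientGroup.nontrivial_iff.mpr hA
  haveI : Group.IsSolvable (K ⧸ A) := inferInstance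
  have hlt := Group.IsSolvable.commutator_lt_top_of_nontrivial (K ⧸ A)
  obtain ⟨q, -, hq⟩ := SetLike.exists_of_lt hlt
  have hq1 : (Abelianization.of q : Abelianization (K ⧸ A)) ≠ 1 := fun h =>
    hq (by rwa [← Abelianization.ker_of, MonoidHom.mem_ker])
  haveI : Finite (Abelianization (K ⧸ A)) := Finite.of_surjective _ QuotientGroup.mk_surjective
  haveI : HasEnoughRootsOfUnity ℂ (Monoid.exponent (Abelianization (K ⧸ A))) := inferInstance
  obtain ⟨φ, hφ⟩ := CommGroup.exists_apply_ne_one_of_hasEnoughRootsOfUnity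
    (Abelianization (K ⧸ A)) ℂ hq1
  obtain ⟨x, rfl⟩ := QuotientGroup.mk_surjective q
  refine ⟨(φ.comp Abelianization.of).comp (QuotientGroup.mk' A), ⟨x, hφ⟩, fun a ha => ?_⟩
  simp [(QuotientGroup.eq_one_iff a).2 ha]

theorem exists_linear_member (K : Subgroup L) [K.Normal] (hsolv : Group.IsSolvable K)
    (A : Subgroup L) [A.Normal] (hAK : A < K) :
    ∃ φ ∈ Cfsg.inducedIrrAbove K A, φ 1 = (K.index : ℂ) := by
  obtain ⟨f, ⟨x, hx⟩, hf⟩ := exists_linear hsolv (A.subgroupOf K) (fun h => hAK.not_ge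
    (Subgroup.subgroupOf_eq_top.1 h))
  refine ⟨Cfsg.indFun K (fun k => (f k : ℂ)), ⟨_, Char.isIrrCharacter_linear f, fun e => hx ?_,
    fun a ha => ?_, rfl⟩, ?_⟩
  · exact Units.ext (congrFun e x)
  · rw [hf a ha, map_one]
  · rw [Char.indFun_apply_one, map_one]; simp

variable {G : Type*} [Group G] [Fintype G] {τ : (L → ℂ) → (G → ℂ)}
  {R : (L → ℂ) → Finset (G → ℂ)}

theorem system_subset {T : Set (L → ℂ)} (hS : Cfsg.IsCoherenceSystem T τ R) {T' : Set (L → ℂ)}
    (hT : T' ⊆ T) (hne : T'.Nonempty) (hc : ∀ χ ∈ T', Cfsg.conjFun χ ∈ T') :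
    Cfsg.IsCoherenceSystem T' τ R where
  nonempty := hne
  isCharacter χ h := hS.isCharacter χ (hT h)
  conj_mem := hc
  conj_ne χ h := hS.conj_ne χ (hT h)
  isometry := ⟨fun a ha b hb => hS.isometry.1 a (Coh.zspanOn_mono hT ha) b (Coh.zspanOn_mono hT hb),
    fun a ha => hS.isometry.2.1 a (Coh.zspanOn_mono hT ha),
    fun a ha b hb => hS.isometry.2.2.1 a (Coh.zspanOn_mono hT ha) b (Coh.zspanOn_mono hT hb),
    fun a ha => hS.isometry.2.2.2 a (Coh.zspanOn_mono hT ha)⟩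
  map_one a ha := hS.map_one a (Coh.zspanOn_mono hT ha)
  orthogonal χ h φ h' := hS.orthogonal χ (hT h) φ (hT h')
  orthonormal χ h := hS.orthonormal χ (hT h)
  virtual χ h := hS.virtual χ (hT h)
  sum_eq χ h := hS.sum_eq χ (hT h)
  disjoint χ h φ h' := hS.disjoint χ (hT h) φ (hT h')

theorem coherent_mono {T T₁ T₂ : Set (L → ℂ)} (hS : Cfsg.IsCoherenceSystem T τ R) (hT : T₁ ⊆ T)
    (h₁ : Cfsg.IsCoherent T₁ {1}ᶜ τ) (h : T₂ ⊆ T₁) (hne : T₂.Nonempty)
    (hc : ∀ χ ∈ T₂, Cfsg.conjFun χ ∈ T₂) : Cfsg.IsCoherent T₂ {1}ᶜ τ := by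
  obtain ⟨-, τ₁, hτ₁, hagree⟩ := h₁
  obtain ⟨χ, hχ⟩ := hne
  have hS₂ := system_subset hS (h.trans hT) ⟨χ, hχ⟩ hc
  refine ⟨⟨χ - Cfsg.conjFun χ, Coh.sub_conj_mem hS₂ hχ, fun e => hS₂.conj_ne χ hχ ?_⟩, τ₁,
    ⟨fun a ha b hb => hτ₁.1 a (Coh.zspan_mono h ha) b (Coh.zspan_mono h hb),
      fun a ha => hτ₁.2.1 a (Coh.zspan_mono h ha),
      fun a ha b hb => hτ₁.2.2.1 a (Coh.zspan_mono h ha) b (Coh.zspan_mono h hb),
      fun a ha => hτ₁.2.2.2 a (Coh.zspan_mono h ha)⟩,
    fun a ha => hagree a (Coh.zspanOn_mono h ha)⟩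
  exact (sub_eq_zero.1 e).symm

open Classical in
/-- The sum over `S(A)` of squared degree over norm. -/
theorem sum_sq_div_norm (K : Subgroup L) [K.Normal] (A : Subgroup L) [A.Normal]
    (d n : (L → ℂ) → ℕ) (S : Finset (L → ℂ)) (hS : (↑S : Set (L → ℂ)) = Cfsg.inducedIrrAbove K A)
    (hd : ∀ φ ∈ S, φ 1 = (d φ : ℂ)) (hn : ∀ φ ∈ S, Cfsg.classInner φ φ = (n φ : ℂ)) :
    ∑ φ ∈ S, ((d φ : ℝ) ^ 2 / (n φ : ℝ)) = (K.index : ℝ) * ((A.relIndex K : ℝ) - 1) := by
  haveI : Fintype K := Fintype.ofFinite K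
  let P : Cfsg.IrrCharacter K → Prop :=
    fun χ => ∀ a ∈ A.subgroupOf K, (χ : K → ℂ) a = (χ : K → ℂ) 1
  let Q : Finset (Cfsg.IrrCharacter K) :=
    (Finset.univ.filter P).erase Char.principalIrr
  have hmemS : ∀ φ, φ ∈ S ↔ φ ∈ Cfsg.inducedIrrAbove K A := fun φ => by
    rw [← hS, Finset.mem_coe]
  have hQ : ∀ χ, χ ∈ Q ↔ (χ : K → ℂ) ≠ (fun _ => 1) ∧ P χ := fun χ => by
    simp only [Q, Finset.mem_erase, Finset.mem_filter, Finset.mem_univ, true_and, ne_eq,
      Subtype.ext_iff]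
    exact Iff.rfl
  have hmap : ∀ χ ∈ Q, Cfsg.indFun K (χ : K → ℂ) ∈ S := fun χ hχ => (hmemS _).2
    ⟨χ.1, χ.2, ((hQ χ).1 hχ).1, fun a ha => ((hQ χ).1 hχ).2 a ha, rfl⟩
  have hPsum : ∑ χ ∈ Finset.univ.filter P, (Cfsg.charDegree (χ : K → ℂ) : ℝ) ^ 2 =
      (A.relIndex K : ℝ) := by
    rw [Finset.sum_subtype (Finset.univ.filter P) (p := P) (fun x => by simp)
      (fun χ => (Cfsg.charDegree (χ : K → ℂ) : ℝ) ^ 2)]
    rw [← sum_sq_kernel K A]
    push_cast
    rfl
  have hQsum : ∑ χ ∈ Q, (Cfsg.charDegree (χ : K → ℂ) : ℝ) ^ 2 = (A.relIndex K : ℝ) - 1 := by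
    have h1 : Char.principalIrr ∈ Finset.univ.filter P := by simp [P, Char.principalIrr_apply]
    rw [← hPsum, ← Finset.add_sum_erase _ _ h1,
      show (Char.principalIrr : Cfsg.IrrCharacter K).1 = fun _ => (1 : ℂ) from rfl,
      CharTools.charDegree_principal]
    simp [Q]
  rw [← hQsum, ← Finset.sum_fiberwise_of_maps_to hmap, Finset.mul_sum]
  refine Finset.sum_congr rfl fun φ hφ => ?_
  obtain ⟨θ, hθ, hθ1, hθA, rfl⟩ := (hmemS φ).1 hφ
  set F := Q.filter fun χ : Cfsg.IrrCharacter K => Cfsg.indFun K (χ : K → ℂ) = Cfsg.indFun K θ with hF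
  have hdeg : ∀ g, CharTwist.conjFun K θ g 1 = θ 1 := fun g => by
    show θ _ = θ 1
    exact congrArg θ (Subtype.ext (by simp))
  have himg : F.image (fun χ : Cfsg.IrrCharacter K => (χ : K → ℂ)) = Clifford.orbit K θ := by
    ext η
    simp only [Finset.mem_image, Clifford.mem_orbit, F, Finset.mem_filter]
    constructor
    · rintro ⟨χ, ⟨-, he⟩, rfl⟩
      exact exists_conj_of_indFun_eq K hθ χ.2 he
    · rintro ⟨g, rfl⟩
      refine ⟨⟨_, CharTwist.isIrrCharacter_conjFun K hθ g⟩, ⟨(hQ _).2 ⟨fun e => hθ1 ?_, ?_⟩,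
        indFun_conjFun K hθ g⟩, rfl⟩
      · funext k
        have := congrFun e ⟨g⁻¹ * k * g,
          by simpa using Subgroup.Normal.conj_mem inferInstance (k : L) k.2 g⁻¹⟩
        simpa [CharTwist.conjFun, mul_assoc] using this
      · intro a ha
        show θ _ = CharTwist.conjFun K θ g 1
        rw [hdeg, hθA _ (Subgroup.Normal.conj_mem inferInstance (a : L)
          (Subgroup.mem_subgroupOf.1 ha) g)]
  have hcard : F.card = (Clifford.orbit K θ).card := by
    rw [← himg, Finset.card_image_of_injective _ Subtype.val_injective]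
  have hsum : ∑ χ ∈ F, (Cfsg.charDegree (χ : K → ℂ) : ℝ) ^ 2 =
      F.card * (Cfsg.charDegree θ : ℝ) ^ 2 := by
    rw [Finset.sum_congr rfl (g := fun _ => (Cfsg.charDegree θ : ℝ) ^ 2), Finset.sum_const,
      nsmul_eq_mul]
    intro χ hχ
    obtain ⟨g, hg⟩ := exists_conj_of_indFun_eq K hθ χ.2 (Finset.mem_filter.1 hχ).2
    rw [← hg, Cfsg.charDegree, Cfsg.charDegree, hdeg]
  rw [hsum, hcard]
  have hnorm := norm_indFun K hθ
  rw [hn _ hφ] at hnorm
  have hnorm' : (n (Cfsg.indFun K θ) : ℝ) * Nat.card K * (Clifford.orbit K θ).card =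
      Nat.card L := by exact_mod_cast hnorm
  have hd' : (d (Cfsg.indFun K θ) : ℝ) = K.index * (Cfsg.charDegree θ : ℝ) := by
    have h := hd _ hφ
    rw [Char.indFun_apply_one,
      ← CharTools.degree_cast (Char.IsIrrCharacter.isCharacter hθ)] at h
    exact_mod_cast h.symm
  have hK : (Nat.card K : ℝ) * K.index = Nat.card L := by exact_mod_cast K.card_mul_index
  have hKpos : (0 : ℝ) < Nat.card K := by exact_mod_cast Nat.card_pos
  have hLpos : (0 : ℝ) < Nat.card L := by exact_mod_cast Nat.card_pos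
  have hne : (n (Cfsg.indFun K θ) : ℝ) ≠ 0 := fun h =>
    hLpos.ne (by rw [← hnorm', h, zero_mul, zero_mul])
  rw [hd', div_eq_iff hne]
  apply mul_left_cancel₀ hKpos.ne'
  linear_combination (K.index : ℝ) * (Cfsg.charDegree θ : ℝ) ^ 2 * (hK - hnorm')

open Classical in
/-- Greedy extension: if `S(A)` is coherent and every member of `S(B)` has small enough degree then
`S(B)` is coherent. -/
theorem coherent_extend (K : Subgroup L) [K.Normal] (hsolv : Group.IsSolvable K)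
    (hS : Cfsg.IsCoherenceSystem (Cfsg.inducedIrrAbove K ⊥) τ R) (A B : Subgroup L) [A.Normal]
    [B.Normal] (hAK : A < K) (hBK : B < K)
    (hA : Cfsg.IsCoherent (Cfsg.inducedIrrAbove K A) {1}ᶜ τ)
    (hdeg : ∀ θ : K → ℂ, Cfsg.IsIrrCharacter K θ → (∀ b : K, (b : L) ∈ B → θ b = θ 1) →
      2 * (K.index : ℝ) * (Cfsg.charDegree θ : ℝ) < (A.relIndex K : ℝ) - 1) :
    Cfsg.IsCoherent (Cfsg.inducedIrrAbove K B) {1}ᶜ τ := by
  have hAT : Cfsg.inducedIrrAbove K A ⊆ Cfsg.inducedIrrAbove K ⊥ := above_mono K bot_le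
  have hBT : Cfsg.inducedIrrAbove K B ⊆ Cfsg.inducedIrrAbove K ⊥ := above_mono K bot_le
  let d : (L → ℂ) → ℕ := fun φ => ⌊(φ 1).re⌋₊
  let n : (L → ℂ) → ℕ := fun φ => ⌊(Cfsg.classInner φ φ).re⌋₊
  have hd : ∀ φ ∈ Cfsg.inducedIrrAbove K ⊥, φ 1 = (d φ : ℂ) := fun φ hφ => by
    obtain ⟨m, hm⟩ := Char.IsCharacter.exists_degree (hS.isCharacter φ hφ)
    simp [d, hm]
  have hn : ∀ φ ∈ Cfsg.inducedIrrAbove K ⊥, Cfsg.classInner φ φ = (n φ : ℂ) := fun φ hφ => by
    obtain ⟨m, -, hm⟩ := Coh.exists_norm hS hφ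
    simp [n, hm]
  have hfA : (Cfsg.inducedIrrAbove K A).Finite := (Coh.finite hS).subset hAT
  have hfB : (Cfsg.inducedIrrAbove K B).Finite := (Coh.finite hS).subset hBT
  obtain ⟨χ₁, hχ₁, hχ₁1⟩ := exists_linear_member K hsolv A hAK
  have hd₁ : d χ₁ = K.index := by simp [d, hχ₁1]
  have main : ∀ U : Finset (L → ℂ), (∀ χ ∈ U, χ ∈ Cfsg.inducedIrrAbove K B) →
      ∃ S₁ : Finset (L → ℂ), hfA.toFinset ⊆ S₁ ∧ U ⊆ S₁ ∧
        (↑S₁ : Set (L → ℂ)) ⊆ Cfsg.inducedIrrAbove K ⊥ ∧ (∀ φ ∈ S₁, Cfsg.conjFun φ ∈ S₁) ∧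
        Cfsg.IsCoherent (↑S₁ : Set (L → ℂ)) {1}ᶜ τ := by
    intro U
    induction U using Finset.induction_on with
    | empty =>
      intro _
      refine ⟨hfA.toFinset, subset_refl _, Finset.empty_subset _, by simpa using hAT,
        fun φ hφ => by simpa using above_conj K A (by simpa using hφ), by simpa using hA⟩
    | insert χ U hχU ih =>
      intro hU
      obtain ⟨S₁, h1, h2, h3, h4, h5⟩ := ih fun x hx => hU x (Finset.mem_insert_of_mem hx)
      by_cases hχS : χ ∈ S₁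
      · exact ⟨S₁, h1, Finset.insert_subset hχS h2, h3, h4, h5⟩
      have hχB := hU χ (Finset.mem_insert_self _ _)
      have hχT := hBT hχB
      have hχc : Cfsg.conjFun χ ∉ S₁ := fun h => hχS (by simpa [conjFun_conjFun] using h4 _ h)
      obtain ⟨θ, hθ, -, hθB, hχθ⟩ := hχB
      have hθd : (Cfsg.charDegree θ : ℂ) = θ 1 :=
        CharTools.degree_cast (Char.IsIrrCharacter.isCharacter hθ)
      have hdχ : d χ = K.index * Cfsg.charDegree θ := by
        have := hd χ hχT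
        rw [hχθ, Char.indFun_apply_one, ← hθd, ← hχθ] at this
        exact_mod_cast this.symm
      have hineq : (2 * d χ * d χ₁ : ℝ) < ∑ φ ∈ S₁, ((d φ : ℝ) ^ 2 / (n φ : ℝ)) := by
        refine lt_of_lt_of_le ?_ (Finset.sum_le_sum_of_subset_of_nonneg h1
          fun φ _ _ => by positivity)
        rw [sum_sq_div_norm K A d n hfA.toFinset (by simp)
          (fun φ hφ => hd φ (hAT (by simpa using hφ))) (fun φ hφ => hn φ (hAT (by simpa using hφ))),
          hdχ, hd₁]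
        have hepos : (0 : ℝ) < K.index := by
          exact_mod_cast Nat.pos_of_ne_zero Subgroup.index_ne_zero_of_finite
        have := mul_lt_mul_of_pos_left (hdeg θ hθ hθB) hepos
        push_cast
        linarith
      have hnew := Coh.extension_criterion hS d n hd hn S₁ h3 h4 h5 hχT hχS hχc
        (h1 (by simpa using hχ₁)) (by rw [hdχ, hd₁]; exact Dvd.intro _ rfl) hineq
      refine ⟨S₁ ∪ {χ, Cfsg.conjFun χ}, h1.trans Finset.subset_union_left, ?_, ?_, ?_, ?_⟩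
      · intro x hx
        rcases Finset.mem_insert.1 hx with rfl | hx
        · simp
        · exact Finset.mem_union_left _ (h2 hx)
      · intro x hx
        simp only [Finset.coe_union, Finset.coe_insert, Finset.coe_singleton, Set.mem_union,
          Finset.mem_coe, Set.mem_insert_iff, Set.mem_singleton_iff] at hx
        rcases hx with hx | rfl | rfl
        exacts [h3 hx, hχT, hS.conj_mem _ hχT]
      · intro x hx
        simp only [Finset.mem_union, Finset.mem_insert, Finset.mem_singleton] at hx ⊢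
        rcases hx with hx | rfl | rfl
        exacts [Or.inl (h4 x hx), Or.inr (Or.inr rfl), Or.inr (Or.inl (conjFun_conjFun χ))]
      · simpa using hnew
  obtain ⟨S₁, -, h2, h3, -, h5⟩ := main hfB.toFinset fun χ hχ => by simpa using hχ
  refine coherent_mono hS h3 h5 (by simpa using h2) ?_ fun χ hχ => above_conj K B hχ
  obtain ⟨φ, hφ, -⟩ := exists_linear_member K hsolv B hBK
  exact ⟨φ, hφ⟩

end CfsgLib.OddChar.Above
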