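import Cfsg.Agent.Lib.OddChar.Above
import Cfsg.Agent.Lib.Char.Exceptional
import Cfsg.Agent.Lib.Char.FrobeniusInd
import Cfsg.Agent.S1528
import Cfsg.Agent.Lib.CharDeep.Clifford

/-!
Coherence of sets of irreducible characters: constant degree, greedy extension by Feit's criterion,
and the sets `S(A)` of a Frobenius group.
-/

set_option autoImplicit false

open ComplexConjugate

namespace CfsgLib.OddChar.Irr

variable {N : Type*} [Group N] [Fintype N] {G : Type*} [Group G] [Fintype G]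

theorem isometry_mono {T T' : Set (N → ℂ)} {τ : (N → ℂ) → (G → ℂ)}
    (hτ : Cfsg.IsLinearIsometryOn (Cfsg.zspanOn T {1}ᶜ) τ) (h : T' ⊆ T) :
    Cfsg.IsLinearIsometryOn (Cfsg.zspanOn T' {1}ᶜ) τ :=
  ⟨fun a ha b hb => hτ.1 a (Coh.zspanOn_mono h ha) b (Coh.zspanOn_mono h hb),
    fun a ha => hτ.2.1 a (Coh.zspanOn_mono h ha),
    fun a ha b hb => hτ.2.2.1 a (Coh.zspanOn_mono h ha) b (Coh.zspanOn_mono h hb),
    fun a ha => hτ.2.2.2 a (Coh.zspanOn_mono h ha)⟩

theorem exists_deg {S : Set (N → ℂ)} (hirr : ∀ φ ∈ S, Cfsg.IsIrrCharacter N φ) :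
    ∀ φ ∈ S, φ 1 = (Cfsg.charDegree φ : ℂ) := fun φ hφ =>
  (CharTools.degree_cast (Char.IsIrrCharacter.isCharacter (hirr φ hφ))).symm

theorem coherent_constant (S : Finset (N → ℂ)) (hirr : ∀ φ ∈ S, Cfsg.IsIrrCharacter N φ)
    (hdeg : ∀ φ ∈ S, ∀ ψ ∈ S, φ 1 = ψ 1) (h2 : 2 ≤ S.card) (τ : (N → ℂ) → (G → ℂ))
    (hτ : Cfsg.IsLinearIsometryOn (Cfsg.zspanOn (↑S : Set (N → ℂ)) {1}ᶜ) τ)
    (hτ1 : ∀ α ∈ Cfsg.zspanOn (↑S : Set (N → ℂ)) {1}ᶜ, τ α 1 = 0) :
    Cfsg.IsCoherent (↑S : Set (N → ℂ)) {1}ᶜ τ := by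
  classical
  obtain ⟨a₀, ha₀⟩ := Finset.card_pos.1 (show 0 < S.card by omega)
  have hmem : ∀ a ∈ S, a - a₀ ∈ Cfsg.zspanOn (↑S : Set (N → ℂ)) {1}ᶜ := fun a ha =>
    Coh.mem_zspanOn_iff.2 ⟨Submodule.sub_mem _ (mem_zspan_self (Finset.mem_coe.2 ha))
      (mem_zspan_self (Finset.mem_coe.2 ha₀)), by simp [hdeg a ha a₀ ha₀]⟩
  have hone : ∀ a ∈ S, ∀ b ∈ S, Cfsg.classInner a b = if a = b then 1 else 0 := by
    intro a ha b hb
    split_ifs with h
    · rw [h]; exact Char.classInner_irr_self (hirr b hb)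
    · exact Char.classInner_irr_of_ne (hirr a ha) (hirr b hb) h
  have h0 : τ (a₀ - a₀) = 0 := Coh.isometry_zero hτ (hmem a₀ ha₀) |> fun h => by
    simpa using h
  let i₀ : {x // x ∈ S} := ⟨a₀, ha₀⟩
  obtain ⟨ε, hε, μ, hμ, hμi, hμτ⟩ := CharExc.exists_base i₀
    (fun i : {x // x ∈ S} => τ (i.1 - a₀)) h0
    (fun i => hτ.2.2.2 _ (hmem i.1 i.2)) (fun i => hτ1 _ (hmem i.1 i.2))
    (fun i hi => by
      have hne : i.1 ≠ a₀ := fun h => hi (Subtype.ext h)
      rw [hτ.2.2.1 _ (hmem i.1 i.2) _ (hmem i.1 i.2), Char.classInner_sub_left,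
        Char.classInner_sub_right, Char.classInner_sub_right, hone _ i.2 _ i.2, hone _ i.2 _ ha₀,
        hone _ ha₀ _ i.2, hone _ ha₀ _ ha₀, if_pos rfl, if_pos rfl, if_neg hne, if_neg hne.symm]
      norm_num)
    (fun i j hi hj hij => by
      have hne : i.1 ≠ a₀ := fun h => hi (Subtype.ext h)
      have hne' : j.1 ≠ a₀ := fun h => hj (Subtype.ext h)
      have hne'' : i.1 ≠ j.1 := fun h => hij (Subtype.ext h)
      rw [hτ.2.2.1 _ (hmem i.1 i.2) _ (hmem j.1 j.2), Char.classInner_sub_left,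
        Char.classInner_sub_right, Char.classInner_sub_right, hone _ i.2 _ j.2, hone _ i.2 _ ha₀,
        hone _ ha₀ _ j.2, hone _ ha₀ _ ha₀, if_pos rfl, if_neg hne'', if_neg hne, if_neg hne'.symm]
      norm_num)
  let f : (N → ℂ) → (G → ℂ) := fun φ => if h : φ ∈ S then ε • μ ⟨φ, h⟩ else 0
  have hεε : ε * conj ε = 1 := by rcases hε with rfl | rfl <;> simp
  refine Coh.isCoherent_of_images (f := f)
    (fun a ha b hb hab => by rw [hone a ha b hb, if_neg hab])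
    (fun a ha => by rw [hone a ha a ha, if_pos rfl]; exact one_ne_zero) ?_ ?_ ?_ ?_
  · intro φ hφ
    simp only [f, dif_pos hφ]
    rcases hε with rfl | rfl
    · simpa using Char.IsCharacter.isGeneralizedCharacter
        (Char.IsIrrCharacter.isCharacter (hμ ⟨φ, hφ⟩))
    · simpa using Char.IsGeneralizedCharacter.neg (Char.IsCharacter.isGeneralizedCharacter
        (Char.IsIrrCharacter.isCharacter (hμ ⟨φ, hφ⟩)))
  · intro a ha b hb
    simp only [f, dif_pos ha, dif_pos hb]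
    rw [Char.classInner_smul_left, Char.classInner_smul_right, hone a ha b hb, ← mul_assoc, hεε,
      one_mul]
    split_ifs with h
    · subst h; exact Char.classInner_irr_self (hμ _)
    · exact Char.classInner_irr_of_ne (hμ _) (hμ _) fun e => h (congrArg Subtype.val (hμi e))
  · obtain ⟨b, hb, hne⟩ := Finset.exists_mem_ne (show 1 < S.card by omega) a₀
    exact ⟨b - a₀, hmem b hb, fun h => hne (sub_eq_zero.1 h)⟩
  · intro α hα
    obtain ⟨c, hc⟩ := Coh.mem_zspan_finset hα.1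
    have hc0 : ∑ φ ∈ S, c φ = 0 := by
      have h := (Coh.mem_zspanOn_iff.1 hα).2
      rw [hc, Coh.sum_smul_apply_one,
        Finset.sum_congr rfl (fun φ hφ => by rw [hdeg φ hφ a₀ ha₀]), ← Finset.sum_mul] at h
      have := (mul_eq_zero.1 h).resolve_right
        (Char.IsIrrCharacter.apply_one_ne_zero (hirr a₀ ha₀))
      exact_mod_cast this
    have hα' : α = ∑ φ ∈ S, c φ • (φ - a₀) := by
      simp only [smul_sub, Finset.sum_sub_distrib, ← Finset.sum_smul, hc0, zero_smul, sub_zero]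
      exact hc
    have e1 : Coh.ext S f α = ∑ φ ∈ S, c φ • f φ := by
      rw [hc, show Coh.ext S f (∑ φ ∈ S, c φ • φ) = ∑ φ ∈ S, Coh.ext S f (c φ • φ) from
        map_sum (AddMonoidHom.mk' (Coh.ext S f) Coh.ext_add) _ S]
      refine Finset.sum_congr rfl fun φ hφ => ?_
      rw [Coh.ext_zsmul, Coh.ext_self (fun a ha b hb hab => by rw [hone a ha b hb, if_neg hab])
        (fun a ha => by rw [hone a ha a ha, if_pos rfl]; exact one_ne_zero) hφ]
    rw [e1, hα', Coh.isometry_sum hτ S _ (fun φ hφ => Coh.zspanOn_zsmul (hmem φ hφ) _)]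
    have : ∀ φ ∈ S, τ (c φ • (φ - a₀)) = c φ • f φ - c φ • f a₀ := by
      intro φ hφ
      rw [hτ.2.1 _ (hmem φ hφ), ← smul_sub]
      congr 1
      have := hμτ ⟨φ, hφ⟩
      simp only [f, dif_pos hφ, dif_pos ha₀]
      rw [← smul_sub]
      exact this
    rw [Finset.sum_congr rfl this, Finset.sum_sub_distrib, ← Finset.sum_smul (f := c), hc0,
      zero_smul, sub_zero]

/-- Greedy extension with Feit's criterion. -/
theorem feit_extend {T : Set (N → ℂ)} (hirr : ∀ φ ∈ T, Cfsg.IsIrrCharacter N φ)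
    {τ : (N → ℂ) → (G → ℂ)} (hτ : Cfsg.IsLinearIsometryOn (Cfsg.zspanOn T {1}ᶜ) τ)
    (hτ1 : ∀ α ∈ Cfsg.zspanOn T {1}ᶜ, τ α 1 = 0) (S₀ : Finset (N → ℂ))
    (h₀ : (↑S₀ : Set (N → ℂ)) ⊆ T) (hcoh : Cfsg.IsCoherent (↑S₀ : Set (N → ℂ)) {1}ᶜ τ)
    {ψ : N → ℂ} (hψ : ψ ∈ S₀) :
    ∀ U : Finset (N → ℂ), (↑U : Set (N → ℂ)) ⊆ T →
      (∀ χ ∈ U, χ ∉ S₀ → Cfsg.charDegree ψ ∣ Cfsg.charDegree χ ∧
        2 * Cfsg.charDegree ψ * Cfsg.charDegree χ < ∑ ξ ∈ S₀, Cfsg.charDegree ξ ^ 2) →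
      Cfsg.IsCoherent (↑S₀ ∪ ↑U : Set (N → ℂ)) {1}ᶜ τ := by
  classical
  intro U
  induction U using Finset.induction_on with
  | empty => intro _ _; simpa using hcoh
  | insert χ U hχU ih =>
    intro hT h
    have hUT : (↑U : Set (N → ℂ)) ⊆ T := fun x hx => hT (Finset.mem_insert_of_mem hx)
    have ih' := ih hUT fun x hx => h x (Finset.mem_insert_of_mem hx)
    rw [← Finset.coe_union] at ih'
    by_cases hχ : χ ∈ S₀ ∪ U
    · have : (↑S₀ ∪ ↑(insert χ U) : Set (N → ℂ)) = ↑(S₀ ∪ U) := by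
        rw [← Finset.coe_union, Finset.union_insert, Finset.insert_eq_of_mem hχ]
      rwa [this]
    · obtain ⟨hd, hlt⟩ := h χ (Finset.mem_insert_self _ _) fun hm => hχ (Finset.mem_union_left _ hm)
      rw [← Finset.coe_union, Finset.union_insert]
      have hT' : (↑(insert χ (S₀ ∪ U)) : Set (N → ℂ)) ⊆ T := by
        intro x hx
        rcases Finset.mem_insert.1 hx with rfl | hx
        · exact hT (Finset.mem_insert_self _ _)
        · rcases Finset.mem_union.1 hx with hx | hx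
          exacts [h₀ hx, hUT hx]
      exact Coh.feit_criterion (S₀ ∪ U) χ
        (fun ξ hξ => hirr ξ (hT' (Finset.mem_insert_of_mem hξ)))
        (hirr χ (hT (Finset.mem_insert_self _ _))) hχ Cfsg.charDegree
        (fun ξ hξ => exists_deg hirr ξ (hT' hξ)) (isometry_mono hτ hT')
        (fun α hα => hτ1 α (Coh.zspanOn_mono hT' hα)) ih' (Finset.mem_union_left _ hψ) hd
        (hlt.trans_le (Finset.sum_le_sum_of_subset Finset.subset_union_left))

/-- Coherence passes to a subset with two members. -/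
theorem coherent_subset {T₁ T₂ : Set (N → ℂ)} (hirr : ∀ φ ∈ T₁, Cfsg.IsIrrCharacter N φ)
    {τ : (N → ℂ) → (G → ℂ)} (h₁ : Cfsg.IsCoherent T₁ {1}ᶜ τ) (h : T₂ ⊆ T₁) {a b : N → ℂ}
    (ha : a ∈ T₂) (hb : b ∈ T₂) (hab : a ≠ b) : Cfsg.IsCoherent T₂ {1}ᶜ τ := by
  obtain ⟨-, τ₁, hτ₁, hagree⟩ := h₁
  have hda := exists_deg hirr a (h ha)
  have hdb := exists_deg hirr b (h hb)
  refine ⟨⟨(Cfsg.charDegree b : ℤ) • a - (Cfsg.charDegree a : ℤ) • b,
    Coh.mem_zspanOn_iff.2 ⟨Submodule.sub_mem _ (Submodule.smul_mem _ _ (mem_zspan_self ha))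
      (Submodule.smul_mem _ _ (mem_zspan_self hb)), by simp [hda, hdb]; ring⟩, fun e => ?_⟩, τ₁,
    ⟨fun x hx y hy => hτ₁.1 x (Coh.zspan_mono h hx) y (Coh.zspan_mono h hy),
      fun x hx => hτ₁.2.1 x (Coh.zspan_mono h hx),
      fun x hx y hy => hτ₁.2.2.1 x (Coh.zspan_mono h hx) y (Coh.zspan_mono h hy),
      fun x hx => hτ₁.2.2.2 x (Coh.zspan_mono h hx)⟩,
    fun x hx => hagree x (Coh.zspanOn_mono h hx)⟩
  have h' := congrArg (fun f => Cfsg.classInner f a) e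
  simp only [Char.classInner_sub_left, Coh.classInner_zsmul_left,
    Char.classInner_irr_self (hirr a (h ha)),
    Char.classInner_irr_of_ne (hirr b (h hb)) (hirr a (h ha)) hab.symm,
    Char.classInner_zero_left, mul_one, mul_zero, sub_zero, Int.cast_natCast] at h'
  exact Char.IsIrrCharacter.apply_one_ne_zero (hirr b (h hb)) (by rw [hdb, h'])

theorem irr_of_above {H : Subgroup N} [H.Normal]
    (hC : ∀ h ∈ H, h ≠ 1 → Subgroup.centralizer ({h} : Set N) ≤ H) :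
    ∀ φ ∈ Cfsg.inducedIrrAbove H ⊥, Cfsg.IsIrrCharacter N φ := by
  classical
  rintro φ ⟨θ, hθ, hθ1, -, rfl⟩
  refine Char.isIrrCharacter_indFun_of_inertia H θ hθ fun g hg => ?_
  by_contra hgN
  refine hθ1 (Char.eq_one_of_conjFun_eq H g (fun k hk hgk => ?_) θ hθ hg)
  by_contra hk1
  exact hgN (hC k hk hk1 (Subgroup.mem_centralizer_singleton_iff.2 hgk))

theorem setOf_irr_eq_above {H : Subgroup N} [H.Normal]
    (hC : ∀ h ∈ H, h ≠ 1 → Subgroup.centralizer ({h} : Set N) ≤ H) :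
    {χ : N → ℂ | Cfsg.IsIrrCharacter N χ ∧ ∃ h ∈ H, χ h ≠ χ 1} = Cfsg.inducedIrrAbove H ⊥ := by
  classical
  haveI : Fintype H := Fintype.ofFinite H
  ext χ
  constructor
  · rintro ⟨hχ, hker⟩
    obtain ⟨φ, hφ, rfl⟩ := Cfsg.Agent.S1528.result H hC χ hχ hker
    refine ⟨φ, hφ, fun e => ?_, fun a ha => ?_, rfl⟩
    · obtain ⟨h, hh, hne⟩ := hker
      refine hne ?_
      subst e
      have hi : ∀ g, CharTwist.conjFun H (fun _ : H => (1 : ℂ)) g = fun _ => 1 := fun g => rfl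
      have h1 := CharDeep.Cliff.indFun_res_invariant H hi ⟨h, hh⟩
      have h2 := CharDeep.Cliff.indFun_res_invariant H hi 1
      simp only [OneMemClass.coe_one] at h2
      rw [show Cfsg.indFun H (fun _ : H => (1 : ℂ)) h = _ from h1, h2]
    · rw [show a = 1 from Subtype.ext (Subgroup.mem_bot.1 ha)]
  · intro hχ
    have hirr := irr_of_above hC χ hχ
    refine ⟨hirr, ?_⟩
    obtain ⟨θ, hθ, hθ1, -, rfl⟩ := hχ
    by_contra hc
    push_neg at hc
    have hcl := Char.IsIrrCharacter.isClassFunction hirr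
    have h := Char.classInner_indFun H θ _ hcl
    rw [Char.classInner_irr_self hirr, show (fun h : H => Cfsg.indFun H θ h) =
      (Cfsg.indFun H θ 1) • (fun _ : H => (1 : ℂ)) from funext fun h => by simp [hc h h.2],
      Char.classInner_smul_right, Char.classInner_irr_of_ne hθ Char.isIrrCharacter_principal hθ1,
      mul_zero] at h
    exact one_ne_zero h

open Classical in
theorem sum_sq_above (H : Subgroup N) [H.Normal] (A : Subgroup N) [A.Normal]
    (hirr : ∀ φ ∈ Cfsg.inducedIrrAbove H ⊥, Cfsg.IsIrrCharacter N φ) (S : Finset (N → ℂ))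
    (hS : (↑S : Set (N → ℂ)) = Cfsg.inducedIrrAbove H A) :
    ∑ φ ∈ S, Cfsg.charDegree φ ^ 2 + H.index = H.index * A.relIndex H := by
  have hmem : ∀ φ ∈ S, φ ∈ Cfsg.inducedIrrAbove H ⊥ := fun φ hφ =>
    Above.above_mono H bot_le (hS ▸ Finset.mem_coe.2 hφ)
  have h := Above.sum_sq_div_norm H A Cfsg.charDegree (fun _ => 1) S hS
    (fun φ hφ => exists_deg hirr φ (hmem φ hφ))
    (fun φ hφ => by rw [Char.classInner_irr_self (hirr φ (hmem φ hφ))]; simp)
  simp only [Nat.cast_one, div_one] at h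
  have h' : ((∑ φ ∈ S, Cfsg.charDegree φ ^ 2 + H.index : ℕ) : ℝ) =
      ((H.index * A.relIndex H : ℕ) : ℝ) := by
    push_cast
    rw [h]; ring
  exact_mod_cast h'

theorem deg_indFun (H : Subgroup N) {θ : H → ℂ} (hθ : Cfsg.IsIrrCharacter H θ)
    (hirr : Cfsg.IsIrrCharacter N (Cfsg.indFun H θ)) :
    Cfsg.charDegree (Cfsg.indFun H θ) = H.index * Cfsg.charDegree θ := by
  have h := CharTools.degree_cast (Char.IsIrrCharacter.isCharacter hirr)
  rw [Char.indFun_apply_one, ← CharTools.degree_cast (Char.IsIrrCharacter.isCharacter hθ)] at h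
  exact_mod_cast h

/-- Enlarging a coherent `S(A)` to `S(B)`. -/
theorem extend_above (H : Subgroup N) [H.Normal] (hsolv : Group.IsSolvable H)
    (hirr : ∀ φ ∈ Cfsg.inducedIrrAbove H ⊥, Cfsg.IsIrrCharacter N φ) {τ : (N → ℂ) → (G → ℂ)}
    (hτ : Cfsg.IsLinearIsometryOn (Cfsg.zspanOn (Cfsg.inducedIrrAbove H ⊥) {1}ᶜ) τ)
    (hτ1 : ∀ α ∈ Cfsg.zspanOn (Cfsg.inducedIrrAbove H ⊥) {1}ᶜ, τ α 1 = 0)
    (A B : Subgroup N) [A.Normal] [B.Normal] (hAH : A < H) (hBA : B ≤ A)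
    (hA : Cfsg.IsCoherent (Cfsg.inducedIrrAbove H A) {1}ᶜ τ)
    (hdeg : ∀ θ : H → ℂ, Cfsg.IsIrrCharacter H θ → (∀ b : H, (b : N) ∈ B → θ b = θ 1) →
      2 * H.index * Cfsg.charDegree θ + 1 < A.relIndex H) :
    Cfsg.IsCoherent (Cfsg.inducedIrrAbove H B) {1}ᶜ τ := by
  classical
  have hsub : ∀ A', Cfsg.inducedIrrAbove H A' ⊆ Cfsg.inducedIrrAbove H ⊥ :=
    fun _ => Above.above_mono H bot_le
  have hfin : (Cfsg.inducedIrrAbove H ⊥).Finite :=
    (Set.finite_range (fun χ : Cfsg.IrrCharacter N => (χ : N → ℂ))).subset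
      fun φ hφ => ⟨⟨φ, hirr φ hφ⟩, rfl⟩
  have hfA := hfin.subset (hsub A)
  have hfB := hfin.subset (hsub B)
  obtain ⟨ψ, hψ, hψ1⟩ := Above.exists_linear_member H hsolv A hAH
  have hdψ : Cfsg.charDegree ψ = H.index := by simp [Cfsg.charDegree, hψ1]
  have hsum := sum_sq_above H A hirr hfA.toFinset (by simp)
  have he : 0 < H.index := Nat.pos_of_ne_zero Subgroup.index_ne_zero_of_finite
  have h := feit_extend hirr hτ hτ1 hfA.toFinset (by simpa using hsub A) (by simpa using hA)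
    (ψ := ψ) (by simpa using hψ) hfB.toFinset (by simpa using hsub B) (fun χ hχ _ => by
      have hχ' : χ ∈ Cfsg.inducedIrrAbove H B := by simpa using hχ
      have hχirr := hirr χ (hsub B hχ')
      obtain ⟨θ, hθ, -, hθB, rfl⟩ := hχ'
      rw [hdψ, deg_indFun H hθ hχirr]
      refine ⟨Dvd.intro _ rfl, ?_⟩
      have := Nat.mul_lt_mul_of_pos_left (hdeg θ hθ hθB) he
      have : 2 * H.index * (H.index * Cfsg.charDegree θ) + H.index =
          H.index * (2 * H.index * Cfsg.charDegree θ + 1) := by ring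
      omega)
  have e : Cfsg.inducedIrrAbove H A ∪ Cfsg.inducedIrrAbove H B = Cfsg.inducedIrrAbove H B :=
    Set.union_eq_right.2 (Above.above_mono H hBA)
  rw [Set.Finite.coe_toFinset, Set.Finite.coe_toFinset, e] at h
  exact h

end CfsgLib.OddChar.Irr
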