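import Cfsg.Agent.Lib.OddChar.GridThree
import Cfsg.Agent.Lib.OddChar.CyclicDual
import Cfsg.Agent.Lib.OddChar.Virt
import Cfsg.Agent.S1505
import Cfsg.Agent.Lib.OddChar.IrrCoherent

/-!
Existence of a cyclic TI family.
-/

set_option autoImplicit false
set_option maxHeartbeats 400000

open ComplexConjugate

namespace CfsgLib.OddChar.CyclicExist

variable {G : Type*} [Group G] [Fintype G]

open Classical in
theorem inner_signed {ι : Type*} [Fintype ι] (A : ι → Cfsg.IrrCharacter G) (s : ι → ℤ)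
    (hs : ∀ i, s i = 1 ∨ s i = -1) (hA : Function.Injective A) (i j : ι) :
    Cfsg.classInner ((s i : ℂ) • (A i : G → ℂ)) ((s j : ℂ) • (A j : G → ℂ)) =
      if i = j then 1 else 0 := by
  rw [Char.classInner_smul_left, Char.classInner_smul_right]
  split_ifs with h
  · subst h
    rw [Char.classInner_irr_self (A i).2]
    rcases hs i with e | e <;> simp [e]
  · rw [Char.classInner_irr_of_ne (A i).2 (A j).2 fun e => h (hA (Subtype.ext e))]
    simp

theorem irr_or_neg_signed (χ : Cfsg.IrrCharacter G) {s : ℤ} (hs : s = 1 ∨ s = -1) :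
    Cfsg.IsIrrCharacter G ((s : ℂ) • (χ : G → ℂ)) ∨
      Cfsg.IsIrrCharacter G (-((s : ℂ) • (χ : G → ℂ))) := by
  rcases hs with rfl | rfl
  · left; simpa using χ.2
  · right; simpa using χ.2

variable {W₁ W₂ : Subgroup G}

theorem exists_family (hW : Cfsg.IsSelfNormalizingCyclic W₁ W₂)
    (hodd : Odd (Nat.card ↥(W₁ ⊔ W₂))) :
    ∃ χ : (↥(W₁ ⊔ W₂) →* ℂˣ) → (G → ℂ), Cfsg.IsCyclicTIFamily W₁ W₂ χ := by
  classical
  obtain ⟨hW1, hW2, hdisj, hcomm, hcyc, hN⟩ := id hW
  haveI := hcyc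
  haveI : Fintype ↥(W₁ ⊔ W₂) := Fintype.ofFinite _
  haveI : IsCyclic W₁ :=
    isCyclic_of_injective _ (Subgroup.inclusion_injective (le_sup_left : W₁ ≤ W₁ ⊔ W₂))
  haveI : IsCyclic W₂ :=
    isCyclic_of_injective _ (Subgroup.inclusion_injective (le_sup_right : W₂ ≤ W₁ ⊔ W₂))
  haveI := finite_linearChar W₁
  haveI := finite_linearChar W₂
  haveI := finite_linearChar ↥(W₁ ⊔ W₂)
  letI : Fintype (W₁ →* ℂˣ) := Fintype.ofFinite _
  letI : Fintype (W₂ →* ℂˣ) := Fintype.ofFinite _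
  obtain ⟨i, j, hi, hj, hij⟩ := exists_dual hdisj hcomm
  have hI : ∀ {U : Subgroup G}, U ≤ W₁ ⊔ W₂ → U ≠ ⊥ → IsCyclic U → ∀ [Fintype (U →* ℂˣ)],
      ∀ f₀ : U →* ℂˣ, Fintype.card {f : U →* ℂˣ // f ≠ f₀} = Nat.card U - 1 ∧ Odd (Nat.card U) ∧
        3 ≤ Nat.card U := by
    intro U hU hU1 hUc _ f₀
    haveI := hUc
    have ho : Odd (Nat.card U) := hodd.of_dvd_nat (Subgroup.card_dvd_of_le hU)
    have h1 : 1 < Nat.card U := (Subgroup.one_lt_card_iff_ne_bot U).2 hU1
    refine ⟨?_, ho, ?_⟩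
    · rw [Fintype.card_subtype_compl, Fintype.card_subtype_eq, ← Nat.card_eq_fintype_card,
        card_dual]
    · obtain ⟨t, ht⟩ := ho; omega
  obtain ⟨⟨f₀, g₀⟩, h00⟩ := hij.2 1
  obtain ⟨cI, oI, gI⟩ := hI (le_sup_left : W₁ ≤ W₁ ⊔ W₂) hW1 inferInstance f₀
  obtain ⟨cJ, oJ, gJ⟩ := hI (le_sup_right : W₂ ≤ W₁ ⊔ W₂) hW2 inferInstance g₀
  have hne12 : Nat.card W₁ ≠ Nat.card W₂ := by
    intro h
    obtain ⟨b, hb, hb1⟩ := (Subgroup.bot_or_exists_ne_one W₂).resolve_left hW2
    have hb' : b ^ Nat.card W₁ = 1 := by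
      rw [h, ← orderOf_dvd_iff_pow_eq_one]
      exact Subgroup.orderOf_dvd_natCard W₂ hb
    have : b ∈ W₁ ⊓ W₂ := ⟨mem_of_pow_card_eq_one_of_cyclic le_sup_left hcyc
      (Subgroup.mem_sup_right hb) hb', hb⟩
    rw [hdisj, Subgroup.mem_bot] at this
    exact hb1 this
  let I := {f : W₁ →* ℂˣ // f ≠ f₀}
  let J := {f : W₂ →* ℂˣ // f ≠ g₀}
  have hprods : ∀ f g, i f * j g = 1 → i f = 1 ∧ j g = 1 := fun f g h =>
    ⟨sup_hom_ext (fun w hw => by
      have := DFunLike.congr_fun h w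
      simpa [hj g w hw] using this) (fun w hw => by simp [hi f w hw]),
    sup_hom_ext (fun w hw => by simp [hj g w hw]) fun w hw => by
      have := DFunLike.congr_fun h w
      simpa [hi f w hw] using this⟩
  have hi1 : i f₀ = 1 ∧ j g₀ = 1 := hprods f₀ g₀ h00
  have hiI : ∀ f, i f = 1 → f = f₀ := fun f h => by
    have := hij.1 (a₁ := (f, g₀)) (a₂ := (f₀, g₀)) (by simp [h, hi1.1])
    exact congrArg Prod.fst this
  have hjJ : ∀ g, j g = 1 → g = g₀ := fun g h => by
    have := hij.1 (a₁ := (f₀, g)) (a₂ := (f₀, g₀)) (by simp [h, hi1.2])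
    exact congrArg Prod.snd this
  have hinji : ∀ f f', i f = i f' → f = f' := fun f f' h => by
    have := hij.1 (a₁ := (f, g₀)) (a₂ := (f', g₀)) (by simp [h])
    exact congrArg Prod.fst this
  have hinjj : ∀ g g', j g = j g' → g = g' := fun g g' h => by
    have := hij.1 (a₁ := (f₀, g)) (a₂ := (f₀, g')) (by simp [h])
    exact congrArg Prod.snd this
  -- the differences
  let α : I → J → G → ℂ := fun a b => Cfsg.indFun (W₁ ⊔ W₂) (tiAlpha (i a.1) (j b.1))
  let β : I → J → G → ℂ := fun a b => α a b - fun _ => 1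
  have hαgen : ∀ a b, Cfsg.IsGeneralizedCharacter G (α a b) := by
    intro a b
    refine Char.IsGeneralizedCharacter.indFun _ ?_
    rw [tiAlpha_eq_sum]
    have hl : ∀ f : ↥(W₁ ⊔ W₂) →* ℂˣ,
        Cfsg.IsGeneralizedCharacter ↥(W₁ ⊔ W₂) (fun w => (f w : ℂ)) := fun f =>
      Char.IsIrrCharacter.isGeneralizedCharacter (Char.isIrrCharacter_linear f)
    exact Char.IsGeneralizedCharacter.add (Char.IsGeneralizedCharacter.sub
      (Char.IsGeneralizedCharacter.sub (hl _) (hl _)) (hl _)) (hl _)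
  have hone : Cfsg.IsGeneralizedCharacter G (fun _ => (1 : ℂ)) :=
    Char.IsIrrCharacter.isGeneralizedCharacter Char.isIrrCharacter_principal
  have hβgen : ∀ a b, Cfsg.IsGeneralizedCharacter G (β a b) := fun a b => Char.IsGeneralizedCharacter.sub (hαgen a b) hone
  choose z hz hzinner hznorm using fun a b => exists_int_coeff (hβgen a b)
  have hX : ∀ a b a' b', Cfsg.classInner (α a b) (fun _ => 1) = 1 ∧
      Cfsg.classInner (α a b) (α a' b') = 1 + (if a = a' then 1 else 0) + (if b = b' then 1 else 0)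
        + (if a = a' then 1 else 0) * (if b = b' then 1 else 0) := by
    intro a b a' b'
    have h := Cfsg.Agent.S1505.result W₁ W₂ hW (i a.1) (i a'.1) (j b.1) (j b'.1)
      (fun h => a.2 (hiI _ h)) (fun h => a'.2 (hiI _ h)) (fun h => b.2 (hjJ _ h))
      (fun h => b'.2 (hjJ _ h)) (fun w hw => ⟨hi _ w hw, hi _ w hw⟩)
      (fun w hw => ⟨hj _ w hw, hj _ w hw⟩)
    refine ⟨h.1, h.2.trans ?_⟩
    have e1 : i a.1 = i a'.1 ↔ a = a' := ⟨fun e => Subtype.ext (hinji _ _ e), fun e => by rw [e]⟩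
    have e2 : j b.1 = j b'.1 ↔ b = b' := ⟨fun e => Subtype.ext (hinjj _ _ e), fun e => by rw [e]⟩
    simp only [e1, e2]
  have hprin : Cfsg.classInner (fun _ : G => (1 : ℂ)) (fun _ => 1) = 1 :=
    Char.classInner_irr_self Char.isIrrCharacter_principal
  have hββ : ∀ a b a' b', Cfsg.classInner (β a b) (β a' b') = (if a = a' then 1 else 0) +
      (if b = b' then 1 else 0) + (if a = a' then 1 else 0) * (if b = b' then 1 else 0) := by
    intro a b a' b'
    have h1 : Cfsg.classInner (fun _ : G => (1 : ℂ)) (α a' b') = 1 := by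
      rw [← Char.classInner_conj_symm, (hX a' b' a b).1, map_one]
    simp only [β, Char.classInner_sub_left, Char.classInner_sub_right, (hX a b a' b').1, h1,
      (hX a b a' b').2, hprin]
    ring
  have hdot : ∀ a b a' b', GridThree.ip (z a b) (z a' b') = (if a = a' then 1 else 0) +
      (if b = b' then 1 else 0) + (if a = a' then 1 else 0) * (if b = b' then 1 else 0) := by
    intro a b a' b'
    have h := Char.classInner_eq_sum (Char.IsGeneralizedCharacter.isClassFunction (hβgen a b))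
      (Char.IsGeneralizedCharacter.isClassFunction (hβgen a' b'))
    rw [hββ] at h
    simp only [hzinner, map_intCast] at h
    have h' : (((if a = a' then 1 else 0) +
      (if b = b' then 1 else 0) + (if a = a' then 1 else 0) * (if b = b' then 1 else 0) : ℤ) : ℂ) =
        ((GridThree.ip (z a b) (z a' b') : ℤ) : ℂ) := by
      push_cast [GridThree.ip]
      exact h
    exact_mod_cast h'.symm
  let deg : Cfsg.IrrCharacter G → ℤ := fun χ => (Cfsg.charDegree (χ : G → ℂ) : ℤ)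
  have hdegc : ∀ χ : Cfsg.IrrCharacter G, ((deg χ : ℤ) : ℂ) = (χ : G → ℂ) 1 := fun χ => by
    simp [deg, CharTools.degree_cast (Char.IsIrrCharacter.isCharacter χ.2)]
  have hdeg : ∀ χ, deg χ ≠ 0 := fun χ h => Char.IsIrrCharacter.apply_one_ne_zero χ.2 (by
    rw [← hdegc, h, Int.cast_zero])
  have hval : ∀ a b, GridThree.ip (z a b) deg = -1 := by
    intro a b
    have h : β a b 1 = -1 := by
      show α a b 1 - 1 = -1
      rw [show α a b 1 = 0 by
        show Cfsg.indFun (W₁ ⊔ W₂) (tiAlpha (i a.1) (j b.1)) 1 = 0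
        rw [Char.indFun_apply_one]; simp [tiAlpha]]
      ring
    rw [hz a b] at h
    simp only [Finset.sum_apply, Pi.smul_apply, smul_eq_mul, ← hdegc] at h
    have h' : ((GridThree.ip (z a b) deg : ℤ) : ℂ) = ((-1 : ℤ) : ℂ) := by
      push_cast [GridThree.ip]
      exact h
    exact_mod_cast h'
  have hz0 : ∀ a b, z a b Char.principalIrr = 0 := by
    intro a b
    have h := hzinner a b Char.principalIrr
    rw [show ((Char.principalIrr : Cfsg.IrrCharacter G) : G → ℂ) = fun _ => (1 : ℂ) from rfl] at h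
    simp only [β, Char.classInner_sub_left, (hX a b a b).1, hprin, sub_self] at h
    exact_mod_cast h.symm
  -- the grid
  obtain ⟨A, B, C, sA, sB, sC, hinj, hsA, hsB, hsC, hsplit⟩ :
      ∃ (A : I → Cfsg.IrrCharacter G) (B : J → Cfsg.IrrCharacter G)
        (C : I → J → Cfsg.IrrCharacter G) (sA : I → ℤ) (sB : J → ℤ) (sC : I → J → ℤ),
      Function.Injective (Sum.elim A (Sum.elim B fun p : I × J => C p.1 p.2)) ∧
      (∀ i, sA i = 1 ∨ sA i = -1) ∧ (∀ j, sB j = 1 ∨ sB j = -1) ∧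
      (∀ i j, sC i j = 1 ∨ sC i j = -1) ∧
      ∀ i j, z i j = Pi.single (A i) (sA i) + Pi.single (B j) (sB j) +
        Pi.single (C i j) (sC i j) := by
    have hd : ∀ a b a' b', GridThree.ip (z a b) deg = GridThree.ip (z a' b') deg :=
      fun a b a' b' => (hval a b).trans (hval a' b').symm
    have cI' : Fintype.card I = Nat.card W₁ - 1 := cI
    have cJ' : Fintype.card J = Nat.card W₂ - 1 := cJ
    obtain ⟨t, ht⟩ := oI
    obtain ⟨u, hu⟩ := oJ
    by_cases hcase : 4 ≤ Fintype.card J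
    · exact GridThree.exists_grid hdeg z hdot hd (by omega) hcase
    · have hJ2 : Fintype.card J = 2 := by omega
      have hI4 : 4 ≤ Fintype.card I := by omega
      obtain ⟨B, A, C, sB, sA, sC, hinj, hsB, hsA, hsC, hsplit⟩ :=
        GridThree.exists_grid hdeg (fun b a => z a b) (fun b a b' a' => by rw [hdot]; ring)
          (fun _ _ _ _ => hd _ _ _ _) (Or.inl hJ2) hI4
      refine ⟨A, B, fun a b => C b a, sA, sB, fun a b => sC b a, ?_, hsA, hsB,
        fun a b => hsC b a, fun a b => by rw [hsplit b a]; abel⟩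
      let σ : I ⊕ J ⊕ (I × J) → J ⊕ I ⊕ (J × I) :=
        Sum.elim (fun a => .inr (.inl a)) (Sum.elim (fun b => .inl b) fun p => .inr (.inr p.swap))
      let τ : J ⊕ I ⊕ (J × I) → I ⊕ J ⊕ (I × J) :=
        Sum.elim (fun b => .inr (.inl b)) (Sum.elim (fun a => .inl a) fun p => .inr (.inr p.swap))
      have hσ : Function.Injective σ :=
        Function.LeftInverse.injective (g := τ) fun x => by rcases x with a | b | p <;> rfl
      convert hinj.comp hσ using 1
      funext x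
      rcases x with a | b | p <;> rfl
  have hnp : ∀ x, Sum.elim A (Sum.elim B fun p : I × J => C p.1 p.2) x ≠ Char.principalIrr := by
    have hkey : ∀ a b, A a ≠ Char.principalIrr ∧ B b ≠ Char.principalIrr ∧
        C a b ≠ Char.principalIrr := by
      intro a b
      have h0 := hz0 a b
      rw [hsplit] at h0
      have e1 : A a ≠ B b := fun e => Sum.inl_ne_inr (@hinj (.inl a) (.inr (.inl b)) e)
      have e2 : A a ≠ C a b := fun e => Sum.inl_ne_inr (@hinj (.inl a) (.inr (.inr (a, b))) e)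
      have e3 : B b ≠ C a b := fun e =>
        Sum.inl_ne_inr (Sum.inr_injective (@hinj (.inr (.inl b)) (.inr (.inr (a, b))) e))
      refine ⟨fun e => ?_, fun e => ?_, fun e => ?_⟩ <;> rw [← e] at h0
      · simp only [Pi.add_apply, Pi.single_eq_same, Pi.single_eq_of_ne e1, Pi.single_eq_of_ne e2] at h0
        rcases hsA a with h | h <;> omega
      · simp only [Pi.add_apply, Pi.single_eq_same, Pi.single_eq_of_ne e1.symm,
          Pi.single_eq_of_ne e3] at h0
        rcases hsB b with h | h <;> omega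
      · simp only [Pi.add_apply, Pi.single_eq_same, Pi.single_eq_of_ne e2.symm,
          Pi.single_eq_of_ne e3.symm] at h0
        rcases hsC a b with h | h <;> omega
    haveI : Nonempty I := Fintype.card_pos_iff.1 (by
      show 0 < Fintype.card {f : W₁ →* ℂˣ // f ≠ f₀}
      omega)
    haveI : Nonempty J := Fintype.card_pos_iff.1 (by
      show 0 < Fintype.card {f : W₂ →* ℂˣ // f ≠ g₀}
      omega)
    rintro (a | b | ⟨a, b⟩)
    exacts [(hkey a (Classical.arbitrary J)).1, (hkey (Classical.arbitrary I) b).2.1,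
      (hkey a b).2.2]
  -- the family
  let irr : (W₁ →* ℂˣ) × (W₂ →* ℂˣ) → Cfsg.IrrCharacter G := fun x =>
    if hf : x.1 = f₀ then (if hg : x.2 = g₀ then Char.principalIrr else B ⟨x.2, hg⟩)
    else (if hg : x.2 = g₀ then A ⟨x.1, hf⟩ else C ⟨x.1, hf⟩ ⟨x.2, hg⟩)
  let sg : (W₁ →* ℂˣ) × (W₂ →* ℂˣ) → ℤ := fun x =>
    if hf : x.1 = f₀ then (if hg : x.2 = g₀ then 1 else -sB ⟨x.2, hg⟩)
    else (if hg : x.2 = g₀ then -sA ⟨x.1, hf⟩ else sC ⟨x.1, hf⟩ ⟨x.2, hg⟩)
  have hsg : ∀ x, sg x = 1 ∨ sg x = -1 := by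
    intro x
    simp only [sg]
    split_ifs with hf hg hg
    · exact Or.inl rfl
    · rcases hsB ⟨x.2, hg⟩ with h | h <;> simp [h]
    · rcases hsA ⟨x.1, hf⟩ with h | h <;> simp [h]
    · exact hsC _ _
  have hirr : Function.Injective irr := by
    let lab : (W₁ →* ℂˣ) × (W₂ →* ℂˣ) → Option (I ⊕ J ⊕ (I × J)) := fun x =>
      if hf : x.1 = f₀ then (if hg : x.2 = g₀ then none else some (.inr (.inl ⟨x.2, hg⟩)))
      else (if hg : x.2 = g₀ then some (.inl ⟨x.1, hf⟩)
        else some (.inr (.inr (⟨x.1, hf⟩, ⟨x.2, hg⟩))))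
    have hlab : irr = fun x => ((lab x).map (Sum.elim A (Sum.elim B fun p : I × J => C p.1 p.2))).getD
        Char.principalIrr := by
      funext x; simp only [irr, lab]; split_ifs <;> rfl
    let back : Option (I ⊕ J ⊕ (I × J)) → (W₁ →* ℂˣ) × (W₂ →* ℂˣ) := fun o =>
      match o with
      | none => (f₀, g₀)
      | some (.inl a) => (a.1, g₀)
      | some (.inr (.inl b)) => (f₀, b.1)
      | some (.inr (.inr p)) => (p.1.1, p.2.1)
    have hlinj : Function.Injective lab := Function.LeftInverse.injective (g := back) fun x => by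
      simp only [lab]
      split_ifs with h1 h2 h3
      · exact Prod.ext h1.symm h2.symm
      · exact Prod.ext h1.symm rfl
      · exact Prod.ext rfl h3.symm
      · rfl
    intro x y e
    simp only [hlab] at e
    refine hlinj ?_
    rcases hx : lab x with _ | u <;> rcases hy : lab y with _ | v <;> simp only [hx, hy] at e
    · rfl
    · exact absurd e.symm (hnp v)
    · exact absurd e (hnp u)
    · rw [hinj e]
  let E := Equiv.ofBijective _ hij
  have hE : ∀ f g, E.symm (i f * j g) = (f, g) := fun f g => E.symm_apply_eq.2 rfl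
  let χ : (↥(W₁ ⊔ W₂) →* ℂˣ) → (G → ℂ) := fun ω =>
    (sg (E.symm ω) : ℂ) • ((irr (E.symm ω) : Cfsg.IrrCharacter G) : G → ℂ)
  have hm1 : ∀ a : ↥(W₁ ⊔ W₂) →* ℂˣ, a * 1 = a := fun a => MonoidHom.ext fun w => by simp
  have h1m : ∀ a : ↥(W₁ ⊔ W₂) →* ℂˣ, 1 * a = a := fun a => MonoidHom.ext fun w => by simp
  have hone' : χ 1 = fun _ => 1 := by
    have h : E.symm 1 = (f₀, g₀) := by rw [← hE f₀ g₀, hi1.1, hi1.2, hm1]
    funext g
    simp [χ, h, sg, irr, Char.principalIrr_apply]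
  have horth : ∀ ω ω', Cfsg.classInner (χ ω) (χ ω') = if ω = ω' then 1 else 0 := fun ω ω' => by
    rw [show Cfsg.classInner (χ ω) (χ ω') = _ from inner_signed irr sg hsg hirr _ _]
    simp
  have hind : ∀ φ ψ : ↥(W₁ ⊔ W₂) →* ℂˣ, φ ≠ 1 → ψ ≠ 1 →
      (∀ w : ↥(W₁ ⊔ W₂), (w : G) ∈ W₂ → φ w = 1) → (∀ w : ↥(W₁ ⊔ W₂), (w : G) ∈ W₁ → ψ w = 1) →
      Cfsg.indFun (W₁ ⊔ W₂) (tiAlpha φ ψ) = χ 1 - χ φ - χ ψ + χ (φ * ψ) := by
    intro φ ψ hφ hψ hφ2 hψ1
    obtain ⟨⟨f, g'⟩, rfl⟩ := hij.2 φ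
    obtain ⟨⟨f', g⟩, rfl⟩ := hij.2 ψ
    simp only at hφ hψ hφ2 hψ1 ⊢
    have eg : j g' = 1 := sup_hom_ext (fun w hw => by simp [hj g' w hw]) fun w hw => by
      have := hφ2 w hw
      simpa [hi f w hw] using this
    have ef : i f' = 1 := sup_hom_ext (fun w hw => by
      have := hψ1 w hw
      simpa [hj g w hw] using this) fun w hw => by simp [hi f' w hw]
    rw [eg, hm1] at hφ ⊢
    rw [ef, h1m] at hψ ⊢
    have hf : f ≠ f₀ := fun h => hφ (h ▸ hi1.1)
    have hg : g ≠ g₀ := fun h => hψ (h ▸ hi1.2)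
    have ea : E.symm (i f) = (f, g₀) := by rw [← hE f g₀, hi1.2, hm1]
    have eb : E.symm (j g) = (f₀, g) := by rw [← hE f₀ g, hi1.1, h1m]
    have h := hz ⟨f, hf⟩ ⟨g, hg⟩
    simp only [hsplit, Pi.add_apply, Int.cast_add, add_smul, Finset.sum_add_distrib, Pi.single_apply,
      Int.cast_ite, Int.cast_zero, ite_smul, zero_smul, Finset.sum_ite_eq', Finset.mem_univ,
      if_true, β] at h
    rw [hone']
    simp only [χ, ea, eb, hE, sg, irr, hf, hg, dif_pos, dif_neg, not_false_eq_true, Int.cast_neg]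
    rw [show Cfsg.indFun (W₁ ⊔ W₂) (tiAlpha (i f) (j g)) = α ⟨f, hf⟩ ⟨g, hg⟩ from rfl,
      sub_eq_iff_eq_add.1 h]
    module
  refine ⟨χ, fun ω => irr_or_neg_signed _ (hsg _), fun ω ω' => by convert horth ω ω' using 2, hone', ?_, fun φ ψ h1 h2 h3 h4 => ?_⟩
  · intro ω w hw1 hw2
    have hcl : Cfsg.IsClassFunction G (χ ω) := by
      refine fun a b => ?_
      simp [χ, Char.IsIrrCharacter.isClassFunction (irr (E.symm ω)).2 a b]
    have h := eq_zero_of_orth_tiAlpha hcyc hdisj (fun v => χ ω v - (ω v : ℂ)) (fun φ ψ hφ hψ => ?_)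
      w hw1 hw2
    · exact sub_eq_zero.1 h
    by_cases hφ1 : φ = 1
    · rw [show tiAlpha φ ψ = 0 by funext v; simp [tiAlpha, hφ1], Char.classInner_zero_right]
    by_cases hψ1 : ψ = 1
    · rw [show tiAlpha φ ψ = 0 by funext v; simp [tiAlpha, hψ1], Char.classInner_zero_right]
    rw [show (fun v : ↥(W₁ ⊔ W₂) => χ ω v - (ω v : ℂ)) =
      (fun v : ↥(W₁ ⊔ W₂) => χ ω v) - fun v => (ω v : ℂ) from rfl, Char.classInner_sub_left,
      sub_eq_zero]
    have hl : Cfsg.classInner (fun v : ↥(W₁ ⊔ W₂) => χ ω v) (tiAlpha φ ψ) =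
        Cfsg.classInner (χ ω) (Cfsg.indFun (W₁ ⊔ W₂) (tiAlpha φ ψ)) := by
      rw [← Char.classInner_conj_symm, ← Char.classInner_indFun _ _ _ hcl,
        Char.classInner_conj_symm]
    rw [hl, hind φ ψ hφ1 hψ1 hφ hψ, tiAlpha_eq_sum]
    simp only [Char.classInner_add_right, Char.classInner_sub_right, horth]
    simp only [classInner_linearChar]
  · rw [show (fun w => 1 - (φ w : ℂ) - (ψ w : ℂ) + (φ w : ℂ) * (ψ w : ℂ)) = tiAlpha φ ψ from rfl,
      hind φ ψ h1 h2 h3 h4, hone']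
    rfl

end CfsgLib.OddChar.CyclicExist
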