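import Cfsg.Agent.Lib.OddChar.Coherence

/-!
The coherence criteria: constant degree, extension by a conjugate pair, Feit's criterion,
union of two coherent sets.
-/

set_option autoImplicit false

open ComplexConjugate

namespace CfsgLib.OddChar.Coh

variable {L : Type*} [Group L] [Fintype L] {G : Type*} [Group G] [Fintype G]
  {T : Set (L → ℂ)} {τ : (L → ℂ) → (G → ℂ)} {R : (L → ℂ) → Finset (G → ℂ)}

theorem isometry_zero (hτ : Cfsg.IsLinearIsometryOn (Cfsg.zspanOn T {1}ᶜ) τ) {α : L → ℂ}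
    (hα : α ∈ Cfsg.zspanOn T {1}ᶜ) : τ (α - α) = 0 := by
  rw [isometry_sub hτ hα hα, sub_self]

theorem zero_mem_zspanOn : (0 : L → ℂ) ∈ Cfsg.zspanOn T {1}ᶜ :=
  mem_zspanOn_iff.2 ⟨Submodule.zero_mem _, rfl⟩

theorem isometry_map_zero (hτ : Cfsg.IsLinearIsometryOn (Cfsg.zspanOn T {1}ᶜ) τ) : τ 0 = 0 := by
  simpa using isometry_zero hτ (zero_mem_zspanOn (T := T))

theorem zspanOn_sum {ι : Type*} (s : Finset ι) (v : ι → L → ℂ)
    (h : ∀ i ∈ s, v i ∈ Cfsg.zspanOn T {1}ᶜ) : ∑ i ∈ s, v i ∈ Cfsg.zspanOn T {1}ᶜ :=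
  mem_zspanOn_iff.2 ⟨Submodule.sum_mem _ fun i hi => (h i hi).1, by
    rw [Finset.sum_apply, Finset.sum_eq_zero fun i hi => (mem_zspanOn_iff.1 (h i hi)).2]⟩

theorem isometry_sum (hτ : Cfsg.IsLinearIsometryOn (Cfsg.zspanOn T {1}ᶜ) τ) {ι : Type*}
    (s : Finset ι) (v : ι → L → ℂ) (h : ∀ i ∈ s, v i ∈ Cfsg.zspanOn T {1}ᶜ) :
    τ (∑ i ∈ s, v i) = ∑ i ∈ s, τ (v i) := by
  classical
  induction s using Finset.induction_on with
  | empty => simpa using isometry_map_zero hτ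
  | @insert j s hj ih =>
    rw [Finset.sum_insert hj, Finset.sum_insert hj,
      hτ.1 _ (h j (Finset.mem_insert_self _ _)) _
        (zspanOn_sum s v fun i hi => h i (Finset.mem_insert_of_mem hi)),
      ih fun i hi => h i (Finset.mem_insert_of_mem hi)]

theorem isometry_neg (hτ : Cfsg.IsLinearIsometryOn (Cfsg.zspanOn T {1}ᶜ) τ) {α : L → ℂ}
    (hα : α ∈ Cfsg.zspanOn T {1}ᶜ) : τ (-α) = -τ α := by
  rw [show -α = (-1 : ℤ) • α by simp, hτ.2.1 _ hα]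
  simp

theorem ext_eq_of_mem_zspan {S : Finset (L → ℂ)} {f : (L → ℂ) → (G → ℂ)}
    (horth : ∀ a ∈ S, ∀ b ∈ S, a ≠ b → Cfsg.classInner a b = 0)
    (hne : ∀ a ∈ S, Cfsg.classInner a a ≠ 0) {T₁ : Set (L → ℂ)} (hsub : T₁ ⊆ ↑S)
    {τ₁ : (L → ℂ) → (G → ℂ)} (hτ₁ : Cfsg.IsLinearIsometryOn (Cfsg.zspan T₁) τ₁)
    (hf : ∀ φ ∈ T₁, f φ = τ₁ φ) {α : L → ℂ} (hα : α ∈ Cfsg.zspan T₁) : ext S f α = τ₁ α := by
  induction hα using Submodule.span_induction with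
  | mem x hx => rw [ext_self horth hne (hsub hx), hf x hx]
  | zero =>
    have h := hτ₁.2.1 0 (Submodule.zero_mem _) 0
    rw [smul_zero, zero_smul] at h
    rw [h, ext_zero]
  | add x y hx hy h1 h2 => rw [ext_add, h1, h2, hτ₁.1 x hx y hy]
  | smul a x hx h => rw [ext_zsmul, h, hτ₁.2.1 x hx]

theorem sum_smul_apply_one {S : Finset (L → ℂ)} (c : (L → ℂ) → ℤ) :
    (∑ φ ∈ S, c φ • φ) 1 = ∑ φ ∈ S, (c φ : ℂ) * φ 1 := by
  simp [Finset.sum_apply]

/-! ### Constant degree -/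

section System

variable (hS : Cfsg.IsCoherenceSystem T τ R)

include hS

theorem card_R {χ : L → ℂ} (hχ : χ ∈ T) {n : ℕ} (hn : Cfsg.classInner χ χ = n) :
    (R χ).card = 2 * n := by
  classical
  have h := hS.isometry.2.2.1 _ (sub_conj_mem hS hχ) _ (sub_conj_mem hS hχ)
  rw [hS.sum_eq χ hχ, inner_sub_conj hS hχ, hn,
    inner_sum_subset (hS.orthonormal χ hχ) (subset_refl _) (subset_refl _), Finset.inter_self] at h
  exact_mod_cast h

theorem R_orth {χ ψ : L → ℂ} (hχ : χ ∈ T) (hψ : ψ ∈ T) (h1 : ψ ≠ χ) (h2 : ψ ≠ Cfsg.conjFun χ)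
    {a b : G → ℂ} (ha : a ∈ R ψ) (hb : b ∈ R χ) : Cfsg.classInner a b = 0 :=
  hS.disjoint χ hχ ψ hψ (hS.orthogonal ψ hψ χ hχ h1)
    (hS.orthogonal ψ hψ _ (hS.conj_mem χ hχ) h2) a ha b hb

theorem virtual_sum {χ : L → ℂ} (hχ : χ ∈ T) {U : Finset (G → ℂ)} (hU : U ⊆ R χ) :
    Cfsg.IsGeneralizedCharacter G (∑ a ∈ U, a) :=
  isGeneralized_sum fun a ha => hS.virtual χ hχ a (hU ha)

theorem inner_sums_of_ne {χ ψ : L → ℂ} (hχ : χ ∈ T) (hψ : ψ ∈ T) (h1 : ψ ≠ χ)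
    (h2 : ψ ≠ Cfsg.conjFun χ) {U V : Finset (G → ℂ)} (hU : U ⊆ R ψ) (hV : V ⊆ R χ) :
    Cfsg.classInner (∑ a ∈ U, a) (∑ b ∈ V, b) = 0 := by
  rw [CfsgLib.Char.classInner_sum_left]
  refine Finset.sum_eq_zero fun a ha => ?_
  rw [CfsgLib.Char.classInner_sum_right]
  exact Finset.sum_eq_zero fun b hb => R_orth hS hχ hψ h1 h2 (hU ha) (hV hb)

theorem decomp {χ ψ : L → ℂ} (hχ : χ ∈ T) (hψ : ψ ∈ T) (h1 : ψ ≠ χ) (h2 : ψ ≠ Cfsg.conjFun χ)
    (hdeg : χ 1 = ψ 1) {n : ℕ} (hn : Cfsg.classInner χ χ = n) :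
    ∃ U V : Finset (G → ℂ), U ⊆ R χ ∧ V ⊆ R ψ ∧ U.card = n ∧
      τ (χ - ψ) = (∑ a ∈ U, a) - ∑ b ∈ V, b := by
  classical
  obtain ⟨m, hm0, hm⟩ := exists_norm hS hψ
  have hmem : χ - ψ ∈ Cfsg.zspanOn T {1}ᶜ :=
    mem_zspanOn_iff.2 ⟨Submodule.sub_mem _ (mem_zspan_self hχ) (mem_zspan_self hψ), by simp [hdeg]⟩
  have hgen := hS.isometry.2.2.2 _ hmem
  set β := τ (χ - ψ) with hβ
  have o1 := hS.orthogonal χ hχ ψ hψ (Ne.symm h1)
  have o2 := hS.orthogonal ψ hψ χ hχ h1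
  have hψχ : χ ≠ Cfsg.conjFun ψ := fun e => h2 (by rw [e, conjFun_conjFun])
  have hsum1 : Cfsg.classInner β (∑ a ∈ R χ, a) = n := by
    rw [← hS.sum_eq χ hχ, hβ, hS.isometry.2.2.1 _ hmem _ (sub_conj_mem hS hχ),
      CfsgLib.Char.classInner_sub_left, CfsgLib.Char.classInner_sub_right,
      CfsgLib.Char.classInner_sub_right, hn, o2,
      hS.orthogonal χ hχ _ (hS.conj_mem χ hχ) (hS.conj_ne χ hχ).symm,
      hS.orthogonal ψ hψ _ (hS.conj_mem χ hχ) h2]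
    simp
  have hsum2 : Cfsg.classInner (-β) (∑ a ∈ R ψ, a) = m := by
    rw [CfsgLib.Char.classInner_neg_left, ← hS.sum_eq ψ hψ, hβ,
      hS.isometry.2.2.1 _ hmem _ (sub_conj_mem hS hψ), CfsgLib.Char.classInner_sub_left,
      CfsgLib.Char.classInner_sub_right, CfsgLib.Char.classInner_sub_right, hm, o1,
      hS.orthogonal χ hχ _ (hS.conj_mem ψ hψ) hψχ,
      hS.orthogonal ψ hψ _ (hS.conj_mem ψ hψ) (hS.conj_ne ψ hψ).symm]
    simp
  obtain ⟨k, hk, hkge, hkT⟩ := exists_part hgen (R χ) (hS.orthonormal χ hχ) (hS.virtual χ hχ) hsum1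
  obtain ⟨l, hl, hlge, hlT⟩ := exists_part (CfsgLib.Char.IsGeneralizedCharacter.neg hgen) (R ψ)
    (hS.orthonormal ψ hψ) (hS.virtual ψ hψ) hsum2
  have hl' : ∀ b ∈ R ψ, Cfsg.classInner β b = ((-l b : ℤ) : ℂ) := fun b hb => by
    have := hl b hb
    rw [CfsgLib.Char.classInner_neg_left] at this
    push_cast
    linear_combination -this
  let F : (G → ℂ) ⊕ (G → ℂ) → G → ℂ := Sum.elim id id
  let K : (G → ℂ) ⊕ (G → ℂ) → ℝ := Sum.elim (fun a => (k a : ℝ)) (fun b => -(l b : ℝ))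
  have horthF : ∀ i ∈ (R χ).disjSum (R ψ), ∀ j ∈ (R χ).disjSum (R ψ), i ≠ j →
      Cfsg.classInner (F i) (F j) = 0 := by
    rintro (i | i) hi (j | j) hj hij <;>
      simp only [Finset.inl_mem_disjSum, Finset.inr_mem_disjSum] at hi hj
    · exact (hS.orthonormal χ hχ i hi j hj).trans (if_neg fun e => hij (congrArg _ e))
    · show Cfsg.classInner i j = 0
      rw [← CfsgLib.Char.classInner_conj_symm, R_orth hS hχ hψ h1 h2 hj hi, map_zero]
    · exact R_orth hS hχ hψ h1 h2 hi hj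
    · exact (hS.orthonormal ψ hψ i hi j hj).trans (if_neg fun e => hij (congrArg _ e))
  obtain ⟨hb1, hb2⟩ := bessel ((R χ).disjSum (R ψ)) F β horthF (fun _ => 1) K
    (by
      rintro (i | i) hi <;> simp only [Finset.inl_mem_disjSum, Finset.inr_mem_disjSum] at hi
      · exact (hS.orthonormal χ hχ i hi i hi).trans (by simp)
      · exact (hS.orthonormal ψ hψ i hi i hi).trans (by simp))
    (fun _ _ => one_pos)
    (by
      rintro (i | i) hi <;> simp only [Finset.inl_mem_disjSum, Finset.inr_mem_disjSum] at hi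
      · exact (hk i hi).trans (by simp [K])
      · exact (hl' i hi).trans (by simp [K]))
  have hnorm : (Cfsg.classInner β β).re = (n : ℝ) + m := by
    rw [hβ, hS.isometry.2.2.1 _ hmem _ hmem, CfsgLib.Char.classInner_sub_left,
      CfsgLib.Char.classInner_sub_right, CfsgLib.Char.classInner_sub_right, hn, hm, o1, o2]
    simp
  simp only [hnorm, Finset.sum_disjSum, K, F, Sum.elim_inl, Sum.elim_inr, id, div_one, neg_sq]
    at hb1 hb2
  have hle : ∑ a ∈ R χ, k a ^ 2 + ∑ b ∈ R ψ, l b ^ 2 ≤ (n : ℤ) + m := by exact_mod_cast hb1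
  obtain ⟨U, hUR, hUc, hU⟩ := hkT (by omega)
  obtain ⟨V, hVR, -, hV⟩ := hlT (by omega)
  refine ⟨U, V, hUR, hVR, hUc, ?_⟩
  have heq : (n : ℝ) + m ≤ ∑ a ∈ R χ, (k a : ℝ) ^ 2 + ∑ b ∈ R ψ, (l b : ℝ) ^ 2 := by
    have : (n : ℤ) + m ≤ ∑ a ∈ R χ, k a ^ 2 + ∑ b ∈ R ψ, l b ^ 2 := by omega
    exact_mod_cast this
  have hkk : ∀ a ∈ R χ, ((k a : ℝ) : ℂ) • a = if a ∈ U then a else 0 := by
    intro a ha
    have := hU a ha
    rw [hk a ha] at this
    by_cases haU : a ∈ U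
    · rw [if_pos haU] at this ⊢
      rw [show (k a : ℝ) = 1 by exact_mod_cast this]; simp
    · rw [if_neg haU] at this ⊢
      rw [show (k a : ℝ) = 0 by exact_mod_cast this]; simp
  have hll : ∀ b ∈ R ψ, (((-(l b : ℝ)) : ℝ) : ℂ) • b = -(if b ∈ V then b else 0) := by
    intro b hb
    have := hV b hb
    rw [hl b hb] at this
    by_cases hbV : b ∈ V
    · rw [if_pos hbV] at this ⊢
      rw [show (l b : ℝ) = 1 by exact_mod_cast this]; simp
    · rw [if_neg hbV] at this ⊢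
      rw [show (l b : ℝ) = 0 by exact_mod_cast this]; simp
  rw [hb2 heq, Finset.sum_congr rfl hkk, Finset.sum_congr rfl hll, Finset.sum_neg_distrib,
    ← Finset.sum_filter, ← Finset.sum_filter, Finset.filter_mem_eq_inter,
    Finset.filter_mem_eq_inter, Finset.inter_eq_right.2 hUR, Finset.inter_eq_right.2 hVR,
    ← sub_eq_add_neg]

theorem coherent_of_constant (hdeg : ∀ φ ∈ T, ∀ ψ ∈ T, φ 1 = ψ 1) :
    Cfsg.IsCoherent T {1}ᶜ τ := by
  classical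
  obtain ⟨χ, hχ⟩ := hS.nonempty
  obtain ⟨n, hn0, hn⟩ := exists_norm hS hχ
  have hmem : ∀ θ ∈ T, χ - θ ∈ Cfsg.zspanOn T {1}ᶜ := fun θ hθ =>
    mem_zspanOn_iff.2 ⟨Submodule.sub_mem _ (mem_zspan_self hχ) (mem_zspan_self hθ), by
      simp [hdeg χ hχ θ hθ]⟩
  obtain ⟨U, hUR, hUc, hUX⟩ : ∃ U : Finset (G → ℂ), U ⊆ R χ ∧ U.card = n ∧
      ∀ θ ∈ T, θ ≠ χ → Cfsg.classInner (τ (χ - θ)) (∑ a ∈ U, a) = n := by
    by_cases hex : ∃ ψ ∈ T, ψ ≠ χ ∧ ψ ≠ Cfsg.conjFun χ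
    · obtain ⟨ψ, hψ, h1, h2⟩ := hex
      obtain ⟨U, V, hU, hV, hUc, he⟩ := decomp hS hχ hψ h1 h2 (hdeg χ hχ ψ hψ) hn
      refine ⟨U, hU, hUc, fun θ hθ hθχ => ?_⟩
      have hUU : Cfsg.classInner (∑ a ∈ U, a) (∑ a ∈ U, a) = n := by
        rw [inner_sum_subset (hS.orthonormal χ hχ) hU hU, Finset.inter_self, hUc]
      have hβX : Cfsg.classInner (τ (χ - ψ)) (∑ a ∈ U, a) = n := by
        rw [he, CfsgLib.Char.classInner_sub_left, hUU,
          inner_sums_of_ne hS hχ hψ h1 h2 hV hU, sub_zero]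
      by_cases hθc : θ = Cfsg.conjFun χ
      · subst hθc
        rw [hS.sum_eq χ hχ, inner_sum_subset (hS.orthonormal χ hχ) (subset_refl _) hU,
          Finset.inter_eq_right.2 hU, hUc]
      by_cases hθψ : θ = ψ
      · rw [hθψ]; exact hβX
      by_cases hθψc : θ = Cfsg.conjFun ψ
      · have : χ - θ = (χ - ψ) + (ψ - Cfsg.conjFun ψ) := by rw [hθψc]; abel
        rw [this, hS.isometry.1 _ (hmem ψ hψ) _ (sub_conj_mem hS hψ), hS.sum_eq ψ hψ,
          CfsgLib.Char.classInner_add_left, hβX,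
          inner_sums_of_ne hS hχ hψ h1 h2 (subset_refl _) hU, add_zero]
      obtain ⟨U', V', hU', hV', -, he'⟩ := decomp hS hχ hθ hθχ hθc (hdeg χ hχ θ hθ) hn
      have e : Cfsg.classInner (τ (χ - θ)) (τ (χ - ψ)) = n := by
        rw [hS.isometry.2.2.1 _ (hmem θ hθ) _ (hmem ψ hψ), CfsgLib.Char.classInner_sub_left,
          CfsgLib.Char.classInner_sub_right, CfsgLib.Char.classInner_sub_right, hn,
          hS.orthogonal χ hχ ψ hψ (Ne.symm h1), hS.orthogonal θ hθ χ hχ hθχ,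
          hS.orthogonal θ hθ ψ hψ hθψ]
        simp
      have e2 : Cfsg.classInner (τ (χ - θ)) (∑ b ∈ V, b) = 0 := by
        rw [he', CfsgLib.Char.classInner_sub_left, inner_sums_of_ne hS hψ hχ (Ne.symm h1)
          (fun e => h2 (by rw [e, conjFun_conjFun])) hU' hV,
          inner_sums_of_ne hS hψ hθ hθψ hθψc hV' hV, sub_zero]
      have : (∑ a ∈ U, a) = τ (χ - ψ) + ∑ b ∈ V, b := by rw [he]; abel
      rw [this, CfsgLib.Char.classInner_add_right, e, e2, add_zero]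
    · obtain ⟨U, hU, hUc⟩ := Finset.exists_subset_card_eq (s := R χ) (n := n)
        (by rw [card_R hS hχ hn]; omega)
      refine ⟨U, hU, hUc, fun θ hθ hθχ => ?_⟩
      have hθc : θ = Cfsg.conjFun χ := by
        by_contra h
        exact hex ⟨θ, hθ, hθχ, h⟩
      subst hθc
      rw [hS.sum_eq χ hχ, inner_sum_subset (hS.orthonormal χ hχ) (subset_refl _) hU,
        Finset.inter_eq_right.2 hU, hUc]
  set X := ∑ a ∈ U, a with hX
  have hXX : Cfsg.classInner X X = n := by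
    rw [hX, inner_sum_subset (hS.orthonormal χ hχ) hUR hUR, Finset.inter_self, hUc]
  have hXgen := virtual_sum hS hχ hUR
  have hfin := finite hS
  set S := hfin.toFinset with hSdef
  have hST : (↑S : Set (L → ℂ)) = T := hfin.coe_toFinset
  have hmemS : ∀ {θ}, θ ∈ S ↔ θ ∈ T := fun {θ} => hfin.mem_toFinset
  have hτX : ∀ θ ∈ T, Cfsg.classInner (τ (χ - θ)) X = if θ = χ then 0 else (n : ℂ) := by
    intro θ hθ
    split_ifs with h
    · rw [h, sub_self, isometry_map_zero hS.isometry, CfsgLib.Char.classInner_zero_left]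
    · exact hUX θ hθ h
  rw [← hST]
  refine isCoherent_of_images (f := fun θ => X - τ (χ - θ))
    (fun a ha b hb => hS.orthogonal a (hmemS.1 ha) b (hmemS.1 hb))
    (fun a ha => inner_self_ne_zero hS (hmemS.1 ha))
    (fun θ hθ => CfsgLib.Char.IsGeneralizedCharacter.sub hXgen
      (hS.isometry.2.2.2 _ (hmem θ (hmemS.1 hθ)))) ?_ ?_ ?_
  · intro a ha b hb
    rw [hmemS] at ha hb
    have hχθ : ∀ θ ∈ T, Cfsg.classInner χ θ = if θ = χ then (n : ℂ) else 0 := by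
      intro θ hθ
      split_ifs with h
      · rw [h, hn]
      · exact hS.orthogonal χ hχ θ hθ (Ne.symm h)
    have hθχ : ∀ θ ∈ T, Cfsg.classInner θ χ = if θ = χ then (n : ℂ) else 0 := by
      intro θ hθ
      split_ifs with h
      · rw [h, hn]
      · exact hS.orthogonal θ hθ χ hχ h
    rw [CfsgLib.Char.classInner_sub_left, CfsgLib.Char.classInner_sub_right,
      CfsgLib.Char.classInner_sub_right, hXX, hτX a ha,
      classInner_comm_gen hXgen (hS.isometry.2.2.2 _ (hmem b hb)), hτX b hb,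
      hS.isometry.2.2.1 _ (hmem a ha) _ (hmem b hb), CfsgLib.Char.classInner_sub_left,
      CfsgLib.Char.classInner_sub_right, CfsgLib.Char.classInner_sub_right, hn, hχθ b hb, hθχ a ha]
    split_ifs <;> ring
  · refine ⟨χ - Cfsg.conjFun χ, by rw [hST]; exact sub_conj_mem hS hχ, fun h => ?_⟩
    exact hS.conj_ne χ hχ (sub_eq_zero.1 h).symm
  · intro α hα
    obtain ⟨c, hc⟩ := mem_zspan_finset hα.1
    have hc0 : ∑ φ ∈ S, c φ = 0 := by
      have h := (mem_zspanOn_iff.1 hα).2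
      rw [hc, sum_smul_apply_one,
        Finset.sum_congr rfl (fun φ hφ => by rw [hdeg φ (hmemS.1 hφ) χ hχ]), ← Finset.sum_mul] at h
      have := (mul_eq_zero.1 h).resolve_right (apply_one_ne_zero hS hχ)
      exact_mod_cast this
    have hα' : α = ∑ φ ∈ S, (-c φ) • (χ - φ) := by
      have : ∑ φ ∈ S, (-c φ) • (χ - φ) = -((∑ φ ∈ S, c φ) • χ) + ∑ φ ∈ S, c φ • φ := by
        rw [Finset.sum_smul, ← Finset.sum_neg_distrib, ← Finset.sum_add_distrib]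
        refine Finset.sum_congr rfl fun φ _ => ?_
        rw [smul_sub, neg_smul, neg_smul, sub_neg_eq_add]
      rw [this, hc0, zero_smul, neg_zero, zero_add, hc]
    have e1 : ext S (fun θ => X - τ (χ - θ)) α = ∑ φ ∈ S, c φ • (X - τ (χ - φ)) := by
      rw [hc, show ext S (fun θ => X - τ (χ - θ)) (∑ φ ∈ S, c φ • φ) =
        ∑ φ ∈ S, ext S (fun θ => X - τ (χ - θ)) (c φ • φ) from
        map_sum (AddMonoidHom.mk' (ext S _) ext_add) _ S]
      refine Finset.sum_congr rfl fun φ hφ => ?_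
      rw [ext_zsmul, ext_self (fun a ha b hb => hS.orthogonal a (hmemS.1 ha) b (hmemS.1 hb))
        (fun a ha => inner_self_ne_zero hS (hmemS.1 ha)) hφ]
    rw [e1, hα', isometry_sum hS.isometry S _
      (fun φ hφ => zspanOn_zsmul (hmem φ (hmemS.1 hφ)) _)]
    have : ∑ φ ∈ S, c φ • (X - τ (χ - φ)) =
        (∑ φ ∈ S, c φ) • X + ∑ φ ∈ S, (-c φ) • τ (χ - φ) := by
      rw [Finset.sum_smul, ← Finset.sum_add_distrib]
      refine Finset.sum_congr rfl fun φ _ => ?_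
      rw [smul_sub, neg_smul, sub_eq_add_neg]
    rw [this, hc0, zero_smul, zero_add]
    exact Finset.sum_congr rfl fun φ hφ => (hS.isometry.2.1 _ (hmem φ (hmemS.1 hφ)) _).symm

/-! ### Extension by a conjugate pair -/

open Classical in
theorem extension_criterion (d n : (L → ℂ) → ℕ) (hd : ∀ φ ∈ T, φ 1 = (d φ : ℂ))
    (hn : ∀ φ ∈ T, Cfsg.classInner φ φ = (n φ : ℂ)) (S₁ : Finset (L → ℂ)) (hS₁ : ↑S₁ ⊆ T)
    (hS₁c : ∀ φ ∈ S₁, Cfsg.conjFun φ ∈ S₁) (hcoh : Cfsg.IsCoherent (↑S₁ : Set (L → ℂ)) {1}ᶜ τ)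
    {χ : L → ℂ} (hχ : χ ∈ T) (hχ₁ : χ ∉ S₁) (hχ₂ : Cfsg.conjFun χ ∉ S₁) {χ₁ : L → ℂ}
    (hχ₁S : χ₁ ∈ S₁) (hdvd : d χ₁ ∣ d χ)
    (hineq : (2 * d χ * d χ₁ : ℝ) < ∑ φ ∈ S₁, ((d φ : ℝ) ^ 2 / (n φ : ℝ))) :
    Cfsg.IsCoherent (↑S₁ ∪ {χ, Cfsg.conjFun χ} : Set (L → ℂ)) {1}ᶜ τ := by
  obtain ⟨⟨α₀, hα₀, hα₀ne⟩, τ₁, hτ₁, hagree⟩ := hcoh
  have hmemT : ∀ {φ}, φ ∈ S₁ → φ ∈ T := fun h => hS₁ h
  have hpos : ∀ φ ∈ T, 0 < n φ := fun φ hφ => Nat.pos_of_ne_zero fun h =>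
    inner_self_ne_zero hS hφ (by rw [hn φ hφ, h, Nat.cast_zero])
  have hdpos : ∀ φ ∈ T, 0 < d φ := fun φ hφ => Nat.pos_of_ne_zero fun h =>
    apply_one_ne_zero hS hφ (by rw [hd φ hφ, h, Nat.cast_zero])
  obtain ⟨a, ha⟩ := hdvd
  have hχc := hS.conj_mem χ hχ
  have hχ₁T := hmemT hχ₁S
  have hneq : ∀ φ ∈ S₁, φ ≠ χ ∧ φ ≠ Cfsg.conjFun χ := fun φ hφ =>
    ⟨fun e => hχ₁ (e ▸ hφ), fun e => hχ₂ (e ▸ hφ)⟩
  have hmX : χ - (a : ℤ) • χ₁ ∈ Cfsg.zspanOn T {1}ᶜ :=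
    mem_zspanOn_iff.2 ⟨Submodule.sub_mem _ (mem_zspan_self hχ)
      (Submodule.smul_mem _ _ (mem_zspan_self hχ₁T)), by simp [hd χ hχ, hd χ₁ hχ₁T, ha]; ring⟩
  set β := τ (χ - (a : ℤ) • χ₁) with hβ
  have hgen : Cfsg.IsGeneralizedCharacter G β := hS.isometry.2.2.2 _ hmX
  have hsum : Cfsg.classInner β (∑ x ∈ R χ, x) = (n χ : ℂ) := by
    rw [← hS.sum_eq χ hχ, hβ, hS.isometry.2.2.1 _ hmX _ (sub_conj_mem hS hχ),
      CfsgLib.Char.classInner_sub_left, CfsgLib.Char.classInner_sub_right,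
      CfsgLib.Char.classInner_sub_right, classInner_zsmul_left, classInner_zsmul_left, hn χ hχ,
      hS.orthogonal χ hχ _ hχc (hS.conj_ne χ hχ).symm,
      hS.orthogonal χ₁ hχ₁T χ hχ (hneq χ₁ hχ₁S).1,
      hS.orthogonal χ₁ hχ₁T _ hχc (hneq χ₁ hχ₁S).2]
    simp
  obtain ⟨k, hk, hkge, hkT⟩ := exists_part hgen (R χ) (hS.orthonormal χ hχ) (hS.virtual χ hχ) hsum
  have hτ₁gen : ∀ φ ∈ S₁, Cfsg.IsGeneralizedCharacter G (τ₁ φ) := fun φ hφ =>
    hτ₁.2.2.2 φ (mem_zspan_self hφ)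
  choose! c hc using fun φ (hφ : φ ∈ S₁) => exists_int_inner hgen (hτ₁gen φ hφ)
  set b : ℤ := c χ₁ + a * n χ₁ with hb
  have hrel : ∀ φ ∈ S₁, (d χ₁ : ℤ) * c φ = d φ * b -
      (if φ = χ₁ then (a : ℤ) * n χ₁ * d χ₁ else 0) := by
    intro φ hφ
    set γ := (d χ₁ : ℤ) • φ - (d φ : ℤ) • χ₁ with hγ
    have m1 : (d χ₁ : ℤ) • φ ∈ Cfsg.zspan (↑S₁ : Set (L → ℂ)) :=
      Submodule.smul_mem _ _ (mem_zspan_self hφ)
    have m2 : (d φ : ℤ) • χ₁ ∈ Cfsg.zspan (↑S₁ : Set (L → ℂ)) :=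
      Submodule.smul_mem _ _ (mem_zspan_self hχ₁S)
    have hγ₁ : γ ∈ Cfsg.zspanOn (↑S₁ : Set (L → ℂ)) {1}ᶜ :=
      mem_zspanOn_iff.2 ⟨Submodule.sub_mem _ m1 m2, by
        simp [γ, hd φ (hmemT hφ), hd χ₁ hχ₁T]; ring⟩
    have e1 : Cfsg.classInner β (τ γ) = Cfsg.classInner (χ - (a : ℤ) • χ₁) γ :=
      hS.isometry.2.2.1 _ hmX _ (zspanOn_mono hS₁ hγ₁)
    rw [← hagree γ hγ₁, hγ, zspan_isometry_sub hτ₁ m1 m2, hτ₁.2.1 _ (mem_zspan_self hφ),
      hτ₁.2.1 _ (mem_zspan_self hχ₁S)] at e1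
    simp only [CfsgLib.Char.classInner_sub_right, classInner_zsmul_right,
      CfsgLib.Char.classInner_sub_left, classInner_zsmul_left, hc φ hφ, hc χ₁ hχ₁S,
      hS.orthogonal χ hχ φ (hmemT hφ) (hneq φ hφ).1.symm,
      hS.orthogonal χ hχ χ₁ hχ₁T (hneq χ₁ hχ₁S).1.symm, hn χ₁ hχ₁T] at e1
    by_cases hφ1 : φ = χ₁
    · subst hφ1
      rw [if_pos rfl, hb]; ring
    · rw [hS.orthogonal χ₁ hχ₁T φ (hmemT hφ) (Ne.symm hφ1)] at e1
      rw [if_neg hφ1, hb, sub_zero]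
      have e2 : (((d χ₁ : ℤ) * c φ : ℤ) : ℂ) = (((d φ : ℤ) * (c χ₁ + a * n χ₁) : ℤ) : ℂ) := by
        push_cast at e1 ⊢
        linear_combination e1
      exact_mod_cast e2
  let F : (L → ℂ) ⊕ (G → ℂ) → G → ℂ := Sum.elim τ₁ id
  let N : (L → ℂ) ⊕ (G → ℂ) → ℝ := Sum.elim (fun φ => (n φ : ℝ)) (fun _ => 1)
  let K : (L → ℂ) ⊕ (G → ℂ) → ℝ := Sum.elim (fun φ => (c φ : ℝ)) (fun x => (k x : ℝ))
  have hperp : ∀ φ ∈ S₁, ∀ x ∈ R χ, Cfsg.classInner (τ₁ φ) x = 0 := by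
    intro φ hφ x hx
    obtain ⟨U, hU, e⟩ := image_of_coherent hS hS₁ hτ₁ hagree hφ (hS₁c φ hφ)
    rw [e, CfsgLib.Char.classInner_sum_left]
    exact Finset.sum_eq_zero fun y hy =>
      R_orth hS hχ (hmemT hφ) (hneq φ hφ).1 (hneq φ hφ).2 (hU hy) hx
  obtain ⟨hb1, hb2⟩ := bessel (S₁.disjSum (R χ)) F β
    (by
      rintro (i | i) hi (j | j) hj hij <;>
        simp only [Finset.inl_mem_disjSum, Finset.inr_mem_disjSum] at hi hj
      · exact (hτ₁.2.2.1 _ (mem_zspan_self hi) _ (mem_zspan_self hj)).trans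
          (hS.orthogonal i (hmemT hi) j (hmemT hj) fun e => hij (congrArg _ e))
      · exact hperp i hi j hj
      · show Cfsg.classInner i (τ₁ j) = 0
        rw [← CfsgLib.Char.classInner_conj_symm, hperp j hj i hi, map_zero]
      · exact (hS.orthonormal χ hχ i hi j hj).trans (if_neg fun e => hij (congrArg _ e)))
    N K
    (by
      rintro (i | i) hi <;> simp only [Finset.inl_mem_disjSum, Finset.inr_mem_disjSum] at hi
      · exact (hτ₁.2.2.1 _ (mem_zspan_self hi) _ (mem_zspan_self hi)).trans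
          ((hn i (hmemT hi)).trans (by simp [N]))
      · exact (hS.orthonormal χ hχ i hi i hi).trans (by simp [N]))
    (by
      rintro (i | i) hi <;> simp only [Finset.inl_mem_disjSum, Finset.inr_mem_disjSum] at hi
      · exact Nat.cast_pos.2 (hpos i (hmemT hi))
      · exact one_pos)
    (by
      rintro (i | i) hi <;> simp only [Finset.inl_mem_disjSum, Finset.inr_mem_disjSum] at hi
      · exact (hc i hi).trans (by simp [K])
      · exact (hk i hi).trans (by simp [K]))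
  have hnorm : (Cfsg.classInner β β).re = (n χ : ℝ) + (a : ℝ) ^ 2 * n χ₁ := by
    rw [hβ, hS.isometry.2.2.1 _ hmX _ hmX, CfsgLib.Char.classInner_sub_left,
      CfsgLib.Char.classInner_sub_right, CfsgLib.Char.classInner_sub_right, classInner_zsmul_left,
      classInner_zsmul_left, classInner_zsmul_right, classInner_zsmul_right, hn χ hχ, hn χ₁ hχ₁T,
      hS.orthogonal χ hχ χ₁ hχ₁T (hneq χ₁ hχ₁S).1.symm,
      hS.orthogonal χ₁ hχ₁T χ hχ (hneq χ₁ hχ₁S).1]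
    simp
    ring
  simp only [hnorm, Finset.sum_disjSum, N, K, F, Sum.elim_inl, Sum.elim_inr, id, div_one] at hb1 hb2
  -- the coefficients along `S₁`
  have hd1 : (0 : ℝ) < d χ₁ := Nat.cast_pos.2 (hdpos χ₁ hχ₁T)
  have hn1 : (0 : ℝ) < n χ₁ := Nat.cast_pos.2 (hpos χ₁ hχ₁T)
  set M := ∑ φ ∈ S₁, ((d φ : ℝ) ^ 2 / (n φ : ℝ)) with hM
  have hcsum : ∑ φ ∈ S₁, (c φ : ℝ) ^ 2 / n φ =
      (b : ℝ) ^ 2 * M / d χ₁ ^ 2 - 2 * a * b + (a : ℝ) ^ 2 * n χ₁ := by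
    have hcr : ∀ φ ∈ S₁, (c φ : ℝ) =
        (d φ : ℝ) * b / d χ₁ - (if φ = χ₁ then (a : ℝ) * n χ₁ else 0) := by
      intro φ hφ
      have := congrArg (fun z : ℤ => (z : ℝ)) (hrel φ hφ)
      simp only [Int.cast_mul, Int.cast_sub, Int.cast_natCast, Int.cast_ite, Int.cast_zero] at this
      split_ifs at this ⊢ <;> field_simp <;> linarith
    have hsq : ∀ φ ∈ S₁, (c φ : ℝ) ^ 2 / n φ = (b : ℝ) ^ 2 / d χ₁ ^ 2 * ((d φ : ℝ) ^ 2 / n φ) +
        (if φ = χ₁ then -2 * a * b + (a : ℝ) ^ 2 * n χ₁ else 0) := by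
      intro φ hφ
      rw [hcr φ hφ]
      split_ifs with h
      · subst h; field_simp; ring
      · field_simp; ring
    rw [Finset.sum_congr rfl hsq, Finset.sum_add_distrib, ← Finset.mul_sum, Finset.sum_ite_eq',
      if_pos hχ₁S]
    ring
  rw [hcsum] at hb1 hb2
  have hk' : (n χ : ℝ) ≤ ∑ x ∈ R χ, (k x : ℝ) ^ 2 := by exact_mod_cast hkge
  have hb0 : b = 0 := by
    by_contra hb0
    have hMpos : 0 < M := lt_of_le_of_lt (by positivity) hineq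
    have h1 : (b : ℝ) ^ 2 * M ≤ 2 * a * b * d χ₁ ^ 2 := by
      have : (b : ℝ) ^ 2 * M / d χ₁ ^ 2 ≤ 2 * a * b := by linarith
      rwa [div_le_iff₀ (by positivity)] at this
    have haeq : (d χ : ℝ) = d χ₁ * a := by exact_mod_cast ha
    rcases lt_or_gt_of_ne hb0 with hneg | hposb
    · have hbR : (b : ℝ) < 0 := by exact_mod_cast hneg
      have : 0 < (b : ℝ) ^ 2 * M := mul_pos (sq_pos_of_neg hbR) hMpos
      have : 2 * (a : ℝ) * b * d χ₁ ^ 2 ≤ 0 := by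
        have : (0 : ℝ) ≤ 2 * a * d χ₁ ^ 2 := by positivity
        nlinarith
      linarith
    · have hbR : (1 : ℝ) ≤ b := by exact_mod_cast hposb
      have h2 : (b : ℝ) * M ≤ 2 * a * d χ₁ ^ 2 :=
        le_of_mul_le_mul_left (by linarith) (show (0 : ℝ) < b by linarith)
      have : M ≤ (b : ℝ) * M := le_mul_of_one_le_left hMpos.le hbR
      nlinarith
  rw [hb0] at hb1 hb2
  simp only [Int.cast_zero] at hb1 hb2
  have hkle : ∑ x ∈ R χ, k x ^ 2 ≤ (n χ : ℤ) := by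
    have : ((∑ x ∈ R χ, k x ^ 2 : ℤ) : ℝ) ≤ (((n χ : ℕ) : ℤ) : ℝ) := by
      push_cast
      norm_num at hb1
      linarith
    exact_mod_cast this
  obtain ⟨U, hUR, hUc, hU⟩ := hkT hkle
  set X := ∑ x ∈ U, x with hX
  have hβeq : β = X - (a : ℤ) • τ₁ χ₁ := by
    have h := hb2 (by norm_num; linarith)
    have e1 : ∀ φ ∈ S₁, (((c φ : ℝ) / (n φ : ℝ) : ℝ) : ℂ) • τ₁ φ =
        if φ = χ₁ then -((a : ℤ) • τ₁ χ₁) else 0 := by
      intro φ hφ
      have hcφ := hrel φ hφ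
      rw [hb0, mul_zero, zero_sub] at hcφ
      by_cases h' : φ = χ₁
      · subst h'
        rw [if_pos rfl] at hcφ ⊢
        have : c φ = -((a : ℤ) * n φ) := by
          apply mul_left_cancel₀ (show (d φ : ℤ) ≠ 0 by exact_mod_cast (hdpos φ hχ₁T).ne')
          linarith
        rw [this, show ((((-((a : ℤ) * (n φ : ℤ))) : ℤ) : ℝ) / (n φ : ℝ)) = -(a : ℝ) by
          push_cast; field_simp]
        funext g; simp
      · rw [if_neg h'] at hcφ ⊢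
        have : c φ = 0 := by
          rw [neg_zero] at hcφ
          exact (mul_eq_zero.1 hcφ).resolve_left (by exact_mod_cast (hdpos χ₁ hχ₁T).ne')
        simp [this]
    have e2 : ∀ x ∈ R χ, ((k x : ℝ) : ℂ) • x = if x ∈ U then x else 0 := by
      intro x hx
      have := hU x hx
      rw [hk x hx] at this
      by_cases hxU : x ∈ U
      · rw [if_pos hxU] at this ⊢
        rw [show (k x : ℝ) = 1 by exact_mod_cast this]; simp
      · rw [if_neg hxU] at this ⊢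
        rw [show (k x : ℝ) = 0 by exact_mod_cast this]; simp
    rw [h, Finset.sum_congr rfl e1, Finset.sum_congr rfl e2, Finset.sum_ite_eq', if_pos hχ₁S,
      ← Finset.sum_filter, Finset.filter_mem_eq_inter, Finset.inter_eq_right.2 hUR, ← hX]
    abel
  set S := insert χ (insert (Cfsg.conjFun χ) S₁) with hSdef
  have hSset : (↑S : Set (L → ℂ)) = ↑S₁ ∪ {χ, Cfsg.conjFun χ} := by
    ext x; simp [S]
  have hST : ∀ x ∈ S, x ∈ T := by
    intro x hx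
    simp only [S, Finset.mem_insert] at hx
    rcases hx with rfl | rfl | h
    exacts [hχ, hχc, hmemT h]
  set f : (L → ℂ) → (G → ℂ) := fun φ =>
    if φ = χ then X else if φ = Cfsg.conjFun χ then X - ∑ x ∈ R χ, x else τ₁ φ with hf
  have hf1 : f χ = X := by simp [f]
  have hf2 : f (Cfsg.conjFun χ) = X - ∑ x ∈ R χ, x := by simp [f, hS.conj_ne χ hχ]
  have hf3 : ∀ φ ∈ S₁, f φ = τ₁ φ := fun φ hφ => by simp [f, (hneq φ hφ).1, (hneq φ hφ).2]
  have horthS : ∀ x ∈ S, ∀ y ∈ S, x ≠ y → Cfsg.classInner x y = 0 := fun x hx y hy =>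
    hS.orthogonal x (hST x hx) y (hST y hy)
  have hneS : ∀ x ∈ S, Cfsg.classInner x x ≠ 0 := fun x hx => inner_self_ne_zero hS (hST x hx)
  have hXX : Cfsg.classInner X X = (n χ : ℂ) := by
    rw [hX, inner_sum_subset (hS.orthonormal χ hχ) hUR hUR, Finset.inter_self, hUc]
  have hXR : Cfsg.classInner X (∑ x ∈ R χ, x) = (n χ : ℂ) := by
    rw [hX, inner_sum_subset (hS.orthonormal χ hχ) hUR (subset_refl _),
      Finset.inter_eq_left.2 hUR, hUc]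
  have hRX : Cfsg.classInner (∑ x ∈ R χ, x) X = (n χ : ℂ) := by
    rw [← CfsgLib.Char.classInner_conj_symm, hXR, map_natCast]
  have hRR : Cfsg.classInner (∑ x ∈ R χ, x) (∑ x ∈ R χ, x) = 2 * (n χ : ℂ) := by
    rw [inner_sum_subset (hS.orthonormal χ hχ) (subset_refl _) (subset_refl _), Finset.inter_self,
      card_R hS hχ (hn χ hχ)]
    push_cast; ring
  have hperpS : ∀ φ ∈ S₁, ∀ V, V ⊆ R χ → Cfsg.classInner (τ₁ φ) (∑ x ∈ V, x) = 0 :=
    fun φ hφ V hV => by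
      rw [CfsgLib.Char.classInner_sum_right]
      exact Finset.sum_eq_zero fun x hx => hperp φ hφ x (hV hx)
  rw [← hSset]
  refine isCoherent_of_images (f := f) horthS hneS ?_ ?_ ?_ ?_
  · intro x hx
    simp only [S, Finset.mem_insert] at hx
    rcases hx with rfl | rfl | h
    · rw [hf1]; exact virtual_sum hS hχ hUR
    · rw [hf2]
      exact CfsgLib.Char.IsGeneralizedCharacter.sub (virtual_sum hS hχ hUR)
        (virtual_sum hS hχ (subset_refl _))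
    · rw [hf3 x h]; exact hτ₁gen x h
  · have key : ∀ φ ∈ S₁, Cfsg.classInner (τ₁ φ) X = 0 ∧
        Cfsg.classInner (τ₁ φ) (X - ∑ x ∈ R χ, x) = 0 ∧
        Cfsg.classInner X (τ₁ φ) = 0 ∧
        Cfsg.classInner (X - ∑ x ∈ R χ, x) (τ₁ φ) = 0 := by
      intro φ hφ
      have h1 := hperpS φ hφ U hUR
      have h2 : Cfsg.classInner (τ₁ φ) (X - ∑ x ∈ R χ, x) = 0 := by
        rw [CfsgLib.Char.classInner_sub_right, hX, h1, hperpS φ hφ _ (subset_refl _), sub_zero]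
      exact ⟨h1, h2, by rw [← CfsgLib.Char.classInner_conj_symm, h1, map_zero],
        by rw [← CfsgLib.Char.classInner_conj_symm, h2, map_zero]⟩
    intro x hx y hy
    simp only [S, Finset.mem_insert] at hx hy
    rcases hx with rfl | rfl | hxS <;> rcases hy with rfl | rfl | hyS
    · rw [hf1, hXX, hn _ hχ]
    · rw [hf1, hf2, CfsgLib.Char.classInner_sub_right, hXX, hXR,
        hS.orthogonal _ hχ _ hχc (hS.conj_ne _ hχ).symm, sub_self]
    · rw [hf1, hf3 y hyS, (key y hyS).2.2.1, hS.orthogonal _ hχ y (hmemT hyS) (hneq y hyS).1.symm]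
    · rw [hf1, hf2, CfsgLib.Char.classInner_sub_left, hXX, hRX,
        hS.orthogonal _ hχc _ hχ (hS.conj_ne _ hχ), sub_self]
    · rw [hf2, CfsgLib.Char.classInner_sub_left, CfsgLib.Char.classInner_sub_right,
        CfsgLib.Char.classInner_sub_right, hXX, hXR, hRX, hRR, norm_conj hS, hn _ hχ]
      ring
    · rw [hf2, hf3 y hyS, (key y hyS).2.2.2, hS.orthogonal _ hχc y (hmemT hyS) (hneq y hyS).2.symm]
    · rw [hf1, hf3 x hxS, (key x hxS).1, hS.orthogonal x (hmemT hxS) _ hχ (hneq x hxS).1]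
    · rw [hf2, hf3 x hxS, (key x hxS).2.1, hS.orthogonal x (hmemT hxS) _ hχc (hneq x hxS).2]
    · rw [hf3 x hxS, hf3 y hyS, hτ₁.2.2.1 _ (mem_zspan_self hxS) _ (mem_zspan_self hyS)]
  · exact ⟨α₀, zspanOn_mono (by rw [hSset]; exact Set.subset_union_left) hα₀, hα₀ne⟩
  · intro α hα
    obtain ⟨e, he⟩ := mem_zspan_finset hα.1
    have hnot : χ ∉ insert (Cfsg.conjFun χ) S₁ := by simp [hχ₁, (hS.conj_ne χ hχ).symm]
    rw [hSdef, Finset.sum_insert hnot, Finset.sum_insert hχ₂] at he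
    set v := e (Cfsg.conjFun χ)
    set u := e χ
    set γ := α + v • (χ - Cfsg.conjFun χ) - (u + v) • (χ - (a : ℤ) • χ₁) with hγdef
    have hγ : γ = ∑ φ ∈ S₁, e φ • φ + ((u + v) * a) • χ₁ := by
      rw [hγdef, he]
      module
    have hγspan : γ ∈ Cfsg.zspan (↑S₁ : Set (L → ℂ)) := by
      rw [hγ]
      exact Submodule.add_mem _ (Submodule.sum_mem _ fun φ hφ =>
        Submodule.smul_mem _ _ (mem_zspan_self hφ)) (Submodule.smul_mem _ _ (mem_zspan_self hχ₁S))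
    have hαT : α ∈ Cfsg.zspanOn T {1}ᶜ := zspanOn_mono (fun x hx => hST x hx) hα
    have hγT : γ ∈ Cfsg.zspanOn T {1}ᶜ :=
      zspanOn_sub (zspanOn_add hαT (zspanOn_zsmul (sub_conj_mem hS hχ) v)) (zspanOn_zsmul hmX _)
    have hγ1 : γ ∈ Cfsg.zspanOn (↑S₁ : Set (L → ℂ)) {1}ᶜ := ⟨hγspan, hγT.2⟩
    have hαeq : α = γ - v • (χ - Cfsg.conjFun χ) + (u + v) • (χ - (a : ℤ) • χ₁) := by
      rw [hγdef]; abel
    have hextγ : ext S f γ = τ γ := by
      rw [ext_eq_of_mem_zspan horthS hneS (by rw [hSset]; exact Set.subset_union_left) hτ₁ hf3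
        hγspan, hagree γ hγ1]
    have hmS : χ ∈ S ∧ Cfsg.conjFun χ ∈ S ∧ χ₁ ∈ S := by simp [S, hχ₁S]
    conv_lhs => rw [hαeq]
    conv_rhs => rw [hαeq]
    rw [hS.isometry.1 _ (zspanOn_sub hγT (zspanOn_zsmul (sub_conj_mem hS hχ) v)) _
        (zspanOn_zsmul hmX _), isometry_sub hS.isometry hγT (zspanOn_zsmul (sub_conj_mem hS hχ) v),
      hS.isometry.2.1 _ (sub_conj_mem hS hχ), hS.isometry.2.1 _ hmX, ext_add, ext_sub, hextγ,
      ext_zsmul, ext_zsmul, ext_sub, ext_sub, ext_zsmul, ext_self horthS hneS hmS.1,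
      ext_self horthS hneS hmS.2.1, ext_self horthS hneS hmS.2.2, hf1, hf2, hf3 χ₁ hχ₁S,
      sub_sub_cancel, hS.sum_eq χ hχ, ← hβ, hβeq]

end System

/-! ### Feit's criterion -/

open Classical in
theorem feit_criterion (S₀ : Finset (L → ℂ)) (χ : L → ℂ)
    (hirr : ∀ ξ ∈ S₀, Cfsg.IsIrrCharacter L ξ) (hχ : Cfsg.IsIrrCharacter L χ) (hχS : χ ∉ S₀)
    (d : (L → ℂ) → ℕ) (hd : ∀ ξ ∈ insert χ S₀, ξ 1 = (d ξ : ℂ))
    (hτ : Cfsg.IsLinearIsometryOn (Cfsg.zspanOn (↑(insert χ S₀) : Set (L → ℂ)) {1}ᶜ) τ)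
    (hτ1 : ∀ α ∈ Cfsg.zspanOn (↑(insert χ S₀) : Set (L → ℂ)) {1}ᶜ, τ α 1 = 0)
    (hcoh : Cfsg.IsCoherent (↑S₀ : Set (L → ℂ)) {1}ᶜ τ) {ψ : L → ℂ} (hψ : ψ ∈ S₀)
    (hdvd : d ψ ∣ d χ) (hlt : 2 * d ψ * d χ < ∑ ξ ∈ S₀, d ξ ^ 2) :
    Cfsg.IsCoherent (↑(insert χ S₀) : Set (L → ℂ)) {1}ᶜ τ := by
  obtain ⟨⟨α₀, hα₀, hα₀ne⟩, τ₁, hτ₁, hagree⟩ := hcoh
  set S := insert χ S₀
  have hirrS : ∀ x ∈ S, Cfsg.IsIrrCharacter L x := by
    intro x hx
    rcases Finset.mem_insert.1 hx with rfl | h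
    exacts [hχ, hirr x h]
  have hsub : (↑S₀ : Set (L → ℂ)) ⊆ ↑S := fun x hx => Finset.mem_insert_of_mem hx
  have hdpos : ∀ x ∈ S, 0 < d x := fun x hx => Nat.pos_of_ne_zero fun h =>
    CfsgLib.Char.IsIrrCharacter.apply_one_ne_zero (hirrS x hx) (by rw [hd x hx, h, Nat.cast_zero])
  obtain ⟨a, ha⟩ := hdvd
  have hψS : ψ ∈ S := Finset.mem_insert_of_mem hψ
  have hχS' : χ ∈ S := Finset.mem_insert_self _ _
  have hapos : 0 < a := Nat.pos_of_ne_zero fun h => by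
    have := hdpos χ hχS'
    rw [ha, h, mul_zero] at this
    exact lt_irrefl _ this
  have horth : ∀ x ∈ S, ∀ y ∈ S, x ≠ y → Cfsg.classInner x y = 0 := fun x hx y hy h =>
    CfsgLib.Char.classInner_irr_of_ne (hirrS x hx) (hirrS y hy) h
  have hself : ∀ x ∈ S, Cfsg.classInner x x = 1 := fun x hx =>
    CfsgLib.Char.classInner_irr_self (hirrS x hx)
  have hmX : χ - (a : ℤ) • ψ ∈ Cfsg.zspanOn (↑S : Set (L → ℂ)) {1}ᶜ :=
    mem_zspanOn_iff.2 ⟨Submodule.sub_mem _ (mem_zspan_self hχS')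
      (Submodule.smul_mem _ _ (mem_zspan_self hψS)), by simp [hd χ hχS', hd ψ hψS, ha]; ring⟩
  set β := τ (χ - (a : ℤ) • ψ) with hβ
  have hgen : Cfsg.IsGeneralizedCharacter G β := hτ.2.2.2 _ hmX
  have hne' : ∀ ξ ∈ S₀, ξ ≠ χ := fun ξ hξ e => hχS (e ▸ hξ)
  choose! c hc using fun φ (hφ : φ ∈ S₀) => exists_int_inner hgen
    (hτ₁.2.2.2 φ (mem_zspan_self hφ))
  set b : ℤ := c ψ + a with hb
  have hγmem : ∀ φ ∈ S₀, (d ψ : ℤ) • φ - (d φ : ℤ) • ψ ∈ Cfsg.zspanOn (↑S₀ : Set (L → ℂ)) {1}ᶜ :=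
    fun φ hφ => mem_zspanOn_iff.2 ⟨Submodule.sub_mem _ (Submodule.smul_mem _ _ (mem_zspan_self hφ))
      (Submodule.smul_mem _ _ (mem_zspan_self hψ)), by
        simp [hd φ (hsub hφ), hd ψ hψS]; ring⟩
  have hγτ : ∀ φ ∈ S₀, τ ((d ψ : ℤ) • φ - (d φ : ℤ) • ψ) =
      (d ψ : ℤ) • τ₁ φ - (d φ : ℤ) • τ₁ ψ := fun φ hφ => by
    rw [← hagree _ (hγmem φ hφ), zspan_isometry_sub hτ₁
      (Submodule.smul_mem _ _ (mem_zspan_self hφ)) (Submodule.smul_mem _ _ (mem_zspan_self hψ)),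
      hτ₁.2.1 _ (mem_zspan_self hφ), hτ₁.2.1 _ (mem_zspan_self hψ)]
  have hrel : ∀ φ ∈ S₀, (d ψ : ℤ) * c φ = d φ * b - (if φ = ψ then (a : ℤ) * d ψ else 0) := by
    intro φ hφ
    have e1 : Cfsg.classInner β (τ ((d ψ : ℤ) • φ - (d φ : ℤ) • ψ)) =
        Cfsg.classInner (χ - (a : ℤ) • ψ) ((d ψ : ℤ) • φ - (d φ : ℤ) • ψ) :=
      hτ.2.2.1 _ hmX _ (zspanOn_mono hsub (hγmem φ hφ))
    rw [hγτ φ hφ] at e1
    simp only [CfsgLib.Char.classInner_sub_right, classInner_zsmul_right,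
      CfsgLib.Char.classInner_sub_left, classInner_zsmul_left, hc φ hφ, hc ψ hψ,
      horth χ hχS' φ (hsub hφ) (hne' φ hφ).symm, horth χ hχS' ψ hψS (hne' ψ hψ).symm,
      hself ψ hψS] at e1
    by_cases hφ1 : φ = ψ
    · subst hφ1
      rw [if_pos rfl, hb]; ring
    · rw [horth ψ hψS φ (hsub hφ) (Ne.symm hφ1)] at e1
      rw [if_neg hφ1, hb, sub_zero]
      have e2 : (((d ψ : ℤ) * c φ : ℤ) : ℂ) = (((d φ : ℤ) * (c ψ + a) : ℤ) : ℂ) := by
        push_cast at e1 ⊢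
        linear_combination e1
      exact_mod_cast e2
  obtain ⟨hb1, hb2⟩ := bessel S₀ τ₁ β
    (fun i hi j hj h => (hτ₁.2.2.1 _ (mem_zspan_self hi) _ (mem_zspan_self hj)).trans
      (horth i (hsub hi) j (hsub hj) h))
    (fun _ => 1) (fun φ => (c φ : ℝ))
    (fun i hi => by rw [hτ₁.2.2.1 _ (mem_zspan_self hi) _ (mem_zspan_self hi), hself i (hsub hi)]; simp)
    (fun _ _ => one_pos) (fun i hi => by rw [hc i hi]; simp)
  have hnormC : Cfsg.classInner β β = 1 + (a : ℂ) ^ 2 := by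
    rw [hβ, hτ.2.2.1 _ hmX _ hmX, CfsgLib.Char.classInner_sub_left,
      CfsgLib.Char.classInner_sub_right, CfsgLib.Char.classInner_sub_right, classInner_zsmul_left,
      classInner_zsmul_left, classInner_zsmul_right, classInner_zsmul_right, hself χ hχS',
      hself ψ hψS, horth χ hχS' ψ hψS (hne' ψ hψ).symm, horth ψ hψS χ hχS' (hne' ψ hψ)]
    push_cast; ring
  have hnorm : (Cfsg.classInner β β).re = 1 + (a : ℝ) ^ 2 := by
    rw [hnormC]; simp [← Complex.ofReal_natCast, ← Complex.ofReal_pow]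
  simp only [hnorm, div_one] at hb1 hb2
  have hle : ∑ φ ∈ S₀, c φ ^ 2 ≤ 1 + (a : ℤ) ^ 2 := by exact_mod_cast hb1
  have hDsq : ∑ φ ∈ S₀, ((d ψ : ℤ) * c φ) ^ 2 =
      b ^ 2 * ∑ φ ∈ S₀, (d φ : ℤ) ^ 2 - 2 * a * b * (d ψ : ℤ) ^ 2 + (a : ℤ) ^ 2 * (d ψ : ℤ) ^ 2 := by
    have : ∀ φ ∈ S₀, ((d ψ : ℤ) * c φ) ^ 2 = b ^ 2 * (d φ : ℤ) ^ 2 +
        (if φ = ψ then -2 * (a : ℤ) * b * (d ψ : ℤ) ^ 2 + (a : ℤ) ^ 2 * (d ψ : ℤ) ^ 2 else 0) := by
      intro φ hφ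
      rw [hrel φ hφ]
      split_ifs with h
      · subst h; ring
      · ring
    rw [Finset.sum_congr rfl this, Finset.sum_add_distrib, ← Finset.mul_sum, Finset.sum_ite_eq',
      if_pos hψ]
    ring
  have hD : (0 : ℤ) < d ψ := by exact_mod_cast hdpos ψ hψS
  set M : ℤ := ∑ φ ∈ S₀, (d φ : ℤ) ^ 2
  have hM : 2 * (a : ℤ) * (d ψ : ℤ) ^ 2 < M := by
    have : ((2 * d ψ * d χ : ℕ) : ℤ) < ((∑ ξ ∈ S₀, d ξ ^ 2 : ℕ) : ℤ) := by exact_mod_cast hlt
    rw [ha] at this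
    push_cast at this
    linarith
  have hmain : b ^ 2 * M - 2 * a * b * (d ψ : ℤ) ^ 2 ≤ (d ψ : ℤ) ^ 2 := by
    have h1 : ∑ φ ∈ S₀, ((d ψ : ℤ) * c φ) ^ 2 ≤ (d ψ : ℤ) ^ 2 * (1 + (a : ℤ) ^ 2) := by
      simp only [mul_pow, ← Finset.mul_sum]
      exact mul_le_mul_of_nonneg_left hle (sq_nonneg _)
    linarith [hDsq]
  have hMpos : 0 < M := lt_of_le_of_lt (by positivity) hM
  have hb0 : b = 0 := by
    by_contra hb0
    have hb1' : 0 < b := by
      by_contra hn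
      have hb2' : b ≤ -1 := by omega
      have : 0 ≤ b ^ 2 * M := by positivity
      have : 2 * (d ψ : ℤ) ^ 2 ≤ -(2 * (a : ℤ) * b * (d ψ : ℤ) ^ 2) := by
        have : (1 : ℤ) ≤ -((a : ℤ) * b) := by nlinarith [show (1 : ℤ) ≤ a by exact_mod_cast hapos]
        nlinarith [sq_nonneg (d ψ : ℤ)]
      nlinarith [pow_pos hD 2]
    have hb1'' : b = 1 := by
      by_contra hne
      have hb2 : 2 ≤ b := by omega
      have h3 : 2 * (a : ℤ) * (d ψ : ℤ) ^ 2 * b ≤ b ^ 2 * M - 2 * a * b * (d ψ : ℤ) ^ 2 := by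
        linear_combination mul_le_mul_of_nonneg_left hM.le (sq_nonneg b) +
          mul_le_mul_of_nonneg_left hb2 (show (0 : ℤ) ≤ 2 * a * b * (d ψ : ℤ) ^ 2 by positivity)
      have h4 : (2 : ℤ) ≤ a * b := by nlinarith [show (1 : ℤ) ≤ a by exact_mod_cast hapos]
      have h5 := mul_le_mul_of_nonneg_right h4 (sq_nonneg (d ψ : ℤ))
      nlinarith [pow_pos hD 2]
    set e : (L → ℂ) → ℤ := fun φ => c φ + if φ = ψ then (a : ℤ) else 0
    have hde : ∀ φ ∈ S₀, (d φ : ℤ) = (d ψ : ℤ) * e φ := by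
      intro φ hφ
      have := hrel φ hφ
      rw [hb1''] at this
      simp only [e]
      split_ifs with h
      · rw [if_pos h] at this; linear_combination (-1 : ℤ) * this
      · rw [if_neg h] at this; linear_combination (-1 : ℤ) * this
    have hMe : M = (d ψ : ℤ) ^ 2 * ∑ φ ∈ S₀, e φ ^ 2 := by
      rw [Finset.mul_sum]
      exact Finset.sum_congr rfl fun φ hφ => by rw [hde φ hφ]; ring
    have hEeq : ∑ φ ∈ S₀, e φ ^ 2 = 2 * a + 1 := by
      have h2 := pow_pos hD 2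
      rw [hMe] at hM hmain
      rw [hb1''] at hmain
      apply le_antisymm
      · nlinarith
      · have : 2 * (a : ℤ) < ∑ φ ∈ S₀, e φ ^ 2 := by nlinarith
        omega
    have heψ : e ψ = 1 := by
      have := hde ψ hψ
      exact (mul_right_eq_self₀.1 this.symm).resolve_right hD.ne'
    have hcsum : ∑ φ ∈ S₀, c φ ^ 2 = 1 + (a : ℤ) ^ 2 := by
      have h1 : ∀ φ ∈ S₀, c φ ^ 2 = e φ ^ 2 + if φ = ψ then (a : ℤ) ^ 2 - 2 * a else 0 := by
        intro φ _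
        simp only [e]
        split_ifs with h
        · subst h
          have : c φ + a = 1 := by simpa [e] using heψ
          rw [show c φ = 1 - a by linarith]; ring
        · ring
      rw [Finset.sum_congr rfl h1, Finset.sum_add_distrib, hEeq, Finset.sum_ite_eq', if_pos hψ]
      ring
    have hβe := hb2 (by
      have : ((1 + (a : ℤ) ^ 2 : ℤ) : ℝ) ≤ ((∑ φ ∈ S₀, c φ ^ 2 : ℤ) : ℝ) := by rw [hcsum]
      push_cast at this
      exact this)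
    have hdeg : ∀ φ ∈ S₀, τ₁ φ 1 = (e φ : ℂ) * τ₁ ψ 1 := by
      intro φ hφ
      have := hτ1 _ (zspanOn_mono hsub (hγmem φ hφ))
      rw [hγτ φ hφ] at this
      simp only [Pi.sub_apply, Pi.mul_apply, Pi.natCast_apply, zsmul_eq_mul, Int.cast_natCast] at this
      have hde' : (d φ : ℂ) = (d ψ : ℂ) * (e φ : ℂ) := by exact_mod_cast hde φ hφ
      rw [hde'] at this
      apply mul_left_cancel₀ (show (d ψ : ℂ) ≠ 0 by exact_mod_cast hD.ne')
      linear_combination this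
    have h0 := hτ1 _ hmX
    rw [← hβ, hβe, Finset.sum_apply] at h0
    have h1 : ∀ φ ∈ S₀, ((((c φ : ℝ)) : ℂ) • τ₁ φ) 1 =
        (((c φ * e φ : ℤ)) : ℂ) * τ₁ ψ 1 := by
      intro φ hφ
      rw [Pi.smul_apply, smul_eq_mul, hdeg φ hφ]
      push_cast; ring
    rw [Finset.sum_congr rfl h1, ← Finset.sum_mul, ← Int.cast_sum] at h0
    have h2 : ∑ φ ∈ S₀, c φ * e φ = (a : ℤ) + 1 := by
      have : ∀ φ ∈ S₀, c φ * e φ = e φ ^ 2 - if φ = ψ then (a : ℤ) else 0 := by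
        intro φ _
        split_ifs with h
        · subst h
          rw [heψ]
          have : c φ + a = 1 := by simpa [e] using heψ
          linarith
        · simp only [e, if_neg h, add_zero, sub_zero]; ring
      rw [Finset.sum_congr rfl this, Finset.sum_sub_distrib, hEeq, Finset.sum_ite_eq', if_pos hψ]
      ring
    rw [h2] at h0
    have h3 := (mul_eq_zero.1 h0).resolve_left (by
      have : (a : ℤ) + 1 ≠ 0 := by omega
      exact_mod_cast this)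
    rcases irr_or_neg_of_norm_one (hτ₁.2.2.2 _ (mem_zspan_self hψ))
      (by rw [hτ₁.2.2.1 _ (mem_zspan_self hψ) _ (mem_zspan_self hψ), hself ψ hψS]) with h | h
    · exact CfsgLib.Char.IsIrrCharacter.apply_one_ne_zero h h3
    · exact CfsgLib.Char.IsIrrCharacter.apply_one_ne_zero h (by simp [h3])
  set Z := β + (a : ℤ) • τ₁ ψ with hZ
  have hcval : ∀ φ ∈ S₀, c φ = if φ = ψ then -(a : ℤ) else 0 := by
    intro φ hφ
    have := hrel φ hφ
    rw [hb0, mul_zero, zero_sub] at this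
    apply mul_left_cancel₀ hD.ne'
    split_ifs at this ⊢ <;> linarith
  have hmψ := mem_zspan_self (S := (↑S₀ : Set (L → ℂ))) hψ
  have hψψ : Cfsg.classInner (τ₁ ψ) (τ₁ ψ) = 1 := by rw [hτ₁.2.2.1 _ hmψ _ hmψ, hself ψ hψS]
  have hψβ : Cfsg.classInner (τ₁ ψ) β = -(a : ℂ) := by
    rw [← classInner_comm_gen hgen (hτ₁.2.2.2 _ hmψ), hc ψ hψ, hcval ψ hψ, if_pos rfl]; simp
  have hZperp : ∀ φ ∈ S₀, Cfsg.classInner Z (τ₁ φ) = 0 := by
    intro φ hφ
    rw [hZ, CfsgLib.Char.classInner_add_left, classInner_zsmul_left, hc φ hφ, hcval φ hφ,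
      hτ₁.2.2.1 _ hmψ _ (mem_zspan_self hφ)]
    split_ifs with h
    · rw [h, hself ψ hψS]; simp
    · rw [horth ψ hψS φ (hsub hφ) (Ne.symm h)]; simp
  have hZZ : Cfsg.classInner Z Z = 1 := by
    rw [hZ, CfsgLib.Char.classInner_add_left, CfsgLib.Char.classInner_add_right,
      CfsgLib.Char.classInner_add_right, classInner_zsmul_left, classInner_zsmul_left,
      classInner_zsmul_right, classInner_zsmul_right, hψψ, hψβ, hc ψ hψ, hcval ψ hψ, if_pos rfl,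
      hnormC]
    push_cast; ring
  set f : (L → ℂ) → (G → ℂ) := fun φ => if φ = χ then Z else τ₁ φ with hf
  have hf1 : f χ = Z := by simp [f]
  have hf2 : ∀ φ ∈ S₀, f φ = τ₁ φ := fun φ hφ => by simp [f, hne' φ hφ]
  have hneS : ∀ x ∈ S, Cfsg.classInner x x ≠ 0 := fun x hx => by rw [hself x hx]; exact one_ne_zero
  refine isCoherent_of_images (f := f) horth hneS ?_ ?_ ?_ ?_
  · intro x hx
    rcases Finset.mem_insert.1 hx with rfl | h
    · rw [hf1]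
      exact CfsgLib.Char.IsGeneralizedCharacter.add hgen
        (CfsgLib.Char.IsGeneralizedCharacter.zsmul (hτ₁.2.2.2 _ hmψ) _)
    · rw [hf2 x h]; exact hτ₁.2.2.2 _ (mem_zspan_self h)
  · intro x hx y hy
    rcases Finset.mem_insert.1 hx with rfl | hxS <;> rcases Finset.mem_insert.1 hy with rfl | hyS
    · rw [hf1, hZZ, hself _ hx]
    · rw [hf1, hf2 y hyS, hZperp y hyS, horth _ hx y hy (hne' y hyS).symm]
    · rw [hf1, hf2 x hxS, ← CfsgLib.Char.classInner_conj_symm, hZperp x hxS, map_zero,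
        horth x hx _ hy (hne' x hxS)]
    · rw [hf2 x hxS, hf2 y hyS, hτ₁.2.2.1 _ (mem_zspan_self hxS) _ (mem_zspan_self hyS)]
  · exact ⟨α₀, zspanOn_mono hsub hα₀, hα₀ne⟩
  · intro α hα
    obtain ⟨e, he⟩ := mem_zspan_finset hα.1
    rw [Finset.sum_insert hχS] at he
    set u := e χ
    set γ := α - u • (χ - (a : ℤ) • ψ) with hγdef
    have hγ : γ = ∑ φ ∈ S₀, e φ • φ + (u * a) • ψ := by
      rw [hγdef, he]
      module
    have hγspan : γ ∈ Cfsg.zspan (↑S₀ : Set (L → ℂ)) := by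
      rw [hγ]
      exact Submodule.add_mem _ (Submodule.sum_mem _ fun φ hφ =>
        Submodule.smul_mem _ _ (mem_zspan_self hφ)) (Submodule.smul_mem _ _ (mem_zspan_self hψ))
    have hγS : γ ∈ Cfsg.zspanOn (↑S : Set (L → ℂ)) {1}ᶜ := zspanOn_sub hα (zspanOn_zsmul hmX _)
    have hαeq : α = γ + u • (χ - (a : ℤ) • ψ) := by rw [hγdef]; abel
    have hextγ : ext S f γ = τ γ := by
      rw [ext_eq_of_mem_zspan horth hneS hsub hτ₁ hf2 hγspan, hagree γ ⟨hγspan, hγS.2⟩]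
    conv_lhs => rw [hαeq]
    conv_rhs => rw [hαeq]
    rw [hτ.1 _ hγS _ (zspanOn_zsmul hmX _), hτ.2.1 _ hmX, ext_add, hextγ, ext_zsmul, ext_sub,
      ext_zsmul, ext_self horth hneS hχS', ext_self horth hneS hψS, hf1, hf2 ψ hψ, hZ, ← hβ,
      add_sub_cancel_right]

/-! ### Union of two coherent sets -/

theorem union_orth (S X Y : Set (L → ℂ)) (hirr : ∀ ξ ∈ S, Cfsg.IsIrrCharacter L ξ) (hXS : X ⊆ S)
    (hYS : Y ⊆ S) (hXY : Disjoint X Y) (hX2 : ∃ a ∈ X, ∃ b ∈ X, a ≠ b)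
    (hY2 : ∃ a ∈ Y, ∃ b ∈ Y, a ≠ b) {α : (L → ℂ) → (G → ℂ)}
    (hα : Cfsg.IsLinearIsometryOn (Cfsg.zspanOn S {1}ᶜ) α)
    (hα1 : ∀ θ ∈ Cfsg.zspanOn S {1}ᶜ, α θ 1 = 0) {σ τ : (L → ℂ) → (G → ℂ)}
    (hσ : Cfsg.IsLinearIsometryOn (Cfsg.zspan X) σ)
    (hσα : ∀ θ ∈ Cfsg.zspanOn X {1}ᶜ, σ θ = α θ) (hτ : Cfsg.IsLinearIsometryOn (Cfsg.zspan Y) τ)
    (hτα : ∀ θ ∈ Cfsg.zspanOn Y {1}ᶜ, τ θ = α θ) :
    ∀ χ ∈ X, ∀ η ∈ Y, Cfsg.classInner (σ χ) (τ η) = 0 := by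
  intro χ hχ η hη
  by_contra hne
  obtain ⟨χ', hχ', hχχ'⟩ : ∃ χ' ∈ X, χ ≠ χ' := by
    obtain ⟨a, ha, b, hb, hab⟩ := hX2
    by_cases h : χ = a
    · exact ⟨b, hb, h ▸ hab⟩
    · exact ⟨a, ha, h⟩
  obtain ⟨η', hη', hηη'⟩ : ∃ η' ∈ Y, η ≠ η' := by
    obtain ⟨a, ha, b, hb, hab⟩ := hY2
    by_cases h : η = a
    · exact ⟨b, hb, h ▸ hab⟩
    · exact ⟨a, ha, h⟩
  have signed : ∀ {Z : Set (L → ℂ)} {ρ : (L → ℂ) → (G → ℂ)}, Z ⊆ S →
      Cfsg.IsLinearIsometryOn (Cfsg.zspan Z) ρ → ∀ z ∈ Z,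
      Cfsg.IsIrrCharacter G (ρ z) ∨ Cfsg.IsIrrCharacter G (-ρ z) := fun hZ hρ z hz =>
    irr_or_neg_of_norm_one (hρ.2.2.2 _ (mem_zspan_self hz)) (by
      rw [hρ.2.2.1 _ (mem_zspan_self hz) _ (mem_zspan_self hz),
        CfsgLib.Char.classInner_irr_self (hirr z (hZ hz))])
  have hne1 : ∀ {f : G → ℂ}, (Cfsg.IsIrrCharacter G f ∨ Cfsg.IsIrrCharacter G (-f)) → f 1 ≠ 0 := by
    rintro f (h | h) h0
    · exact CfsgLib.Char.IsIrrCharacter.apply_one_ne_zero h h0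
    · exact CfsgLib.Char.IsIrrCharacter.apply_one_ne_zero h (by simp [h0])
  have dich : ∀ {f g : G → ℂ}, (Cfsg.IsIrrCharacter G f ∨ Cfsg.IsIrrCharacter G (-f)) →
      (Cfsg.IsIrrCharacter G g ∨ Cfsg.IsIrrCharacter G (-g)) → Cfsg.classInner f g ≠ 0 →
      f = g ∨ f = -g := by
    rintro f g (hf | hf) (hg | hg) h
    · exact Or.inl (CfsgLib.Char.eq_of_classInner_ne_zero hf hg h)
    · exact Or.inr (CfsgLib.Char.eq_of_classInner_ne_zero hf hg
        (by simpa [CfsgLib.Char.classInner_neg_right] using h))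
    · right
      rw [← CfsgLib.Char.eq_of_classInner_ne_zero hf hg
        (by simpa [CfsgLib.Char.classInner_neg_left] using h), neg_neg]
    · exact Or.inl (neg_inj.1 (CfsgLib.Char.eq_of_classInner_ne_zero hf hg
        (by simpa [CfsgLib.Char.classInner_neg_left, CfsgLib.Char.classInner_neg_right] using h)))
  obtain ⟨c, hc0, hc⟩ := CfsgLib.Char.IsIrrCharacter.exists_degree (hirr χ (hXS hχ))
  obtain ⟨c', hc'0, hc'⟩ := CfsgLib.Char.IsIrrCharacter.exists_degree (hirr χ' (hXS hχ'))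
  obtain ⟨e, he0, he⟩ := CfsgLib.Char.IsIrrCharacter.exists_degree (hirr η (hYS hη))
  obtain ⟨e', he'0, he'⟩ := CfsgLib.Char.IsIrrCharacter.exists_degree (hirr η' (hYS hη'))
  have hθ₁ : (c' : ℤ) • χ - (c : ℤ) • χ' ∈ Cfsg.zspanOn X {1}ᶜ :=
    mem_zspanOn_iff.2 ⟨Submodule.sub_mem _ (Submodule.smul_mem _ _ (mem_zspan_self hχ))
      (Submodule.smul_mem _ _ (mem_zspan_self hχ')), by simp [hc, hc']; ring⟩
  have hθ₂ : (e' : ℤ) • η - (e : ℤ) • η' ∈ Cfsg.zspanOn Y {1}ᶜ :=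
    mem_zspanOn_iff.2 ⟨Submodule.sub_mem _ (Submodule.smul_mem _ _ (mem_zspan_self hη))
      (Submodule.smul_mem _ _ (mem_zspan_self hη')), by simp [he, he']; ring⟩
  have hα₁ : α ((c' : ℤ) • χ - (c : ℤ) • χ') = (c' : ℤ) • σ χ - (c : ℤ) • σ χ' := by
    rw [← hσα _ hθ₁, zspan_isometry_sub hσ (Submodule.smul_mem _ _ (mem_zspan_self hχ))
      (Submodule.smul_mem _ _ (mem_zspan_self hχ')), hσ.2.1 _ (mem_zspan_self hχ),
      hσ.2.1 _ (mem_zspan_self hχ')]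
  have hα₂ : α ((e' : ℤ) • η - (e : ℤ) • η') = (e' : ℤ) • τ η - (e : ℤ) • τ η' := by
    rw [← hτα _ hθ₂, zspan_isometry_sub hτ (Submodule.smul_mem _ _ (mem_zspan_self hη))
      (Submodule.smul_mem _ _ (mem_zspan_self hη')), hτ.2.1 _ (mem_zspan_self hη),
      hτ.2.1 _ (mem_zspan_self hη')]
  have o : ∀ x ∈ X, ∀ y ∈ Y, Cfsg.classInner x y = 0 := fun x hx y hy =>
    CfsgLib.Char.classInner_irr_of_ne (hirr x (hXS hx)) (hirr y (hYS hy))
      (fun h => Set.disjoint_left.1 hXY hx (h ▸ hy))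
  have h0 := hα.2.2.1 _ (zspanOn_mono hXS hθ₁) _ (zspanOn_mono hYS hθ₂)
  rw [hα₁, hα₂] at h0
  simp only [CfsgLib.Char.classInner_sub_left, CfsgLib.Char.classInner_sub_right,
    classInner_zsmul_left, classInner_zsmul_right, o χ hχ η hη, o χ hχ η' hη', o χ' hχ' η hη,
    o χ' hχ' η' hη'] at h0
  have e1 := hα1 _ (zspanOn_mono hXS hθ₁)
  have e2 := hα1 _ (zspanOn_mono hYS hθ₂)
  rw [hα₁] at e1; rw [hα₂] at e2
  simp only [Pi.sub_apply, Pi.mul_apply, Pi.natCast_apply, zsmul_eq_mul, Int.cast_natCast] at e1 e2 h0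
  have hσσ : Cfsg.classInner (σ χ') (σ χ) = 0 := by
    rw [hσ.2.2.1 _ (mem_zspan_self hχ') _ (mem_zspan_self hχ),
      CfsgLib.Char.classInner_irr_of_ne (hirr χ' (hXS hχ')) (hirr χ (hXS hχ)) hχχ'.symm]
  have hττ : Cfsg.classInner (τ η) (τ η') = 0 := by
    rw [hτ.2.2.1 _ (mem_zspan_self hη) _ (mem_zspan_self hη'),
      CfsgLib.Char.classInner_irr_of_ne (hirr η (hYS hη)) (hirr η' (hYS hη')) hηη']
  have hττ1 : Cfsg.classInner (τ η) (τ η) = 1 := by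
    rw [hτ.2.2.1 _ (mem_zspan_self hη) _ (mem_zspan_self hη),
      CfsgLib.Char.classInner_irr_self (hirr η (hYS hη))]
  have hττ1' : Cfsg.classInner (τ η') (τ η') = 1 := by
    rw [hτ.2.2.1 _ (mem_zspan_self hη') _ (mem_zspan_self hη'),
      CfsgLib.Char.classInner_irr_self (hirr η' (hYS hη'))]
  obtain ⟨s, hs, hσeq⟩ : ∃ s : ℂ, (s = 1 ∨ s = -1) ∧ σ χ = s • τ η := by
    rcases dich (signed hXS hσ χ hχ) (signed hYS hτ η hη) hne with h | h
    · exact ⟨1, Or.inl rfl, by rw [h, one_smul]⟩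
    · exact ⟨-1, Or.inr rfl, by rw [h, neg_one_smul]⟩
  have hs0 : s ≠ 0 := by rcases hs with rfl | rfl <;> simp
  have hτσ' : Cfsg.classInner (σ χ') (τ η) = 0 := by
    rw [hσeq, CfsgLib.Char.classInner_smul_right] at hσσ
    exact (mul_eq_zero.1 hσσ).resolve_left (by simpa using hs0)
  rw [hσeq, CfsgLib.Char.classInner_smul_left, CfsgLib.Char.classInner_smul_left, hττ, hττ1,
    hτσ'] at h0
  have hne' : Cfsg.classInner (σ χ') (τ η') ≠ 0 := by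
    intro h
    rw [h] at h0
    have : (e' : ℂ) * c' * s = 0 := by linear_combination h0
    simp [hs0, he'0.ne', hc'0.ne'] at this
  obtain ⟨t, ht, hσeq'⟩ : ∃ t : ℂ, (t = 1 ∨ t = -1) ∧ σ χ' = t • τ η' := by
    rcases dich (signed hXS hσ χ' hχ') (signed hYS hτ η' hη') hne' with h | h
    · exact ⟨1, Or.inl rfl, by rw [h, one_smul]⟩
    · exact ⟨-1, Or.inr rfl, by rw [h, neg_one_smul]⟩
  rw [hσeq', CfsgLib.Char.classInner_smul_left, hττ1'] at h0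
  rw [hσeq, hσeq'] at e1
  simp only [Pi.smul_apply, smul_eq_mul] at e1
  have hη0 : τ η 1 ≠ 0 := hne1 (signed hYS hτ η hη)
  have k2 : ((c' : ℂ) * e * s - (c : ℂ) * e' * t) * τ η 1 = 0 := by
    linear_combination (e : ℂ) * e1 - (c : ℂ) * t * e2
  have k2' := (mul_eq_zero.1 k2).resolve_right hη0
  rcases hs with rfl | rfl <;> rcases ht with rfl | rfl
  · have : ((c' * e' + c * e : ℕ) : ℂ) = 0 := by push_cast; linear_combination h0
    have h' : c' * e' + c * e = 0 := by exact_mod_cast this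
    have := Nat.mul_pos hc'0 he'0
    omega
  · have : ((c' * e + c * e' : ℕ) : ℂ) = 0 := by push_cast; linear_combination k2'
    have h' : c' * e + c * e' = 0 := by exact_mod_cast this
    have := Nat.mul_pos hc'0 he0
    omega
  · have : ((c' * e + c * e' : ℕ) : ℂ) = 0 := by push_cast; linear_combination -k2'
    have h' : c' * e + c * e' = 0 := by exact_mod_cast this
    have := Nat.mul_pos hc'0 he0
    omega
  · have : ((c' * e' + c * e : ℕ) : ℂ) = 0 := by push_cast; linear_combination -h0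
    have h' : c' * e' + c * e = 0 := by exact_mod_cast this
    have := Nat.mul_pos hc'0 he'0
    omega

theorem union_coherent (S X Y : Set (L → ℂ)) (hirr : ∀ ξ ∈ S, Cfsg.IsIrrCharacter L ξ)
    (hXS : X ⊆ S) (hYS : Y ⊆ S) (hXY : Disjoint X Y) (hX2 : ∃ a ∈ X, ∃ b ∈ X, a ≠ b)
    (hY2 : ∃ a ∈ Y, ∃ b ∈ Y, a ≠ b) {α : (L → ℂ) → (G → ℂ)}
    (hα : Cfsg.IsLinearIsometryOn (Cfsg.zspanOn S {1}ᶜ) α)
    (hα1 : ∀ θ ∈ Cfsg.zspanOn S {1}ᶜ, α θ 1 = 0) {σ τ : (L → ℂ) → (G → ℂ)}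
    (hσ : Cfsg.IsLinearIsometryOn (Cfsg.zspan X) σ)
    (hσα : ∀ θ ∈ Cfsg.zspanOn X {1}ᶜ, σ θ = α θ) (hτ : Cfsg.IsLinearIsometryOn (Cfsg.zspan Y) τ)
    (hτα : ∀ θ ∈ Cfsg.zspanOn Y {1}ᶜ, τ θ = α θ) {χ₀ η₀ : L → ℂ} (hχ₀ : χ₀ ∈ X) (hη₀ : η₀ ∈ Y)
    (hjoin : α (χ₀ 1 • η₀ - η₀ 1 • χ₀) = χ₀ 1 • τ η₀ - η₀ 1 • σ χ₀) :
    Cfsg.IsCoherent (X ∪ Y) {1}ᶜ α := by
  classical
  have horth := union_orth S X Y hirr hXS hYS hXY hX2 hY2 hα hα1 hσ hσα hτ hτα
  have hli : LinearIndependent ℂ (fun ξ : {ξ // ξ ∈ S} => (ξ : L → ℂ)) :=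
    (CfsgLib.Char.linearIndependent_irrCharacter (G := L)).comp
      (fun ξ : {ξ // ξ ∈ S} => (⟨ξ.1, hirr ξ.1 ξ.2⟩ : Cfsg.IrrCharacter L))
      (fun a b h => Subtype.ext (congrArg (fun z => z.1) h))
  have hfin : S.Finite := Set.finite_coe_iff.1 hli.finite
  set U := (hfin.subset (Set.union_subset hXS hYS)).toFinset with hUdef
  have hU : (↑U : Set (L → ℂ)) = X ∪ Y := Set.Finite.coe_toFinset _
  have hUmem : ∀ {x}, x ∈ U ↔ x ∈ X ∪ Y := fun {x} => Set.Finite.mem_toFinset _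
  have horthU : ∀ x ∈ U, ∀ y ∈ U, x ≠ y → Cfsg.classInner x y = 0 := fun x hx y hy h =>
    CfsgLib.Char.classInner_irr_of_ne (hirr x (Set.union_subset hXS hYS (hUmem.1 hx)))
      (hirr y (Set.union_subset hXS hYS (hUmem.1 hy))) h
  have hneU : ∀ x ∈ U, Cfsg.classInner x x ≠ 0 := fun x hx => by
    rw [CfsgLib.Char.classInner_irr_self (hirr x (Set.union_subset hXS hYS (hUmem.1 hx)))]
    exact one_ne_zero
  set f : (L → ℂ) → (G → ℂ) := fun x => if x ∈ X then σ x else τ x with hf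
  have hfX : ∀ x ∈ X, f x = σ x := fun x hx => by simp [f, hx]
  have hfY : ∀ y ∈ Y, f y = τ y := fun y hy => by
    simp [f, show y ∉ X from fun h => Set.disjoint_left.1 hXY h hy]
  obtain ⟨a, ha, b, hb, hab⟩ := hX2
  obtain ⟨c₀, hc0, hc⟩ := CfsgLib.Char.IsIrrCharacter.exists_degree (hirr χ₀ (hXS hχ₀))
  obtain ⟨e₀, he0, he⟩ := CfsgLib.Char.IsIrrCharacter.exists_degree (hirr η₀ (hYS hη₀))
  rw [← hU]
  refine isCoherent_of_images (f := f) horthU hneU ?_ ?_ ?_ ?_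
  · intro x hx
    rcases hUmem.1 hx with h | h
    · rw [hfX x h]; exact hσ.2.2.2 _ (mem_zspan_self h)
    · rw [hfY x h]; exact hτ.2.2.2 _ (mem_zspan_self h)
  · intro x hx y hy
    have o : ∀ x ∈ X, ∀ y ∈ Y, Cfsg.classInner x y = 0 := fun x hx y hy =>
      CfsgLib.Char.classInner_irr_of_ne (hirr x (hXS hx)) (hirr y (hYS hy))
        (fun h => Set.disjoint_left.1 hXY hx (h ▸ hy))
    rcases hUmem.1 hx with h | h <;> rcases hUmem.1 hy with h' | h'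
    · rw [hfX x h, hfX y h', hσ.2.2.1 _ (mem_zspan_self h) _ (mem_zspan_self h')]
    · rw [hfX x h, hfY y h', horth x h y h', o x h y h']
    · rw [hfY x h, hfX y h', ← CfsgLib.Char.classInner_conj_symm, horth y h' x h, map_zero,
        ← CfsgLib.Char.classInner_conj_symm, o y h' x h, map_zero]
    · rw [hfY x h, hfY y h', hτ.2.2.1 _ (mem_zspan_self h) _ (mem_zspan_self h')]
  · obtain ⟨ca, hca0, hca⟩ := CfsgLib.Char.IsIrrCharacter.exists_degree (hirr a (hXS ha))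
    obtain ⟨cb, hcb0, hcb⟩ := CfsgLib.Char.IsIrrCharacter.exists_degree (hirr b (hXS hb))
    refine ⟨(cb : ℤ) • a - (ca : ℤ) • b, zspanOn_mono (by rw [hU]; exact Set.subset_union_left)
      (mem_zspanOn_iff.2 ⟨Submodule.sub_mem _ (Submodule.smul_mem _ _ (mem_zspan_self ha))
        (Submodule.smul_mem _ _ (mem_zspan_self hb)), by simp [hca, hcb]; ring⟩), fun h => ?_⟩
    have := congrArg (fun v => Cfsg.classInner v a) h
    simp only [CfsgLib.Char.classInner_sub_left, classInner_zsmul_left,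
      CfsgLib.Char.classInner_irr_self (hirr a (hXS ha)),
      CfsgLib.Char.classInner_irr_of_ne (hirr b (hXS hb)) (hirr a (hXS ha)) hab.symm,
      CfsgLib.Char.classInner_zero_left] at this
    simp [hcb0.ne'] at this
  · intro θ hθ
    rw [hU] at hθ
    have hθs := hθ.1
    change θ ∈ Submodule.span ℤ (X ∪ Y) at hθs
    rw [Submodule.span_union, Submodule.mem_sup] at hθs
    obtain ⟨θX, hθX, θY, hθY, hsum⟩ := hθs
    have hint : ∃ m : ℤ, θX 1 = m := by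
      clear hsum
      induction hθX using Submodule.span_induction with
      | mem x hx =>
        obtain ⟨k, -, hk⟩ := CfsgLib.Char.IsIrrCharacter.exists_degree (hirr x (hXS hx))
        exact ⟨k, by rw [hk]; simp⟩
      | zero => exact ⟨0, by simp⟩
      | add x y _ _ h1 h2 =>
        obtain ⟨p, hp⟩ := h1
        obtain ⟨q, hq⟩ := h2
        exact ⟨p + q, by simp [hp, hq]⟩
      | smul k x _ h =>
        obtain ⟨p, hp⟩ := h
        exact ⟨k * p, by simp [hp]⟩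
    obtain ⟨m, hm⟩ := hint
    have hY1 : θY 1 = -(m : ℂ) := by
      have := (mem_zspanOn_iff.1 hθ).2
      rw [← hsum, Pi.add_apply, hm] at this
      linear_combination this
    set γX := (c₀ : ℤ) • θX - m • χ₀ with hγX
    set γY := (e₀ : ℤ) • θY + m • η₀ with hγY
    set ζ := (c₀ : ℤ) • η₀ - (e₀ : ℤ) • χ₀ with hζ
    have hX0 : γX ∈ Cfsg.zspanOn X {1}ᶜ := mem_zspanOn_iff.2
      ⟨Submodule.sub_mem _ (Submodule.smul_mem _ _ hθX) (Submodule.smul_mem _ _ (mem_zspan_self hχ₀)),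
        by simp [γX, hm, hc]; ring⟩
    have hY0 : γY ∈ Cfsg.zspanOn Y {1}ᶜ := mem_zspanOn_iff.2
      ⟨Submodule.add_mem _ (Submodule.smul_mem _ _ hθY) (Submodule.smul_mem _ _ (mem_zspan_self hη₀)),
        by simp [γY, hY1, he]; ring⟩
    have hζ0 : ζ ∈ Cfsg.zspanOn S {1}ᶜ := mem_zspanOn_iff.2
      ⟨Submodule.sub_mem _ (Submodule.smul_mem _ _ (mem_zspan_self (hYS hη₀)))
        (Submodule.smul_mem _ _ (mem_zspan_self (hXS hχ₀))), by simp [ζ, hc, he]; ring⟩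
    have hθS : θ ∈ Cfsg.zspanOn S {1}ᶜ := zspanOn_mono (Set.union_subset hXS hYS) hθ
    have heq : ((c₀ : ℤ) * e₀) • θ = (e₀ : ℤ) • γX + (c₀ : ℤ) • γY - m • ζ := by
      rw [hγX, hγY, hζ, ← hsum]
      module
    have hjoin' : α ζ = (c₀ : ℤ) • τ η₀ - (e₀ : ℤ) • σ χ₀ := by
      rw [hc, he, natCast_smul_eq, natCast_smul_eq, natCast_smul_eq, natCast_smul_eq] at hjoin
      exact hjoin
    have hR : ((c₀ : ℤ) * e₀) • α θ = (e₀ : ℤ) • α γX + (c₀ : ℤ) • α γY - m • α ζ := by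
      rw [← hα.2.1 _ hθS, heq, isometry_sub hα (zspanOn_add
        (zspanOn_zsmul (zspanOn_mono hXS hX0) _) (zspanOn_zsmul (zspanOn_mono hYS hY0) _))
        (zspanOn_zsmul hζ0 _), hα.1 _ (zspanOn_zsmul (zspanOn_mono hXS hX0) _) _
        (zspanOn_zsmul (zspanOn_mono hYS hY0) _), hα.2.1 _ (zspanOn_mono hXS hX0),
        hα.2.1 _ (zspanOn_mono hYS hY0), hα.2.1 _ hζ0]
    have hXU : X ⊆ (↑U : Set (L → ℂ)) := by rw [hU]; exact Set.subset_union_left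
    have hYU : Y ⊆ (↑U : Set (L → ℂ)) := by rw [hU]; exact Set.subset_union_right
    have hL : ((c₀ : ℤ) * e₀) • ext U f θ = (e₀ : ℤ) • α γX + (c₀ : ℤ) • α γY - m • α ζ := by
      rw [← ext_zsmul, heq, ext_sub, ext_add, ext_zsmul, ext_zsmul, ext_zsmul,
        ext_eq_of_mem_zspan horthU hneU hXU hσ hfX hX0.1, hσα _ hX0,
        ext_eq_of_mem_zspan horthU hneU hYU hτ hfY hY0.1, hτα _ hY0, hjoin', hζ, ext_sub,
        ext_zsmul, ext_zsmul, ext_self horthU hneU (hYU hη₀), ext_self horthU hneU (hXU hχ₀),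
        hfY η₀ hη₀, hfX χ₀ hχ₀]
    have hk : ((c₀ : ℤ) * e₀) ≠ 0 := by positivity
    funext g
    have := congrFun (hL.trans hR.symm) g
    simp only [Pi.smul_apply, zsmul_eq_mul] at this
    exact mul_left_cancel₀ (Int.cast_ne_zero.2 hk) this

end CfsgLib.OddChar.Coh
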