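import Mathlib.GroupTheory.QuotientGroup.Basic
import Mathlib.GroupTheory.Index
import Mathlib.GroupTheory.Sylow
import Mathlib.GroupTheory.GroupAction.ConjAct
import Mathlib.GroupTheory.Abelianization.Defs
import Cfsg.Agent.Lib.Transfer.PGroup

/-!
Counting in an abelian Frobenius kernel section `K/H`, and nilpotent groups with small abelianization.
-/

set_option autoImplicit false

open scoped commutatorElement

namespace CfsgLib.OddChar.FrobSection

theorem index_dvd_card_sub_one_aux {Γ : Type*} [Group Γ] [Finite Γ] (Q N : Subgroup Γ) [N.Normal]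
    (hNQ : N ≤ Q) (hab : ∀ x ∈ Q, ∀ y ∈ N, x * y = y * x)
    (hfree : ∀ k ∈ Q, k ≠ 1 → ∀ x : Γ, x * k = k * x → x ∈ Q) :
    Q.index ∣ Nat.card N - 1 := by
  classical
  haveI : Fintype Γ := Fintype.ofFinite Γ
  set X : Finset Γ := Finset.univ.filter fun q => q ∈ N ∧ q ≠ 1
  have hX : X.card = Nat.card N - 1 := by
    have h1 : X = (Finset.univ.filter fun q => q ∈ N).erase 1 := by
      ext q; simp [X, and_comm]
    rw [h1, Finset.card_erase_of_mem (by simp [N.one_mem]), Nat.card_eq_fintype_card,
      Fintype.card_subtype]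
  let orb : Γ → Finset Γ := fun q => Finset.univ.image fun g => g * q * g⁻¹
  have horb : ∀ q ∈ X, (orb q).card = Q.index := by
    intro q hq
    obtain ⟨hqN, hq1⟩ : q ∈ N ∧ q ≠ 1 := by simpa [X] using hq
    have hcount : (Finset.univ : Finset Γ).card = (orb q).card * Nat.card Q := by
      rw [Finset.card_eq_sum_card_image (fun g => g * q * g⁻¹) Finset.univ,
        Finset.sum_const_nat (m := Nat.card Q)]
      intro b hb
      obtain ⟨g₀, -, rfl⟩ := Finset.mem_image.1 hb
      rw [Nat.card_eq_fintype_card, Fintype.card_subtype]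
      refine Finset.card_bij' (fun g _ => g₀⁻¹ * g) (fun x _ => g₀ * x) ?_ ?_ ?_ ?_
      · intro g hg
        simp only [Finset.mem_filter, Finset.mem_univ, true_and] at hg ⊢
        refine hfree q (hNQ hqN) hq1 _ ?_
        calc g₀⁻¹ * g * q = g₀⁻¹ * (g * q * g⁻¹) * g := by group
          _ = q * (g₀⁻¹ * g) := by rw [hg]; group
      · intro x hx
        simp only [Finset.mem_filter, Finset.mem_univ, true_and] at hx ⊢
        calc g₀ * x * q * (g₀ * x)⁻¹ = g₀ * (x * q) * x⁻¹ * g₀⁻¹ := by group
          _ = g₀ * q * g₀⁻¹ := by rw [hab x hx q hqN]; group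
      · intro g _; simp
      · intro x _; simp
    rw [Finset.card_univ, ← Nat.card_eq_fintype_card, ← Q.card_mul_index, mul_comm (orb q).card]
      at hcount
    exact (Nat.eq_of_mul_eq_mul_left Nat.card_pos hcount).symm
  rw [← hX, Finset.card_eq_sum_card_image orb X]
  refine Finset.dvd_sum fun O hO => ?_
  obtain ⟨q, hq, rfl⟩ := Finset.mem_image.1 hO
  refine dvd_of_eq ?_
  rw [← horb q hq]
  congr 1
  ext y
  simp only [Finset.mem_filter, orb, Finset.mem_image, Finset.mem_univ, true_and]
  obtain ⟨hqN, hq1⟩ : q ∈ N ∧ q ≠ 1 := by simpa [X] using hq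
  constructor
  · rintro ⟨g, rfl⟩
    refine ⟨?_, ?_⟩
    · simp only [X, Finset.mem_filter, Finset.mem_univ, true_and]
      exact ⟨Subgroup.Normal.conj_mem inferInstance q hqN g, by simpa using hq1⟩
    · ext z
      simp only [Finset.mem_image, Finset.mem_univ, true_and]
      exact ⟨fun ⟨h, e⟩ => ⟨h * g, by rw [← e]; group⟩,
        fun ⟨h, e⟩ => ⟨h * g⁻¹, by rw [← e]; group⟩⟩
  · rintro ⟨-, e⟩
    have : y ∈ orb y := Finset.mem_image.2 ⟨1, Finset.mem_univ _, by simp⟩
    rw [show orb y = orb q from e] at this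
    simpa [orb] using this

/-- In an abelian Frobenius kernel section `K/H` of `L`, the complement order divides `[N:H] - 1`. -/
theorem index_dvd_relIndex_sub_one' {L : Type*} [Group L] [Finite L] (K H N : Subgroup L)
    [H.Normal] [N.Normal] (hHN : H ≤ N) (hNK : N ≤ K)
    (hab : ∀ x ∈ K, ∀ y ∈ N, x * y * x⁻¹ * y⁻¹ ∈ H)
    (hfree : ∀ k ∈ K, k ∉ H → ∀ x : L, x * k * x⁻¹ * k⁻¹ ∈ H → x ∈ K) :
    K.index ∣ H.relIndex N - 1 := by
  set π := QuotientGroup.mk' H with hπ
  have hsurj : Function.Surjective π := QuotientGroup.mk'_surjective H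
  have hker : π.ker = H := QuotientGroup.ker_mk' H
  haveI : (N.map π).Normal := Subgroup.Normal.map inferInstance π hsurj
  have h1 : (K.map π).index = K.index :=
    Subgroup.index_map_eq K hsurj (by rw [hker]; exact hHN.trans hNK)
  have h2 : Nat.card (N.map π) = H.relIndex N := by
    have h := Subgroup.relIndex_map_map π H N
    rw [hker, sup_idem, sup_eq_left.2 hHN, Subgroup.map_eq_bot_iff H |>.2 hker.ge,
      Subgroup.relIndex_bot_left] at h
    exact h
  rw [← h1, ← h2]
  refine index_dvd_card_sub_one_aux _ _ (Subgroup.map_mono hNK) ?_ ?_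
  · rintro _ ⟨x, hx, rfl⟩ _ ⟨y, hy, rfl⟩
    have := (QuotientGroup.eq_one_iff _).2 (hab x hx y hy)
    rw [← QuotientGroup.mk'_apply, ← hπ, map_mul, map_mul, map_mul, map_inv, map_inv] at this
    calc π x * π y = (π x * π y * (π x)⁻¹ * (π y)⁻¹) * (π y * π x) := by group
      _ = π y * π x := by rw [this, one_mul]
  · rintro _ ⟨k, hk, rfl⟩ hk1 x
    obtain ⟨x, rfl⟩ := hsurj x
    intro hc
    refine Subgroup.mem_map_of_mem π (hfree k hk (fun h => hk1 ((QuotientGroup.eq_one_iff k).2 h)) x
      ((QuotientGroup.eq_one_iff _).1 ?_))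
    show π _ = 1
    simp only [map_mul, map_inv]
    rw [hc]; group

theorem index_dvd_relIndex_sub_one {L : Type*} [Group L] [Finite L] (K H N : Subgroup L) [H.Normal]
    [N.Normal] (hHN : H ≤ N) (hNK : N ≤ K)
    (hab : ∀ x ∈ K, ∀ y ∈ K, x * y * x⁻¹ * y⁻¹ ∈ H)
    (hfree : ∀ k ∈ K, k ∉ H → ∀ x : L, x * k * x⁻¹ * k⁻¹ ∈ H → x ∈ K) :
    K.index ∣ H.relIndex N - 1 :=
  index_dvd_relIndex_sub_one' K H N hHN hNK (fun x hx y hy => hab x hx y (hNK hy)) hfree

/-- A nilpotent group whose abelianization has prime order is abelian. -/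
theorem commutator_eq_bot_of_index_prime {Q : Type*} [Group Q] [Finite Q] [Group.IsNilpotent Q]
    (h : (commutator Q).index.Prime) : commutator Q = ⊥ := by
  obtain ⟨x, hx⟩ : ∃ x : Q, x ∉ commutator Q := by
    by_contra hc
    push_neg at hc
    rw [(Subgroup.eq_top_iff' _).2 hc, Subgroup.index_top] at h
    exact Nat.not_prime_one h
  have htop : Subgroup.zpowers x ⊔ commutator Q = ⊤ := by
    rw [← Subgroup.index_eq_one]
    refine ((Nat.dvd_prime h).1 (Subgroup.index_dvd_of_le le_sup_right)).resolve_right fun e => ?_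
    have h1 := Subgroup.relIndex_mul_index (H := commutator Q)
      (K := Subgroup.zpowers x ⊔ commutator Q) le_sup_right
    rw [e] at h1
    have h2 : (commutator Q).relIndex (Subgroup.zpowers x ⊔ commutator Q) = 1 :=
      Nat.eq_of_mul_eq_mul_right h.pos (by rw [h1, one_mul])
    exact hx (Subgroup.relIndex_eq_one.1 h2
      (Subgroup.mem_sup_left (Subgroup.mem_zpowers x)))
  have hz := CfsgLib.Transfer.eq_top_of_sup_commutator htop
  rw [commutator_def, Subgroup.commutator_eq_bot_iff_le_centralizer]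
  intro a _ b _
  obtain ⟨i, rfl⟩ := Subgroup.mem_zpowers_iff.1 (show a ∈ Subgroup.zpowers x by rw [hz]; trivial)
  obtain ⟨j, rfl⟩ := Subgroup.mem_zpowers_iff.1 (show b ∈ Subgroup.zpowers x by rw [hz]; trivial)
  exact (Commute.zpow_zpow (Commute.refl x) j i).eq

/-- A nilpotent group with abelianization of prime power order has prime power order. -/
theorem card_prime_pow_of_commutator_index {Q : Type*} [Group Q] [Finite Q] [Group.IsNilpotent Q]
    {p r : ℕ} (hp : p.Prime) (h : (commutator Q).index = p ^ r) :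
    ∃ m, Nat.card Q = p ^ m := by
  haveI := Fact.mk hp
  let P : Sylow p Q := Classical.arbitrary _
  have htop : (P : Subgroup Q) ⊔ commutator Q = ⊤ := by
    rw [← Subgroup.index_eq_one]
    have h1 : ((P : Subgroup Q) ⊔ commutator Q).index ∣ p ^ r :=
      h ▸ Subgroup.index_dvd_of_le le_sup_right
    have h2 : ((P : Subgroup Q) ⊔ commutator Q).index ∣ (P : Subgroup Q).index :=
      Subgroup.index_dvd_of_le le_sup_left
    obtain ⟨i, -, hi⟩ := (Nat.dvd_prime_pow hp).1 h1
    rw [hi] at h2 ⊢
    rcases Nat.eq_zero_or_pos i with rfl | hpos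
    · exact pow_zero p
    · exact absurd ((dvd_pow_self p hpos.ne').trans h2) P.not_dvd_index
  have hP := CfsgLib.Transfer.eq_top_of_sup_commutator htop
  obtain ⟨m, hm⟩ := IsPGroup.iff_card.1 P.isPGroup'
  exact ⟨m, by rw [← hm, hP, Subgroup.card_top]⟩

/-- An abelian section `K/H` of non prime power order has an intermediate normal subgroup. -/
theorem exists_normal_between {L : Type*} [Group L] [Finite L] (K H : Subgroup L) [K.Normal]
    [H.Normal] (hHK : H < K) (hab : ∀ x ∈ K, ∀ y ∈ K, x * y * x⁻¹ * y⁻¹ ∈ H)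
    (hnp : ¬ ∃ p r : ℕ, p.Prime ∧ H.relIndex K = p ^ r) :
    ∃ N : Subgroup L, N.Normal ∧ H < N ∧ N < K := by
  set π := QuotientGroup.mk' H with hπ
  have hsurj : Function.Surjective π := QuotientGroup.mk'_surjective H
  have hker : π.ker = H := QuotientGroup.ker_mk' H
  haveI : (K.map π).Normal := Subgroup.Normal.map inferInstance π hsurj
  have hcard : Nat.card (K.map π) = H.relIndex K := by
    have h := Subgroup.relIndex_map_map π H K
    rw [hker, sup_idem, sup_eq_left.2 hHK.le, Subgroup.map_eq_bot_iff H |>.2 hker.ge,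
      Subgroup.relIndex_bot_left] at h
    exact h
  have hne : H.relIndex K ≠ 1 := fun h => hHK.not_ge (Subgroup.relIndex_eq_one.1 h)
  set p := (H.relIndex K).minFac
  have hp : p.Prime := Nat.minFac_prime hne
  haveI := Fact.mk hp
  let P : Sylow p (K.map π) := Classical.arbitrary _
  haveI hPn : (P : Subgroup (K.map π)).Normal := by
    refine ⟨fun a ha g => ?_⟩
    have : g * a = a * g := by
      obtain ⟨x, hx, ex⟩ := g.2
      obtain ⟨y, hy, ey⟩ := a.2
      apply Subtype.ext
      show (g : L ⧸ H) * a = a * g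
      rw [← ex, ← ey]
      have := (QuotientGroup.eq_one_iff _).2 (hab x hx y hy)
      rw [← QuotientGroup.mk'_apply, ← hπ, map_mul, map_mul, map_mul, map_inv, map_inv] at this
      calc π x * π y = (π x * π y * (π x)⁻¹ * (π y)⁻¹) * (π y * π x) := by group
        _ = π y * π x := by rw [this, one_mul]
    rwa [this, mul_inv_cancel_right]
  haveI := Sylow.characteristic_of_normal P hPn
  set P' := (P : Subgroup (K.map π)).map (K.map π).subtype
  haveI : P'.Normal := ConjAct.normal_of_characteristic_of_normal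
  have hle : P' ≤ K.map π := Subgroup.map_subtype_le _
  refine ⟨P'.comap π, Subgroup.Normal.comap inferInstance π, lt_of_le_of_ne ?_ ?_,
    lt_of_le_of_ne ?_ ?_⟩
  · exact fun x hx => by
      show π x ∈ P'
      rw [show π x = 1 from (QuotientGroup.eq_one_iff x).2 hx]
      exact P'.one_mem
  · intro e
    have h1 : P' = ⊥ := by
      have := congrArg (Subgroup.map π) e
      rw [Subgroup.map_comap_eq_self_of_surjective hsurj,
        Subgroup.map_eq_bot_iff H |>.2 hker.ge] at this
      exact this.symm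
    have h2 : (P : Subgroup (K.map π)) = ⊥ :=
      (Subgroup.map_eq_bot_iff_of_injective _ (K.map π).subtype_injective).1 h1
    refine P.not_dvd_index ?_
    rw [h2, Subgroup.index_bot, hcard]
    exact Nat.minFac_dvd _
  · intro x hx
    obtain ⟨k, hk, ek⟩ := hle (Subgroup.mem_comap.1 hx)
    have : k⁻¹ * x ∈ H := QuotientGroup.eq.1 ek
    simpa using K.mul_mem hk (hHK.le this)
  · intro e
    have h1 : P' = K.map π := by
      rw [← e, Subgroup.map_comap_eq_self_of_surjective hsurj]
    obtain ⟨m, hm⟩ := IsPGroup.iff_card.1 P.isPGroup'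
    refine hnp ⟨p, m, hp, ?_⟩
    rw [← hcard, ← hm, ← Subgroup.card_subtype _ (P : Subgroup (K.map π))]
    exact (congrArg (fun S : Subgroup (L ⧸ H) => Nat.card S) h1).symm

end CfsgLib.OddChar.FrobSection
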