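import Mathlib

/-!
The field configuration of the last contradiction in the odd order theorem (Bender-Glauberman,
Appendix C): the set of pairs of norm-one elements with sum `2` is closed under inversion.

The proof: a pair gives a relation among `s`, `t = y s y⁻¹` and `U`; comparing it with its image
under the Frobenius map removes the entries from `U`; the commutativity of `Q` and
`H ∩ t^n H t^(-n) = U` then evaluate the coefficient.
-/

set_option autoImplicit false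

namespace CfsgLib.FieldConfig

universe u v

/-- The configuration. -/
structure Data (G : Type u) [Group G] (F : Type v) [Field F] (p q : ℕ) where
  P : Subgroup G
  U : Subgroup G
  Q : Subgroup G
  f : G → F
  ψ : G → F
  y : G
  hcard : Nat.card F = p ^ q
  hpq : p ≠ q
  hA : Nat.Coprime ((p ^ q - 1) / (p - 1)) (p - 1)
  hf : Set.BijOn f (P : Set G) Set.univ
  hfadd : ∀ x ∈ P, ∀ z ∈ P, f (x * z) = f x + f z
  hψ : ∀ u ∈ U, ψ u ≠ 0 ∧ ∀ x ∈ P, u * x * u⁻¹ ∈ P ∧ f (u * x * u⁻¹) = ψ u * f x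
  hψmul : ∀ u ∈ U, ∀ v ∈ U, ψ (u * v) = ψ u * ψ v
  hψinj : Set.InjOn ψ (U : Set G)
  hU : Nat.card U * (p - 1) = p ^ q - 1
  hQc : ∀ a ∈ Q, ∀ b ∈ Q, a * b = b * a
  hQp : (Nat.card Q).Coprime p
  hnQ : ∀ x ∈ P, f x ^ p = f x → x ∈ Subgroup.normalizer (Q : Set G)
  hy : y ∈ Q
  hnU : ∀ x ∈ P, f x ^ p = f x → y * x * y⁻¹ ∈ Subgroup.normalizer (U : Set G)

variable {G : Type u} [Group G] [Finite G] {F : Type v} [Field F] [Finite F] {p q : ℕ}
  [hp : Fact p.Prime] [hq : Fact q.Prime] [CharP F p] (C : Data G F p q)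

namespace Data

/-- The element of `P` over a field element. -/
noncomputable def pe (e : F) : G := (C.hf.surjOn (Set.mem_univ e)).choose

omit [Finite G] [Finite F] hp hq [CharP F p] in
theorem pe_mem (e : F) : C.pe e ∈ C.P := (C.hf.surjOn (Set.mem_univ e)).choose_spec.1

omit [Finite G] [Finite F] hp hq [CharP F p] in
theorem f_pe (e : F) : C.f (C.pe e) = e := (C.hf.surjOn (Set.mem_univ e)).choose_spec.2

omit [Finite G] [Finite F] hp hq [CharP F p] in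
theorem pe_f {x : G} (hx : x ∈ C.P) : C.pe (C.f x) = x :=
  C.hf.injOn (C.pe_mem _) hx (C.f_pe _)

omit [Finite G] [Finite F] hp hq [CharP F p] in
theorem pe_add (e e' : F) : C.pe (e + e') = C.pe e * C.pe e' := by
  refine C.hf.injOn (C.pe_mem _) (mul_mem (C.pe_mem _) (C.pe_mem _)) ?_
  rw [C.hfadd _ (C.pe_mem _) _ (C.pe_mem _), C.f_pe, C.f_pe, C.f_pe]

omit [Finite G] [Finite F] hp hq [CharP F p] in
theorem pe_zero : C.pe 0 = 1 := by
  have h := C.pe_add 0 0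
  rw [add_zero] at h
  exact mul_left_cancel (h.symm.trans (mul_one _).symm)

omit [Finite G] [Finite F] hp hq [CharP F p] in
theorem pe_neg (e : F) : C.pe (-e) = (C.pe e)⁻¹ :=
  eq_inv_of_mul_eq_one_left (by rw [← C.pe_add, neg_add_cancel, C.pe_zero])

/-- The element of `P` over `1`. -/
noncomputable def s : G := C.pe 1

omit [Finite G] [Finite F] hp hq [CharP F p] in
theorem pe_natCast (n : ℕ) : C.pe (n : F) = C.s ^ n := by
  induction n with
  | zero => rw [Nat.cast_zero, C.pe_zero, pow_zero]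
  | succ n ih => rw [Nat.cast_succ, C.pe_add, ih, pow_succ, s]

omit [Finite G] [Finite F] hp hq [CharP F p] in
theorem pe_intCast (n : ℤ) : C.pe (n : F) = C.s ^ n := by
  rcases Int.eq_nat_or_neg n with ⟨m, rfl | rfl⟩
  · rw [Int.cast_natCast, C.pe_natCast, zpow_natCast]
  · rw [Int.cast_neg, Int.cast_natCast, C.pe_neg, C.pe_natCast, zpow_neg, zpow_natCast]

omit [Finite G] [Finite F] hp hq [CharP F p] in
theorem psi_one : C.ψ 1 = 1 := by
  have h := C.hψmul 1 (one_mem _) 1 (one_mem _)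
  rw [one_mul] at h
  exact mul_right_cancel₀ (C.hψ 1 (one_mem _)).1 (by rw [one_mul]; exact h.symm)

omit [Finite G] [Finite F] hp hq [CharP F p] in
theorem psi_inv {u : G} (hu : u ∈ C.U) : C.ψ u⁻¹ = (C.ψ u)⁻¹ := by
  refine eq_inv_of_mul_eq_one_left ?_
  rw [← C.hψmul _ (inv_mem hu) _ hu, inv_mul_cancel, C.psi_one]

omit [Finite G] [Finite F] hp hq [CharP F p] in
theorem psi_pow {u : G} (hu : u ∈ C.U) (n : ℕ) : C.ψ (u ^ n) = C.ψ u ^ n := by
  induction n with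
  | zero => rw [pow_zero, pow_zero, C.psi_one]
  | succ n ih => rw [pow_succ, pow_succ, C.hψmul _ (pow_mem hu n) _ hu, ih]

omit [Finite G] [Finite F] hp hq [CharP F p] in
theorem comm_U {u v : G} (hu : u ∈ C.U) (hv : v ∈ C.U) : u * v = v * u :=
  C.hψinj (mul_mem hu hv) (mul_mem hv hu) (by rw [C.hψmul _ hu _ hv, C.hψmul _ hv _ hu, mul_comm])

omit [Finite G] [Finite F] hp hq [CharP F p] in
theorem conj_pe {u : G} (hu : u ∈ C.U) (e : F) : u * C.pe e = C.pe (C.ψ u * e) * u := by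
  rw [← mul_inv_eq_iff_eq_mul]
  obtain ⟨hm, hv⟩ := (C.hψ u hu).2 _ (C.pe_mem e)
  rw [C.f_pe] at hv
  rw [← C.pe_f hm, hv]

omit [Finite G] [Finite F] hp hq [CharP F p] in
theorem eq_one_of_mem {x : G} (hP : x ∈ C.P) (hU : x ∈ C.U) : x = 1 := by
  refine C.hψinj hU (one_mem _) ?_
  rw [C.psi_one]
  have h := C.conj_pe hU 1
  have hc : x * C.pe 1 = C.pe 1 * x := by
    rw [← C.pe_f hP, ← C.pe_add, ← C.pe_add, add_comm]
  rw [hc, mul_one] at h
  have h2 := congrArg C.f (mul_right_cancel h)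
  rw [C.f_pe, C.f_pe] at h2
  exact h2.symm

omit [Finite G] [Finite F] hp hq [CharP F p] in
theorem mk_mul {u : G} (hu : u ∈ C.U) (e e' : F) (u' : G) :
    C.pe e * u * (C.pe e' * u') = C.pe (e + C.ψ u * e') * (u * u') := by
  rw [C.pe_add, mul_assoc, ← mul_assoc u, C.conj_pe hu]
  group

omit [Finite G] [Finite F] hp hq [CharP F p] in
theorem mk_inj {u u' : G} (hu : u ∈ C.U) (hu' : u' ∈ C.U) {e e' : F}
    (h : C.pe e * u = C.pe e' * u') : e = e' ∧ u = u' := by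
  have h1 : C.pe (-e' + e) = u' * u⁻¹ := by
    rw [C.pe_add, C.pe_neg, eq_mul_inv_iff_mul_eq, mul_assoc, h, inv_mul_cancel_left]
  have h2 := C.eq_one_of_mem (C.pe_mem _) (h1 ▸ mul_mem hu' (inv_mem hu))
  constructor
  · have h3 := C.f_pe (-e' + e)
    rw [h2, ← C.pe_zero, C.f_pe] at h3
    linear_combination -h3
  · rw [h2] at h1
    exact (mul_inv_eq_one.1 h1.symm).symm

/-- Membership in `P U`. -/
def InH (g : G) : Prop := ∃ e : F, ∃ u ∈ C.U, g = C.pe e * u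

omit [Finite G] [Finite F] hp hq [CharP F p] in
theorem inH_mk (e : F) {u : G} (hu : u ∈ C.U) : C.InH (C.pe e * u) := ⟨e, u, hu, rfl⟩

omit [Finite G] [Finite F] hp hq [CharP F p] in
theorem inH_of_mem {u : G} (hu : u ∈ C.U) : C.InH u := ⟨0, u, hu, by rw [C.pe_zero, one_mul]⟩

omit [Finite G] [Finite F] hp hq [CharP F p] in
theorem inH_pe (e : F) : C.InH (C.pe e) := ⟨e, 1, one_mem _, (mul_one _).symm⟩

omit [Finite G] [Finite F] hp hq [CharP F p] in
theorem inH_mul {g h : G} (hg : C.InH g) (hh : C.InH h) : C.InH (g * h) := by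
  obtain ⟨e, u, hu, rfl⟩ := hg
  obtain ⟨e', u', hu', rfl⟩ := hh
  exact ⟨_, _, mul_mem hu hu', C.mk_mul hu e e' u'⟩

omit [Finite G] [Finite F] hp hq [CharP F p] in
theorem inH_inv {g : G} (hg : C.InH g) : C.InH g⁻¹ := by
  obtain ⟨e, u, hu, rfl⟩ := hg
  rw [mul_inv_rev, ← C.pe_neg]
  exact C.inH_mul (C.inH_of_mem (inv_mem hu)) (C.inH_pe _)

/-! ### Arithmetic of the field -/

/-- The number of norm-one elements. -/
def m (_C : Data G F p q) : ℕ := (p ^ q - 1) / (p - 1)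

omit [Finite G] [Finite F] hq [CharP F p] in
theorem card_U : Nat.card C.U = C.m := by
  rw [m, ← C.hU, Nat.mul_div_cancel _ (by have := hp.out.two_le; omega)]

omit [Finite F] hq [CharP F p] in
theorem psi_pow_m {u : G} (hu : u ∈ C.U) : C.ψ u ^ C.m = 1 := by
  have h : (⟨u, hu⟩ : C.U) ^ C.m = 1 := by rw [← C.card_U]; exact pow_card_eq_one'
  rw [← C.psi_pow hu, ← C.psi_one]
  exact congrArg C.ψ (congrArg Subtype.val h)

omit hq [CharP F p] in
theorem exists_psi {a : F} (ha : a ^ C.m = 1) : ∃ u ∈ C.U, C.ψ u = a := by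
  classical
  have hm0 : C.m ≠ 0 := C.card_U ▸ Nat.card_pos.ne'
  have := Fintype.ofFinite F
  set R := (Finset.univ : Finset F).filter fun x => x ^ C.m = 1 with hR
  have hle : R.card ≤ C.m := by
    refine le_trans (Finset.card_le_card fun x hx => ?_)
      (le_trans (Multiset.toFinset_card_le _) (Polynomial.card_nthRoots C.m (1 : F)))
    rw [Multiset.mem_toFinset, Polynomial.mem_nthRoots (Nat.pos_of_ne_zero hm0)]
    exact (Finset.mem_filter.1 hx).2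
  have := Fintype.ofFinite C.U
  let S : Finset F := Finset.image (fun u : C.U => C.ψ (u : G)) Finset.univ
  have hS : S.card = C.m := by
    simp only [S]
    have hinj : Function.Injective (fun u : C.U => C.ψ (u : G)) := fun a b h =>
      Subtype.ext (C.hψinj a.2 b.2 h)
    rw [Finset.card_image_of_injective _ hinj, Finset.card_univ,
      ← Nat.card_eq_fintype_card, C.card_U]
  have hsub : S ⊆ R := fun x hx => by
    obtain ⟨u, -, rfl⟩ := Finset.mem_image.1 hx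
    exact Finset.mem_filter.2 ⟨Finset.mem_univ _, C.psi_pow_m u.2⟩
  have : a ∈ S := Finset.eq_of_subset_of_card_le hsub (hS ▸ hle) ▸
    Finset.mem_filter.2 ⟨Finset.mem_univ _, ha⟩
  obtain ⟨u, -, rfl⟩ := Finset.mem_image.1 this
  exact ⟨u, u.2, rfl⟩

omit [Finite G] hq in
theorem exists_nat_of_pow_eq {c : F} (hc : c ^ p = c) : ∃ n : ℕ, (n : F) = c := by
  classical
  have := Fintype.ofFinite F
  let S : Finset F := (Finset.range p).image fun n : ℕ => (n : F)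
  have hS : S.card = p := by
    rw [Finset.card_image_of_injOn, Finset.card_range]
    intro a ha b hb h
    have h1 := (CharP.natCast_eq_natCast F p).1 h
    rwa [Nat.ModEq, Nat.mod_eq_of_lt (Finset.mem_range.1 ha), Nat.mod_eq_of_lt (Finset.mem_range.1 hb)] at h1
  let f : Polynomial F := Polynomial.X ^ p - Polynomial.X
  have hf0 : f ≠ 0 := FiniteField.X_pow_card_sub_X_ne_zero F hp.out.one_lt
  have hsub : S ⊆ f.roots.toFinset := fun x hx => by
    obtain ⟨n, -, rfl⟩ := Finset.mem_image.1 hx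
    rw [Multiset.mem_toFinset, Polynomial.mem_roots hf0]
    simp only [Polynomial.IsRoot, f, Polynomial.eval_sub, Polynomial.eval_pow, Polynomial.eval_X]
    rw [sub_eq_zero, ← frobenius_def, map_natCast]
  have hle : f.roots.toFinset.card ≤ p :=
    le_trans (Multiset.toFinset_card_le _) (le_trans (Polynomial.card_roots' f)
      (le_of_eq (FiniteField.X_pow_card_sub_X_natDegree_eq F hp.out.one_lt)))
  have : c ∈ S := Finset.eq_of_subset_of_card_le hsub (hS ▸ hle) ▸ by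
    rw [Multiset.mem_toFinset, Polynomial.mem_roots hf0]
    simp [f, hc]
  obtain ⟨n, -, hn⟩ := Finset.mem_image.1 this
  exact ⟨n, hn⟩

omit hq in
theorem decompose {e : F} (he : e ≠ 0) : ∃ (n : ℕ) (u : G), u ∈ C.U ∧ e = (n : F) * C.ψ u := by
  have hu : IsCoprime (C.m : ℤ) ((p - 1 : ℕ) : ℤ) := Int.isCoprime_iff_nat_coprime.2 (by
    rw [Int.natAbs_natCast, Int.natAbs_natCast]; exact C.hA)
  obtain ⟨i, j, hij⟩ := hu
  have := Fintype.ofFinite F
  have hord : e ^ (C.m * (p - 1)) = 1 := by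
    rw [← C.card_U, C.hU, ← C.hcard, Nat.card_eq_fintype_card]
    exact FiniteField.pow_card_sub_one_eq_one e he
  set c := (e ^ C.m) ^ i with hc
  set w := (e ^ (p - 1)) ^ j with hw
  have hcw : e = c * w := by
    rw [hc, hw, ← zpow_natCast e C.m, ← zpow_natCast e (p - 1), ← zpow_mul, ← zpow_mul, ← zpow_add₀ he]
    rw [show (C.m : ℤ) * i + ((p - 1 : ℕ) : ℤ) * j = 1 by linear_combination hij, zpow_one]
  have hc1 : c ^ (p - 1) = 1 := by
    rw [hc, ← zpow_natCast, ← zpow_mul, mul_comm, zpow_mul, zpow_natCast, ← pow_mul, hord, one_zpow]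
  have hw1 : w ^ C.m = 1 := by
    rw [hw, ← zpow_natCast, ← zpow_mul, mul_comm, zpow_mul, zpow_natCast, ← pow_mul, mul_comm (p - 1),
      hord, one_zpow]
  obtain ⟨u, hu', hu2⟩ := C.exists_psi hw1
  obtain ⟨n, hn⟩ := exists_nat_of_pow_eq (p := p) (c := c) (by
    conv_lhs => rw [show p = (p - 1) + 1 by have := hp.out.one_lt; omega, pow_succ, hc1, one_mul])
  exact ⟨n, u, hu', by rw [hn, hu2]; exact hcw⟩

omit [Finite G] [Finite F] hq in
theorem intCast_pow (n : ℤ) : (n : F) ^ p = n := by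
  rw [← frobenius_def, map_intCast]

omit [Finite G] [Finite F] hq in
theorem psi_ne_self {a : F} (ha : a ^ C.m = 1) (hap : a ^ p = a) (ha0 : a ≠ 0) : a = 1 := by
  have h1 : a ^ (p - 1) = 1 := by
    refine mul_left_cancel₀ ha0 ?_
    rw [mul_one, ← pow_succ', show p - 1 + 1 = p by have := hp.out.one_lt; omega, hap]
  have := (pow_gcd_eq_one (a := a)).2 ⟨ha, h1⟩
  rwa [show Nat.gcd C.m (p - 1) = 1 from C.hA, pow_one] at this

omit [Finite F] hq in
theorem eq_one_of_pow_eq {z : G} (hz : z ∈ C.U) (h : z ^ p = z) : z = 1 := by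
  refine C.hψinj hz (one_mem _) ?_
  rw [C.psi_one]
  exact C.psi_ne_self (C.psi_pow_m hz) (by rw [← C.psi_pow hz, h]) (C.hψ z hz).1

/-! ### The second element `t` -/

/-- The conjugate of `s`. -/
noncomputable def t : G := C.y * C.s * C.y⁻¹

omit [Finite G] [Finite F] hq in
theorem s_pow_p : C.s ^ p = 1 := by
  rw [← C.pe_natCast, CharP.cast_eq_zero, C.pe_zero]

omit [Finite G] [Finite F] hq in
theorem t_pow_p : C.t ^ p = 1 := by
  rw [t, conj_pow, C.s_pow_p, mul_one, mul_inv_cancel]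

omit [Finite G] [Finite F] [CharP F p] hq in
theorem f_s_fixed : C.f C.s ^ p = C.f C.s := by rw [s, C.f_pe, one_pow]

omit [Finite G] [Finite F] [CharP F p] hq in
theorem t_mem_normalizer : C.t ∈ Subgroup.normalizer (C.U : Set G) :=
  C.hnU _ (C.pe_mem 1) C.f_s_fixed

/-- Conjugation by a power of `t`. -/
noncomputable def σ (n : ℤ) (g : G) : G := C.t ^ n * g * (C.t ^ n)⁻¹

omit [Finite G] [Finite F] [CharP F p] hq in
theorem σ_mem (n : ℤ) {u : G} (hu : u ∈ C.U) : C.σ n u ∈ C.U :=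
  (Subgroup.mem_normalizer_iff.1 (zpow_mem C.t_mem_normalizer n) u).1 hu

omit [Finite G] [Finite F] [CharP F p] hp hq in
theorem σ_pow (n : ℤ) (g : G) (k : ℕ) : C.σ n (g ^ k) = C.σ n g ^ k := conj_pow.symm

omit [Finite G] [Finite F] [CharP F p] hp hq in
theorem σ_mul (n : ℤ) (g h : G) : C.σ n (g * h) = C.σ n g * C.σ n h := by
  simp only [σ]; group

omit [Finite G] [Finite F] hq in
theorem s_mem_normalizer_Q : C.s ∈ Subgroup.normalizer (C.Q : Set G) :=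
  C.hnQ _ (C.pe_mem 1) C.f_s_fixed

omit [Finite G] [Finite F] hq in
/-- `s^n t^(-n)` lies in `Q`. -/
theorem c_mem (n : ℤ) : C.s ^ n * (C.t ^ n)⁻¹ ∈ C.Q := by
  rw [t, conj_zpow, show C.s ^ n * (C.y * C.s ^ n * C.y⁻¹)⁻¹ =
    (C.s ^ n * C.y * (C.s ^ n)⁻¹) * C.y⁻¹ by group]
  exact mul_mem ((Subgroup.mem_normalizer_iff.1 (zpow_mem C.s_mem_normalizer_Q n) _).1 C.hy)
    (inv_mem C.hy)

omit [Finite G] [Finite F] hq in
theorem eq_one_of_mem_Q {x : G} (hx : x ∈ C.Q) (hxp : x ^ p = 1) : x = 1 := by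
  have h : (⟨x, hx⟩ : C.Q) ^ p = 1 := Subtype.ext hxp
  have h2 := orderOf_dvd_natCard (⟨x, hx⟩ : C.Q)
  have h3 := Nat.eq_one_of_dvd_coprimes C.hQp h2 (orderOf_dvd_of_pow_eq_one h)
  exact congrArg Subtype.val (orderOf_eq_one_iff.1 h3)

theorem exists_U_ne_one : ∃ u ∈ C.U, C.ψ u ≠ 1 := by
  by_contra h
  push Not at h
  have hsub : Subsingleton C.U := ⟨fun a b => Subtype.ext (C.hψinj a.2 b.2 (by rw [h _ a.2, h _ b.2]))⟩
  have h1 := C.hU
  rw [Nat.card_of_subsingleton (⟨1, one_mem _⟩ : C.U), one_mul] at h1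
  have hp2 := hp.out.two_le
  have hq2 := (Fact.out : q.Prime).two_le
  have : p ^ 1 < p ^ q := Nat.pow_lt_pow_right hp2 hq2
  rw [pow_one] at this
  omega

/-- `t` does not normalise `P`. -/
theorem not_normalizes : ¬ ∀ e : F, C.t * C.pe e * C.t⁻¹ ∈ C.P := by
  intro h
  set τ : F → F := fun e => C.f (C.t * C.pe e * C.t⁻¹) with hτ
  have hτpe : ∀ e, C.pe (τ e) = C.t * C.pe e * C.t⁻¹ := fun e => C.pe_f (h e)
  have hτadd : ∀ e e', τ (e + e') = τ e + τ e' := fun e e' => by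
    simp only [hτ]
    rw [← C.hfadd _ (h e) _ (h e'), C.pe_add]
    congr 1
    group
  have hτmul : ∀ u ∈ C.U, ∀ e, τ (C.ψ u * e) = C.ψ (C.σ 1 u) * τ e := by
    intro u hu e
    have h1 : C.pe (τ (C.ψ u * e)) * C.σ 1 u = C.pe (C.ψ (C.σ 1 u) * τ e) * C.σ 1 u := by
      rw [← C.conj_pe (C.σ_mem 1 hu), hτpe, hτpe,
        show C.pe (C.ψ u * e) = u * C.pe e * u⁻¹ from by rw [C.conj_pe hu, mul_inv_cancel_right]]
      simp only [σ, zpow_one]
      group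
    have h2 := congrArg C.f (mul_right_cancel h1)
    rwa [C.f_pe, C.f_pe] at h2
  have hτinj : Function.Injective τ := fun a b hab => by
    have h1 : C.pe (τ a) = C.pe (τ b) := by rw [hab]
    rw [hτpe, hτpe] at h1
    have h2 := congrArg C.f (mul_left_cancel (mul_right_cancel h1))
    rwa [C.f_pe, C.f_pe] at h2
  have hτ0 : τ 0 = 0 := by have := hτadd 0 0; rw [add_zero] at this; simpa using this
  have hlam : τ 1 ≠ 0 := fun h0 => one_ne_zero (hτinj (h0.trans hτ0.symm))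
  have hτnat : ∀ (n : ℕ) (e : F), τ ((n : F) * e) = (n : F) * τ e := by
    intro n e
    induction n with
    | zero => simp [hτ0]
    | succ n ih => rw [Nat.cast_succ, add_mul, one_mul, hτadd, ih, add_mul, one_mul]
  have hmul : ∀ a b : F, τ (a * b) * τ 1 = τ a * τ b := by
    intro a b
    rcases eq_or_ne a 0 with rfl | ha
    · simp [hτ0]
    · obtain ⟨n, u, hu, rfl⟩ := C.decompose ha
      rw [mul_assoc, hτnat, hτmul u hu, hτnat,
        show τ (C.ψ u) = C.ψ (C.σ 1 u) * τ 1 by rw [← hτmul u hu, mul_one]]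
      ring
  let g : F →+* F :=
    { toFun := fun a => τ a / τ 1
      map_one' := div_self hlam
      map_mul' := fun a b => by
        rw [div_mul_div_comm, ← hmul, mul_div_mul_right _ _ hlam]
      map_zero' := by simp [hτ0]
      map_add' := fun a b => by rw [hτadd, add_div] }
  have hgτ : ∀ a, g a = τ a / τ 1 := fun _ => rfl
  have hiter : ∀ (k : ℕ) (a : F), C.pe (τ^[k] a) = C.t ^ k * C.pe a * (C.t ^ k)⁻¹ := by
    intro k a
    induction k with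
    | zero => simp
    | succ k ih => rw [Function.iterate_succ_apply', hτpe, ih, pow_succ']; group
  have hiter' : ∀ (k : ℕ) (a : F), g^[k] a = τ^[k] a / τ^[k] 1 := by
    intro k a
    induction k with
    | zero => simp
    | succ k ih =>
      rw [Function.iterate_succ_apply', ih, map_div₀, hgτ, hgτ, Function.iterate_succ_apply',
        Function.iterate_succ_apply', div_div_div_cancel_right₀ hlam]
  have hτp : ∀ a, τ^[p] a = a := fun a => by
    have h1 := congrArg C.f (hiter p a)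
    rw [C.t_pow_p, one_mul, inv_one, mul_one, C.f_pe, C.f_pe] at h1
    exact h1
  have hgp : ∀ a, g^[p] a = a := fun a => by rw [hiter', hτp, hτp, div_one]
  -- the automorphism is trivial
  letI : Algebra (ZMod p) F := ZMod.algebra F p
  have : Finite (ZMod p) := inferInstance
  have hcomm : ∀ r : ZMod p, g (algebraMap (ZMod p) F r) = algebraMap (ZMod p) F r := fun r => by
    rw [← ZMod.natCast_zmod_val r, map_natCast, map_natCast]
  let gH : F →ₐ[ZMod p] F := AlgHom.mk g hcomm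
  let gA : F ≃ₐ[ZMod p] F := AlgEquiv.ofBijective gH
    ⟨g.injective, Finite.surjective_of_injective g.injective⟩
  have hgA : ∀ a, gA a = g a := fun _ => rfl
  have hgA1 : gA = 1 := by
    have h1 : gA ^ p = 1 := AlgEquiv.ext fun a => by
      rw [AlgEquiv.coe_pow, AlgEquiv.one_apply, show (⇑gA : F → F) = ⇑g from funext hgA, hgp]
    have hfin : Module.finrank (ZMod p) F = q := by
      have h2 := FiniteField.pow_finrank_eq_natCard p F
      rw [C.hcard] at h2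
      exact Nat.pow_right_injective hp.out.two_le h2
    have h3 : orderOf gA ∣ q := by
      rw [← hfin, ← IsGalois.card_aut_eq_finrank]
      exact orderOf_dvd_natCard gA
    have h4 := Nat.eq_one_of_dvd_coprimes ((Nat.coprime_primes hp.out Fact.out).2 C.hpq)
      (orderOf_dvd_of_pow_eq_one h1) h3
    exact orderOf_eq_one_iff.1 h4
  have hlin : ∀ a, τ a = τ 1 * a := fun a => by
    have h1 : τ a / τ 1 = a := by
      rw [← hgτ, ← hgA, hgA1]; rfl
    rw [div_eq_iff hlam] at h1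
    rw [h1]; ring
  have hit : ∀ k : ℕ, τ^[k] 1 = τ 1 ^ k := fun k => by
    induction k with
    | zero => simp
    | succ k ih => rw [Function.iterate_succ_apply', hlin, ih, pow_succ']
  have hlam1 : τ 1 = 1 := by
    have h1 := hit p
    rw [hτp] at h1
    exact (frobenius_inj F p) (by rw [frobenius_def, frobenius_def, ← h1, one_pow])
  have hts : C.t * C.s * C.t⁻¹ = C.s := by
    rw [s, ← hτpe, hlam1]
  have hts' : Commute C.t C.s := mul_inv_eq_iff_eq_mul.1 hts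
  have hc : C.s * C.t⁻¹ = 1 := by
    refine C.eq_one_of_mem_Q (by simpa using C.c_mem 1) ?_
    rw [(hts'.symm.inv_right).mul_pow, C.s_pow_p, inv_pow, C.t_pow_p, inv_one, one_mul]
  obtain ⟨u, hu, hu1⟩ := C.exists_U_ne_one
  apply hu1
  have h1 := C.σ_mem 1 hu
  rw [σ, zpow_one, ← mul_inv_eq_one.1 hc] at h1
  have h2 : C.s * u * C.s⁻¹ = C.pe (1 - C.ψ u) * u := by
    rw [s, ← C.pe_neg, mul_assoc, C.conj_pe hu, ← mul_assoc, ← C.pe_add]
    congr 2
    ring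
  rw [h2] at h1
  have h3 := (C.mk_inj (e := 1 - C.ψ u) (e' := 0) hu h1 (by rw [C.pe_zero, one_mul])).1
  linear_combination -h3

/-- **Intersection lemma**: `H ∩ t^n H t^(-n) = U`. -/
theorem inter {n : ℤ} (hn : ¬ (p : ℤ) ∣ n) {g : G} (hg : C.InH g)
    (hg' : C.InH (C.t ^ (-n) * g * C.t ^ n)) : g ∈ C.U := by
  obtain ⟨e, u, hu, rfl⟩ := hg
  rcases eq_or_ne e 0 with rfl | he
  · rwa [C.pe_zero, one_mul]
  exfalso
  -- conjugation by `t^(-n)`
  set T : G → G := fun x => C.t ^ (-n) * x * C.t ^ n with hT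
  have hTU : ∀ v ∈ C.U, T v ∈ C.U := fun v hv => by
    have h := C.σ_mem (-n) hv
    rwa [σ, ← zpow_neg, neg_neg] at h
  have hTmul : ∀ a b, T (a * b) = T a * T b := fun a b => by simp only [hT]; group
  have he' : C.InH (T (C.pe e)) := by
    have h := C.inH_mul hg' (C.inH_inv (C.inH_of_mem (hTU u hu)))
    rwa [show C.t ^ (-n) * (C.pe e * u) * C.t ^ n = T (C.pe e) * T u from hTmul _ _,
      mul_inv_cancel_right] at h
  have hall : ∀ x : F, C.InH (T (C.pe x)) := by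
    intro x
    rcases eq_or_ne x 0 with rfl | hx
    · rw [C.pe_zero]
      exact C.inH_of_mem (hTU 1 (one_mem _))
    obtain ⟨k, v, hv, hkv⟩ := C.decompose (div_ne_zero hx he)
    rw [div_eq_iff he] at hkv
    rw [hkv, mul_assoc]
    have h1 : C.InH (T (C.pe (C.ψ v * e))) := by
      rw [show C.pe (C.ψ v * e) = v * C.pe e * v⁻¹ from by rw [C.conj_pe hv, mul_inv_cancel_right],
        hTmul, hTmul]
      exact C.inH_mul (C.inH_mul (C.inH_of_mem (hTU v hv)) he') (C.inH_of_mem (hTU _ (inv_mem hv)))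
    clear hkv
    induction k with
    | zero =>
      rw [Nat.cast_zero, zero_mul, C.pe_zero]
      exact C.inH_of_mem (hTU 1 (one_mem _))
    | succ k ih =>
      rw [Nat.cast_succ, add_mul, one_mul, C.pe_add, hTmul]
      exact C.inH_mul ih h1
  have hTP : ∀ x : F, T (C.pe x) ∈ C.P := by
    intro x
    obtain ⟨e', v, hv, hev⟩ := hall x
    have hpow : ∀ k : ℕ, ∃ e'' : F, (C.pe e' * v) ^ k = C.pe e'' * v ^ k := by
      intro k
      induction k with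
      | zero => exact ⟨0, by rw [C.pe_zero, pow_zero, pow_zero, one_mul]⟩
      | succ k ih =>
        obtain ⟨e'', h''⟩ := ih
        exact ⟨_, by rw [pow_succ, h'', C.mk_mul (pow_mem hv k), ← pow_succ]⟩
    obtain ⟨e'', h''⟩ := hpow p
    have h1 : (T (C.pe x)) ^ p = 1 := by
      have hx : C.pe x ^ p = 1 := by
        have : ∀ k : ℕ, C.pe x ^ k = C.pe ((k : F) * x) := fun k => by
          induction k with
          | zero => rw [Nat.cast_zero, zero_mul, C.pe_zero, pow_zero]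
          | succ k ih => rw [Nat.cast_succ, add_mul, one_mul, C.pe_add, ← ih, pow_succ]
        rw [this, CharP.cast_eq_zero, zero_mul, C.pe_zero]
      simp only [hT]
      rw [show C.t ^ n = (C.t ^ (-n))⁻¹ by rw [zpow_neg, inv_inv], conj_pow, hx, mul_one, mul_inv_cancel]
    rw [hev, h''] at h1
    have h2 : v ^ p = 1 :=
      (C.mk_inj (pow_mem hv p) (one_mem _) (e := e'') (e' := 0)
        (by rw [h1, C.pe_zero, one_mul])).2
    have h3 : v = 1 := by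
      have hpm : Nat.Coprime (Nat.card C.U) p := by
        refine Nat.coprime_comm.1 ((Nat.Prime.coprime_iff_not_dvd hp.out).2 fun hd => ?_)
        have h4 : p ∣ p ^ q - 1 := C.hU ▸ Dvd.dvd.mul_right hd _
        have h5 : p ∣ p ^ q := dvd_pow_self p (Fact.out : q.Prime).ne_zero
        have h6 := Nat.dvd_sub h5 h4
        rw [Nat.sub_sub_self (Nat.one_le_pow _ _ hp.out.pos)] at h6
        exact hp.out.one_lt.ne' (Nat.dvd_one.1 h6)
      exact congrArg Subtype.val (orderOf_eq_one_iff.1 (Nat.eq_one_of_dvd_coprimes hpm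
        (orderOf_dvd_natCard (⟨v, hv⟩ : C.U)) (orderOf_dvd_of_pow_eq_one (Subtype.ext h2))))
    rw [hev, h3, mul_one]
    exact C.pe_mem _
  -- `t` itself normalises `P`
  have hP : ∀ (k : ℕ) (x : F), C.t ^ (-n * k) * C.pe x * C.t ^ (n * k) ∈ C.P := by
    intro k
    induction k with
    | zero => intro x; simpa using C.pe_mem x
    | succ k ih =>
      intro x
      have h1 := hTP (C.f (C.t ^ (-n * k) * C.pe x * C.t ^ (n * k)))
      rw [C.pe_f (ih x)] at h1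
      simp only [hT] at h1
      convert h1 using 1
      push_cast
      group
  apply C.not_normalizes
  intro x
  have hcop : IsCoprime (p : ℤ) n := (Nat.prime_iff_prime_int.1 hp.out).coprime_iff_not_dvd.2 hn
  obtain ⟨i, j, hij⟩ := hcop
  obtain ⟨k, hk⟩ : ∃ k : ℕ, ((p : ℤ)) ∣ (k : ℤ) - (-j) :=
    ⟨((-j) % (p : ℤ)).toNat, by
      rw [Int.toNat_of_nonneg (Int.emod_nonneg _ (by exact_mod_cast hp.out.ne_zero))]
      exact ⟨-((-j) / (p : ℤ)), by rw [Int.emod_def]; ring⟩⟩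
  obtain ⟨l, hl⟩ := hk
  have h1 := hP k x
  have ht : ∀ m : ℤ, C.t ^ ((p : ℤ) * m) = 1 := fun m => by
    rw [zpow_mul, zpow_natCast, C.t_pow_p, one_zpow]
  have e1 : -n * (k : ℤ) = 1 + (p : ℤ) * (-i - n * l) := by
    rw [show (k : ℤ) = (p : ℤ) * l - j by linarith]; linear_combination hij
  rw [e1, show n * (k : ℤ) = -(1 + (p : ℤ) * (-i - n * l)) by linarith, zpow_neg, zpow_add, ht,
    mul_one, zpow_one] at h1
  exact h1

/-! ### The relation of a pair -/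

omit [Finite G] [Finite F] hq in
/-- The six-term identity coming from the commutativity of `Q`. -/
theorem hexagon (a β : ℤ) : C.s ^ a =
    C.t ^ (-β) * C.s ^ (β + a) * C.t ^ (-a) * C.s ^ (-β) * C.t ^ (β + a) := by
  have h1 : C.t ^ (-β) * C.s ^ β ∈ C.Q := by
    have h := C.c_mem (-β)
    rw [zpow_neg, zpow_neg, inv_inv] at h
    have h2 := inv_mem h
    rw [mul_inv_rev, inv_inv] at h2
    rwa [zpow_neg]
  have h2 : (C.t ^ (-β) * C.s ^ β) * (C.s ^ a * (C.t ^ a)⁻¹) * (C.t ^ (-β) * C.s ^ β)⁻¹ =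
      C.s ^ a * (C.t ^ a)⁻¹ := by
    rw [C.hQc _ h1 _ (C.c_mem a), mul_inv_cancel_right]
  calc C.s ^ a = (C.s ^ a * (C.t ^ a)⁻¹) * C.t ^ a := by group
    _ = (C.t ^ (-β) * C.s ^ β) * (C.s ^ a * (C.t ^ a)⁻¹) * (C.t ^ (-β) * C.s ^ β)⁻¹ * C.t ^ a := by
        rw [h2]
    _ = _ := by group

omit [Finite G] [Finite F] hq in
/-- The relation of a pair, pushed out through the hexagons. -/
theorem pair_relation {u v : G} (hu : u ∈ C.U) (hv : v ∈ C.U) (hsum : C.ψ u + C.ψ v = 2) :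
    C.s ^ (1 : ℤ) * C.σ (-3) u * C.s ^ (-2 : ℤ) * C.t ^ (-1 : ℤ) *
      (C.s ^ (3 : ℤ) * C.σ (-2) (u⁻¹ * v) * C.s ^ (-1 : ℤ)) * C.t ^ (-1 : ℤ) *
      (C.s ^ (2 : ℤ) * C.σ (-1) v⁻¹ * C.s ^ (-3 : ℤ)) * C.t ^ (2 : ℤ) = 1 := by
  have h0 : u * C.s ^ (1 : ℤ) * (u⁻¹ * v) * C.s ^ (1 : ℤ) * v⁻¹ * C.s ^ (-2 : ℤ) = 1 := by
    rw [zpow_one, s]
    calc u * C.pe 1 * (u⁻¹ * v) * C.pe 1 * v⁻¹ * C.pe 1 ^ (-2 : ℤ)
        = (u * C.pe 1 * u⁻¹) * (v * C.pe 1 * v⁻¹) * C.pe 1 ^ (-2 : ℤ) := by group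
      _ = 1 := by
        rw [C.conj_pe hu, mul_inv_cancel_right, C.conj_pe hv, mul_inv_cancel_right, mul_one, mul_one,
          ← C.pe_add, hsum, ← s, ← C.pe_intCast, ← C.pe_add, ← C.pe_zero]
        congr 1
        push_cast
        ring
  have e1 := C.hexagon 1 (-3)
  have e2 := C.hexagon 1 (-2)
  have e3 := C.hexagon (-2) (-1)
  norm_num at e1 e2 e3
  have h1 : C.s ^ (1 : ℤ) * C.t ^ (-3 : ℤ) *
      (u * C.s ^ (1 : ℤ) * (u⁻¹ * v) * C.s ^ (1 : ℤ) * v⁻¹ * C.s ^ (-2 : ℤ)) *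
      C.t ^ (3 : ℤ) * C.s ^ (-1 : ℤ) = 1 := by rw [h0]; group
  conv at h1 =>
    lhs
    enter [1, 1, 2]
    rw [show u * C.s ^ (1 : ℤ) * (u⁻¹ * v) * C.s ^ (1 : ℤ) * v⁻¹ * C.s ^ (-2 : ℤ) =
      u * (C.t ^ (3 : ℤ) * C.s ^ (-2 : ℤ) * C.t ^ (-1 : ℤ) * C.s ^ (3 : ℤ) * C.t ^ (-2 : ℤ)) *
      (u⁻¹ * v) * (C.t ^ (2 : ℤ) * C.s ^ (-1 : ℤ) * C.t ^ (-1 : ℤ) * C.s ^ (2 : ℤ) * C.t ^ (-1 : ℤ)) *
      v⁻¹ * (C.t ^ (1 : ℤ) * C.s ^ (-3 : ℤ) * C.t ^ (2 : ℤ) * C.s ^ (1 : ℤ) * C.t ^ (-3 : ℤ)) by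
      congr 1
      · congr 1
        · congr 1
          · congr 1
            · congr 1
              simpa [zpow_neg] using e1
          · simpa [zpow_neg] using e2
      · simpa [zpow_neg] using e3]
  rw [← h1]
  simp only [σ]
  group

/-- The parameter `η⁻¹ u₃`, moved across `t^(-1)`. -/
noncomputable def μ (u η : G) : G := C.σ 1 (η⁻¹ * C.σ (-3) u)

noncomputable def e2 (u v η : G) : F := C.ψ (C.μ u η) * (3 - C.ψ (C.σ (-2) (u⁻¹ * v)))

noncomputable def z2 (u v η : G) : G := C.μ u η * C.σ (-2) (u⁻¹ * v)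

noncomputable def e3 (v : G) : F := 2 - 3 * C.ψ (C.σ (-1) v⁻¹)

noncomputable def z3 (v η : G) : G := C.σ (-1) v⁻¹ * C.σ 2 η

omit [Finite G] [Finite F] hq in
theorem μ_mem {u η : G} (hu : u ∈ C.U) (hη : η ∈ C.U) : C.μ u η ∈ C.U :=
  C.σ_mem 1 (mul_mem (inv_mem hη) (C.σ_mem _ hu))

omit [Finite G] [Finite F] hq in
theorem z2_mem {u v η : G} (hu : u ∈ C.U) (hv : v ∈ C.U) (hη : η ∈ C.U) : C.z2 u v η ∈ C.U :=
  mul_mem (C.μ_mem hu hη) (C.σ_mem _ (mul_mem (inv_mem hu) hv))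

omit [Finite G] [Finite F] hq in
theorem z3_mem {v η : G} (hv : v ∈ C.U) (hη : η ∈ C.U) : C.z3 v η ∈ C.U :=
  mul_mem (C.σ_mem _ (inv_mem hv)) (C.σ_mem _ hη)

omit [Finite G] [Finite F] hq in
theorem conj_s (i j : ℤ) {u : G} (hu : u ∈ C.U) :
    C.s ^ i * u * C.s ^ j = C.pe ((i : F) + C.ψ u * (j : F)) * u := by
  rw [← C.pe_intCast, ← C.pe_intCast, mul_assoc, C.conj_pe hu, ← mul_assoc, ← C.pe_add]

omit [Finite G] [Finite F] hq in
/-- The relation with its first term reduced to a power of `s`. -/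
theorem triangle {u v η : G} (hu : u ∈ C.U) (hv : v ∈ C.U) (hη : η ∈ C.U) {b : ℤ}
    (hsum : C.ψ u + C.ψ v = 2) (hb : 1 - 2 * C.ψ (C.σ (-3) u) = (b : F) * C.ψ η) :
    C.s ^ b * C.t ^ (-1 : ℤ) * (C.pe (C.e2 u v η) * C.z2 u v η) * C.t ^ (-1 : ℤ) *
      (C.pe (C.e3 v) * C.z3 v η) * C.t ^ (2 : ℤ) = 1 := by
  have h := C.pair_relation hu hv hsum
  have hu3 := C.σ_mem (-3) hu
  have hw2 := C.σ_mem (-2) (mul_mem (inv_mem hu) hv)
  have hv1 := C.σ_mem (-1) (inv_mem hv)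
  have h1 : C.s ^ (1 : ℤ) * C.σ (-3) u * C.s ^ (-2 : ℤ) = η * C.s ^ b * (η⁻¹ * C.σ (-3) u) := by
    rw [C.conj_s 1 (-2) hu3, ← C.pe_intCast b, C.conj_pe hη,
      show C.pe (C.ψ η * (b : F)) * η * (η⁻¹ * C.σ (-3) u) = C.pe (C.ψ η * (b : F)) * C.σ (-3) u by group]
    congr 2
    push_cast
    linear_combination hb
  rw [h1, C.conj_s 3 (-1) hw2, C.conj_s 2 (-3) hv1] at h
  have e2' : C.pe (C.e2 u v η) * C.z2 u v η =
      C.μ u η * (C.pe ((3 : ℤ) + C.ψ (C.σ (-2) (u⁻¹ * v)) * ((-1 : ℤ) : F)) * C.σ (-2) (u⁻¹ * v)) := by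
    rw [← mul_assoc, C.conj_pe (C.μ_mem hu hη), e2, z2, ← mul_assoc]
    congr 3
    push_cast
    ring
  have e3' : C.pe (C.e3 v) * C.z3 v η =
      C.pe (((2 : ℤ) : F) + C.ψ (C.σ (-1) v⁻¹) * ((-3 : ℤ) : F)) * C.σ (-1) v⁻¹ * C.σ 2 η := by
    rw [z3, ← mul_assoc, e3]
    congr 3
    push_cast
    ring
  rw [e2', e3']
  generalize C.pe (((3 : ℤ) : F) + C.ψ (C.σ (-2) (u⁻¹ * v)) * ((-1 : ℤ) : F)) *
    C.σ (-2) (u⁻¹ * v) = g2 at h ⊢
  generalize C.pe (((2 : ℤ) : F) + C.ψ (C.σ (-1) v⁻¹) * ((-3 : ℤ) : F)) *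
    C.σ (-1) v⁻¹ = g3 at h ⊢
  have h2 : η⁻¹ * (η * C.s ^ b * (η⁻¹ * C.σ (-3) u) * C.t ^ (-1 : ℤ) * g2 * C.t ^ (-1 : ℤ) * g3 *
      C.t ^ (2 : ℤ)) * η = 1 := by rw [h]; group
  rw [← h2]
  simp only [μ, σ]
  group

/-- The Frobenius map removes the elements of `U`. -/
theorem pure_relation {u v η : G} (hu : u ∈ C.U) (hv : v ∈ C.U) (hη : η ∈ C.U) {b : ℤ}
    (hsum : C.ψ u + C.ψ v = 2) (hb : 1 - 2 * C.ψ (C.σ (-3) u) = (b : F) * C.ψ η) :
    ∃ n₂ n₃ : ℤ, C.s ^ b * C.t ^ (-1 : ℤ) * C.s ^ n₂ * C.t ^ (-1 : ℤ) * C.s ^ n₃ * C.t ^ (2 : ℤ) = 1 := by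
  have hup := pow_mem hu p
  have hvp := pow_mem hv p
  have hηp := pow_mem hη p
  have hfr : ∀ a b : F, (a + b) ^ p = a ^ p + b ^ p := fun a b => add_pow_char a b p
  have hfs : ∀ a b : F, (a - b) ^ p = a ^ p - b ^ p := fun a b => sub_pow_char a b
  have h2p : (2 : F) ^ p = 2 := by simpa using intCast_pow (p := p) (F := F) 2
  have h3p : (3 : F) ^ p = 3 := by simpa using intCast_pow (p := p) (F := F) 3
  have hbp := intCast_pow (p := p) (F := F) b
  have T1 := C.triangle hu hv hη hsum hb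
  have T2 := C.triangle hup hvp hηp (b := b)
    (by rw [C.psi_pow hu, C.psi_pow hv, ← hfr, hsum, h2p])
    (by
      have h := congrArg (· ^ p) hb
      simp only [hfs, one_pow, mul_pow, h2p, hbp] at h
      rwa [C.σ_pow, C.psi_pow (C.σ_mem _ hu), C.psi_pow hη])
  have hw : C.σ (-2) ((u ^ p)⁻¹ * v ^ p) = C.σ (-2) (u⁻¹ * v) ^ p := by
    rw [← inv_pow, ← (show Commute u⁻¹ v from C.comm_U (inv_mem hu) hv).mul_pow, C.σ_pow]
  have hμ : C.μ (u ^ p) (η ^ p) = C.μ u η ^ p := by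
    rw [μ, μ, C.σ_pow, ← inv_pow,
      ← (show Commute η⁻¹ (C.σ (-3) u) from C.comm_U (inv_mem hη) (C.σ_mem _ hu)).mul_pow, C.σ_pow]
  have hE2 : C.e2 (u ^ p) (v ^ p) (η ^ p) = C.e2 u v η ^ p := by
    rw [e2, e2, hμ, hw, C.psi_pow (C.μ_mem hu hη), C.psi_pow (C.σ_mem _ (mul_mem (inv_mem hu) hv)),
      mul_pow, hfs, h3p]
  have hZ2 : C.z2 (u ^ p) (v ^ p) (η ^ p) = C.z2 u v η ^ p := by
    rw [z2, z2, hμ, hw, (show Commute (C.μ u η) (C.σ (-2) (u⁻¹ * v)) from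
      C.comm_U (C.μ_mem hu hη) (C.σ_mem _ (mul_mem (inv_mem hu) hv))).mul_pow]
  have hE3 : C.e3 (v ^ p) = C.e3 v ^ p := by
    rw [e3, e3, ← inv_pow, C.σ_pow, C.psi_pow (C.σ_mem _ (inv_mem hv)), hfs, mul_pow, h3p, h2p]
  have hZ3 : C.z3 (v ^ p) (η ^ p) = C.z3 v η ^ p := by
    rw [z3, z3, ← inv_pow, C.σ_pow, C.σ_pow, (show Commute (C.σ (-1) v⁻¹) (C.σ 2 η) from
      C.comm_U (C.σ_mem _ (inv_mem hv)) (C.σ_mem _ hη)).mul_pow]
  rw [hE2, hZ2, hE3, hZ3] at T2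
  set E2 := C.e2 u v η
  set Z2 := C.z2 u v η
  set E3 := C.e3 v
  set Z3 := C.z3 v η
  have hZ2m : Z2 ∈ C.U := C.z2_mem hu hv hη
  have hZ3m : Z3 ∈ C.U := C.z3_mem hv hη
  -- compare the two relations
  set g2 := C.pe E2 * Z2 with hg2
  set g2' := C.pe (E2 ^ p) * Z2 ^ p with hg2'
  set g3 := C.pe E3 * Z3 with hg3
  set g3' := C.pe (E3 ^ p) * Z3 ^ p with hg3'
  have hcmp : g2'⁻¹ * g2 = C.t ^ (-1 : ℤ) * (g3' * g3⁻¹) * C.t ^ (1 : ℤ) := by
    have h := T1.trans T2.symm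
    have h' : g2 * C.t ^ (-1 : ℤ) * g3 = g2' * C.t ^ (-1 : ℤ) * g3' :=
      mul_right_cancel (b := C.t ^ (2 : ℤ)) (mul_left_cancel (a := C.s ^ b * C.t ^ (-1 : ℤ))
        (by simpa only [mul_assoc] using h))
    calc g2'⁻¹ * g2 = g2'⁻¹ * (g2 * C.t ^ (-1 : ℤ) * g3) * g3⁻¹ * C.t ^ (1 : ℤ) := by group
      _ = _ := by rw [h']; group
  have hin : C.InH (g2'⁻¹ * g2) :=
    C.inH_mul (C.inH_inv (C.inH_mk _ (pow_mem hZ2m p))) (C.inH_mk _ hZ2m)
  have hin3 : C.InH (g3' * g3⁻¹) :=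
    C.inH_mul (C.inH_mk _ (pow_mem hZ3m p)) (C.inH_inv (C.inH_mk _ hZ3m))
  have hd1 : ¬ (p : ℤ) ∣ (-1 : ℤ) := by
    rw [dvd_neg, show (1 : ℤ) = ((1 : ℕ) : ℤ) from rfl, Int.natCast_dvd_natCast, Nat.dvd_one]
    exact hp.out.one_lt.ne'
  have hX : g2'⁻¹ * g2 ∈ C.U := C.inter hd1 hin (by
    rw [hcmp]; convert hin3 using 1; group)
  set X := g2'⁻¹ * g2 with hXdef
  have hg2e : g2 = C.pe (E2 ^ p) * (Z2 ^ p * X) := by
    rw [hXdef, ← mul_assoc, ← hg2', mul_inv_cancel_left]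
  obtain ⟨hE2p, hZ⟩ := C.mk_inj hZ2m (mul_mem (pow_mem hZ2m p) hX) (hg2.symm.trans hg2e)
  have hY : g3' = C.σ 1 X * g3 := by
    rw [σ, hcmp]; group
  rw [hg3', hg3, ← mul_assoc, C.conj_pe (C.σ_mem 1 hX), mul_assoc] at hY
  obtain ⟨hE3p, hZ3p⟩ := C.mk_inj (pow_mem hZ3m p) (mul_mem (C.σ_mem 1 hX) hZ3m) hY
  -- the fixed form of the third term
  set W := C.σ 1 Z2 * Z3 with hW
  have hWm : W ∈ C.U := mul_mem (C.σ_mem 1 hZ2m) hZ3m
  have hW1 : W = 1 := by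
    refine C.eq_one_of_pow_eq hWm ?_
    rw [hW, (show Commute (C.σ 1 Z2) Z3 from C.comm_U (C.σ_mem 1 hZ2m) hZ3m).mul_pow, hZ3p,
      ← C.σ_pow, ← mul_assoc, ← C.σ_mul, ← hZ]
  set K := C.ψ (C.σ 1 Z2) * E3 with hK
  have hKp : K ^ p = K := by
    rw [hK, mul_pow, hE3p, ← C.psi_pow (C.σ_mem 1 hZ2m), ← C.σ_pow, ← mul_assoc,
      ← C.hψmul _ (C.σ_mem 1 (pow_mem hZ2m p)) _ (C.σ_mem 1 hX), ← C.σ_mul, ← hZ]
  obtain ⟨n₂, hn₂⟩ := exists_nat_of_pow_eq (p := p) hE2p.symm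
  obtain ⟨n₃, hn₃⟩ := exists_nat_of_pow_eq (p := p) hKp
  refine ⟨n₂, n₃, ?_⟩
  rw [zpow_natCast, zpow_natCast, ← C.pe_natCast, ← C.pe_natCast, hn₂, hn₃]
  have h3 : C.σ 1 Z2 * g3 = C.pe K := by
    rw [hg3, ← mul_assoc, C.conj_pe (C.σ_mem 1 hZ2m), mul_assoc, ← hW, hW1, mul_one]
  rw [← h3]
  refine Eq.trans ?_ T1
  rw [hg2, σ]
  group

omit [Finite F] hq in
/-- The commutativity of `Q` turns a relation without `U` into an identity among the `s^n t^(-n)`. -/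
theorem c_identity {b n₂ n₃ : ℤ}
    (h : C.s ^ b * C.t ^ (-1 : ℤ) * C.s ^ n₂ * C.t ^ (-1 : ℤ) * C.s ^ n₃ * C.t ^ (2 : ℤ) = 1) :
    (C.s ^ (b + 1) * (C.t ^ (b + 1))⁻¹) * (C.s ^ (b + n₂) * (C.t ^ (b + n₂))⁻¹) =
      C.s ^ (1 : ℤ) * (C.t ^ (1 : ℤ))⁻¹ := by
  have hper : ∀ i : ℤ, C.s ^ (i + p) = C.s ^ i := fun i => by
    rw [zpow_add, zpow_natCast, C.s_pow_p, mul_one]
  set c : ℤ → G := fun n => C.s ^ n * (C.t ^ n)⁻¹ with hc
  set p2 := b - 1 + n₂ with hp2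
  have hcQ : ∀ n, c n ∈ C.Q := C.c_mem
  -- the exponents add up to zero
  set a := C.s ^ (b + n₂ + n₃) with ha
  have hS : a = 1 := by
    have h1 : C.s ^ b * C.t ^ (-1 : ℤ) * C.s ^ n₂ * C.t ^ (-1 : ℤ) * C.s ^ n₃ * C.t ^ (2 : ℤ) =
        (c b * (c (b - 1))⁻¹ * (c p2 * (c (p2 - 1))⁻¹) * c (-2)) *
          ((C.t ^ (2 : ℤ))⁻¹ * C.s ^ (2 : ℤ) * a * C.s ^ (-2 : ℤ) * C.t ^ (2 : ℤ)) := by
      simp only [hc, hp2, ha]; group
    rw [h] at h1
    have h2 : (C.t ^ (2 : ℤ))⁻¹ * C.s ^ (2 : ℤ) * a * C.s ^ (-2 : ℤ) * C.t ^ (2 : ℤ) ∈ C.Q := by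
      rw [← inv_eq_of_mul_eq_one_right h1.symm]
      exact inv_mem (mul_mem (mul_mem (mul_mem (hcQ _) (inv_mem (hcQ _)))
        (mul_mem (hcQ _) (inv_mem (hcQ _)))) (hcQ _))
    have h3 : a = (c (-2))⁻¹ * ((c (-2)) * a * (c (-2))⁻¹) * c (-2) := by group
    have h4 : c (-2) * ((C.t ^ (2 : ℤ))⁻¹ * C.s ^ (2 : ℤ) * a * C.s ^ (-2 : ℤ) * C.t ^ (2 : ℤ)) * (c (-2))⁻¹
        = C.s ^ (-2 : ℤ) * (C.s ^ (2 : ℤ) * a * C.s ^ (-2 : ℤ)) * C.s ^ (2 : ℤ) := by
      simp only [hc]; group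
    have h5 : C.s ^ (-2 : ℤ) * (C.s ^ (2 : ℤ) * a * C.s ^ (-2 : ℤ)) * C.s ^ (2 : ℤ) = a := by group
    refine C.eq_one_of_mem_Q ?_ ?_
    · rw [← h5, ← h4]
      exact mul_mem (mul_mem (hcQ _) h2) (inv_mem (hcQ _))
    · rw [ha, ← zpow_natCast, ← zpow_mul, mul_comm, zpow_mul, zpow_natCast, C.s_pow_p, one_zpow]
  have h0 : c b * (c (b - 1))⁻¹ * (c p2 * (c (p2 - 1))⁻¹) * c (-2) = 1 := by
    rw [← h, show C.s ^ n₃ = C.s ^ (-b - n₂) * a from by rw [ha, ← zpow_add]; congr 1; ring, hS, mul_one]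
    simp only [hc, hp2]; group
  -- move to the shifts of `y`
  set Y : ℤ → G := fun n => C.s ^ n * C.y * (C.s ^ n)⁻¹ with hY
  have hYQ : ∀ n, Y n ∈ C.Q := fun n =>
    (Subgroup.mem_normalizer_iff.1 (zpow_mem C.s_mem_normalizer_Q n) _).1 C.hy
  have hcY : ∀ n, c n = Y n * (Y 0)⁻¹ := fun n => by
    simp only [hc, hY, t, conj_zpow]; group
  have hshift : ∀ j : ℤ, Y (b + j) * (Y (b - 1 + j))⁻¹ * (Y (p2 + j) * (Y (p2 - 1 + j))⁻¹) *
      (Y (-2 + j) * (Y j)⁻¹) = 1 := fun j => by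
    calc _ = C.s ^ j * (c b * (c (b - 1))⁻¹ * (c p2 * (c (p2 - 1))⁻¹) * c (-2)) * (C.s ^ j)⁻¹ := by
          simp only [hcY, hY]; group
      _ = 1 := by rw [h0]; group
  have : IsMulCommutative C.Q := IsMulCommutative.of_comm fun x y => Subtype.ext (C.hQc _ x.2 _ y.2)
  open scoped IsMulCommutative in
  let W : ℤ → C.Q := fun n => ⟨Y n, hYQ n⟩
  open scoped IsMulCommutative in
  have hWshift : ∀ j : ℤ, W (b + j) * (W (b - 1 + j))⁻¹ * (W (p2 + j) * (W (p2 - 1 + j))⁻¹) *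
      (W (-2 + j) * (W j)⁻¹) = 1 := fun j => Subtype.ext (hshift j)
  open scoped IsMulCommutative in
  have key : W (b + 1) * W (b + n₂) = W 1 * W 0 := by
    let D : ℕ → C.Q := fun i => W (b + 1 + i) * W (b + n₂ + i) * (W (1 + i) * W i)⁻¹
    have hD : ∀ i, D (i + 1) = D i := by
      intro i
      have hj := hWshift (2 + i)
      rw [show b + (2 + (i : ℤ)) = b + 1 + ((i + 1 : ℕ) : ℤ) by push_cast; ring,
        show b - 1 + (2 + (i : ℤ)) = b + 1 + i by ring,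
        show p2 + (2 + (i : ℤ)) = b + n₂ + ((i + 1 : ℕ) : ℤ) by push_cast; rw [hp2]; ring,
        show p2 - 1 + (2 + (i : ℤ)) = b + n₂ + i by rw [hp2]; ring,
        show (-2 : ℤ) + (2 + (i : ℤ)) = i by ring,
        show (2 : ℤ) + i = 1 + ((i + 1 : ℕ) : ℤ) by push_cast; ring] at hj
      rw [← mul_inv_eq_one, ← hj]
      simp only [D, mul_inv_rev, inv_inv]
      rw [show ((i + 1 : ℕ) : ℤ) = 1 + (i : ℤ) by push_cast; ring]
      apply Additive.ofMul.injective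
      simp only [ofMul_mul, ofMul_inv]
      abel
    have hD0 : ∀ i, D i = D 0 := fun i => by
      induction i with
      | zero => rfl
      | succ i ih => rw [hD, ih]
    have hWper : ∀ n : ℤ, W (n + p) = W n := fun n => Subtype.ext (by simp only [W, hY, hper])
    let S : ℤ → C.Q := fun n => ∏ i ∈ Finset.range p, W (n + i)
    have hS1 : ∀ n, S (n + 1) = S n := by
      intro n
      have h1 := Finset.prod_range_succ' (fun i : ℕ => W (n + i)) p
      rw [Finset.prod_range_succ, hWper, Nat.cast_zero, add_zero] at h1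
      refine Eq.trans ?_ (mul_right_cancel h1).symm
      exact Finset.prod_congr rfl fun i _ => congrArg W (by push_cast; ring)
    have hS0 : ∀ n, S n = S 0 := fun n => by
      induction n using Int.induction_on with
      | zero => rfl
      | succ k ih => rw [hS1, ih]
      | pred k ih => rw [← ih, ← hS1 (-(k : ℤ) - 1), sub_add_cancel]
    have hprod : D 0 ^ p = 1 := by
      have h2 : ∏ i ∈ Finset.range p, D i = D 0 ^ p := by
        rw [Finset.prod_congr rfl fun i _ => hD0 i, Finset.prod_const, Finset.card_range]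
      rw [← h2]
      simp only [D, Finset.prod_mul_distrib, Finset.prod_inv_distrib]
      have e1 : ∏ i ∈ Finset.range p, W (i : ℤ) = S 0 :=
        Finset.prod_congr rfl fun i _ => by rw [zero_add]
      change S (b + 1) * S (b + n₂) * (S 1 * _)⁻¹ = 1
      rw [e1, hS0 (b + 1), hS0 (b + n₂), hS0 1, mul_inv_cancel]
    have h1 : D 0 = 1 := Subtype.ext (C.eq_one_of_mem_Q (D 0).2 (congrArg Subtype.val hprod))
    simp only [D, Nat.cast_zero, add_zero, mul_inv_eq_one] at h1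
    exact h1
  have key' : Y (b + 1) * Y (b + n₂) = Y 1 * Y 0 := congrArg Subtype.val key
  show c (b + 1) * c (b + n₂) = c 1
  rw [hcY, hcY, hcY]
  have hcomm := fun m n => C.hQc _ (hYQ m) _ (hYQ n)
  calc Y (b + 1) * (Y 0)⁻¹ * (Y (b + n₂) * (Y 0)⁻¹)
      = Y (b + 1) * ((Y 0)⁻¹ * Y (b + n₂)) * (Y 0)⁻¹ := by group
    _ = Y (b + 1) * (Y (b + n₂) * (Y 0)⁻¹) * (Y 0)⁻¹ := by
        rw [C.hQc _ (inv_mem (hYQ 0)) _ (hYQ _)]
    _ = (Y (b + 1) * Y (b + n₂)) * (Y 0)⁻¹ * (Y 0)⁻¹ := by group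
    _ = _ := by rw [key']; group

/-- The last step: the coefficient is `-1`. -/
theorem coefficient (hp2 : p ≠ 2) {u v : G} (hu : u ∈ C.U) (hv : v ∈ C.U) (hsum : C.ψ u + C.ψ v = 2) :
    ∃ η ∈ C.U, 2 * C.ψ (C.σ (-3) u) - 1 = C.ψ η := by
  have hu3 := C.σ_mem (-3) hu
  have hne : 1 - 2 * C.ψ (C.σ (-3) u) ≠ 0 := by
    intro h
    have h2 : (2 : F) * C.ψ (C.σ (-3) u) = 1 := by linear_combination -h
    have hap : C.ψ (C.σ (-3) u) ^ p = C.ψ (C.σ (-3) u) := by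
      have h3 := congrArg (· ^ p) h2
      simp only [mul_pow, one_pow] at h3
      rw [show (2 : F) ^ p = 2 by simpa using intCast_pow (p := p) (F := F) 2] at h3
      exact mul_left_cancel₀ (fun h0 => by rw [h0, zero_mul] at h2; exact zero_ne_one h2) (h3.trans h2.symm)
    rw [C.psi_ne_self (C.psi_pow_m hu3) hap (C.hψ _ hu3).1] at h2
    exact one_ne_zero (show (1 : F) = 0 by linear_combination h2)
  obtain ⟨n, η, hη, hn⟩ := C.decompose hne
  refine ⟨η, hη, ?_⟩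
  obtain ⟨n₂, n₃, hR⟩ := C.pure_relation hu hv hη (b := (n : ℤ)) hsum (by rw [Int.cast_natCast]; exact hn)
  have hid := C.c_identity hR
  set A : ℤ := (n : ℤ) + 1 with hA
  set B : ℤ := (n : ℤ) + n₂
  by_cases h1A : (p : ℤ) ∣ 1 - A
  · exfalso
    have : ((n : ℤ) : F) = 0 := by
      rw [CharP.intCast_eq_zero_iff F p]
      rw [hA, show (1 : ℤ) - (n + 1) = -n by ring, dvd_neg] at h1A
      exact h1A
    rw [Int.cast_natCast] at this
    exact hne (by rw [hn, this, zero_mul])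
  obtain ⟨w, hw, hw1⟩ := C.exists_U_ne_one
  have hg : C.InH (C.s ^ (-A) * w * C.s ^ A) := by
    rw [C.conj_s _ _ hw]; exact C.inH_mk _ hw
  have hinv : (C.s ^ A * (C.t ^ A)⁻¹)⁻¹ = (C.s ^ (1 : ℤ) * (C.t ^ (1 : ℤ))⁻¹)⁻¹ * (C.s ^ B * (C.t ^ B)⁻¹) := by
    rw [← hid, C.hQc _ (C.c_mem A) _ (C.c_mem B)]
    group
  have hgU : C.s ^ (-A) * w * C.s ^ A ∈ C.U := by
    refine C.inter h1A hg ?_
    have e : C.t ^ (-(1 - A)) * (C.s ^ (-A) * w * C.s ^ A) * C.t ^ (1 - A) =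
        C.t ^ (-1 : ℤ) * ((C.s ^ A * (C.t ^ A)⁻¹)⁻¹ * w * (C.s ^ A * (C.t ^ A)⁻¹)) * C.t ^ (1 : ℤ) := by
      group
    rw [e, hinv, ← inv_inv (C.s ^ A * (C.t ^ A)⁻¹), hinv]
    have e2 : C.t ^ (-1 : ℤ) * ((C.s ^ (1 : ℤ) * (C.t ^ (1 : ℤ))⁻¹)⁻¹ * (C.s ^ B * (C.t ^ B)⁻¹) * w *
        ((C.s ^ (1 : ℤ) * (C.t ^ (1 : ℤ))⁻¹)⁻¹ * (C.s ^ B * (C.t ^ B)⁻¹))⁻¹) * C.t ^ (1 : ℤ) =
        C.s ^ (B - 1) * C.σ (-B) w * C.s ^ (1 - B) := by
      simp only [σ]; group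
    rw [e2, C.conj_s _ _ (C.σ_mem _ hw)]
    exact C.inH_mk _ (C.σ_mem _ hw)
  rw [C.conj_s _ _ hw] at hgU
  have h0 := (C.mk_inj (e := ((-A : ℤ) : F) + C.ψ w * (A : F)) (e' := 0) hw hgU (by rw [C.pe_zero, one_mul])).1
  have hA0 : (A : F) = 0 := by
    have h2 : (A : F) * (C.ψ w - 1) = 0 := by rw [Int.cast_neg] at h0; linear_combination h0
    exact (mul_eq_zero.1 h2).resolve_right (sub_ne_zero.2 hw1)
  rw [hA] at hA0
  push_cast at hA0
  linear_combination -hn - C.ψ η * hA0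

/-- **The set of pairs is closed under inversion.** -/
theorem inv_closed (hp2 : p ≠ 2) {u v : G} (hu : u ∈ C.U) (hv : v ∈ C.U) (hsum : C.ψ u + C.ψ v = 2) :
    ∃ v' ∈ C.U, C.ψ u⁻¹ + C.ψ v' = 2 := by
  let E : Set G := {x | x ∈ C.U ∧ ∃ v' ∈ C.U, C.ψ x + C.ψ v' = 2}
  have hT : ∀ x ∈ E, (C.σ (-3) x)⁻¹ ∈ E := by
    rintro x ⟨hx, w, hw, hxw⟩
    obtain ⟨η, hη, he⟩ := C.coefficient hp2 hx hw hxw
    have hx3 := C.σ_mem (-3) hx
    refine ⟨inv_mem hx3, η * (C.σ (-3) x)⁻¹, mul_mem hη (inv_mem hx3), ?_⟩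
    rw [C.hψmul _ hη _ (inv_mem hx3), C.psi_inv hx3, ← he]
    field_simp [(C.hψ _ hx3).1]
    ring
  have hT2 : ∀ x ∈ E, C.σ (-6) x ∈ E := fun x hx => by
    have h := hT _ (hT x hx)
    convert h using 1
    simp only [σ]; group
  have hiter : ∀ (k : ℕ), ∀ x ∈ E, C.σ (-6 * k) x ∈ E := by
    intro k
    induction k with
    | zero => intro x hx; simpa [σ] using hx
    | succ k ih =>
      intro x hx
      convert hT2 _ (ih x hx) using 1
      simp only [σ]; push_cast; group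
  have h := hiter ((p - 1) / 2) _ (hT u ⟨hu, v, hv, hsum⟩)
  obtain ⟨k, hk⟩ := (hp.out.odd_of_ne_two hp2)
  rw [show (p - 1) / 2 = k by omega] at h
  have hσ : C.σ (-6 * (k : ℤ)) ((C.σ (-3) u)⁻¹) = u⁻¹ := by
    have ht : C.t ^ ((p : ℤ) * (-3)) = 1 := by rw [zpow_mul, zpow_natCast, C.t_pow_p, one_zpow]
    calc _ = C.t ^ (-6 * (k : ℤ) + -3) * u⁻¹ * (C.t ^ (-6 * (k : ℤ) + -3))⁻¹ := by simp only [σ]; group
      _ = _ := by
        rw [show (-6 : ℤ) * k + -3 = (p : ℤ) * (-3) by rw [hk]; push_cast; ring, ht]; group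
  rw [hσ] at h
  exact h.2

end Data

end CfsgLib.FieldConfig
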