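import Cfsg.Agent.Lib.CharDeep.Clifford
import Cfsg.Agent.Lib.CharDeep.Extend
import Cfsg.Agent.Lib.CharTools.Basic
import Cfsg.Agent.Lib.OddChar.CyclicTI
import Cfsg.Agent.S1489

/-!
Characters over an invariant character with abelian quotient.
-/

set_option autoImplicit false

open ComplexConjugate

namespace CfsgLib.OddChar.AbelInertia

theorem exists_linear_kernel_sum {T : Type*} [Group T] [Fintype T] (H : Subgroup T) [H.Normal]
    (hab : ∀ x y : T, x * y * x⁻¹ * y⁻¹ ∈ H) :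
    ∃ Λ : Finset (T →* ℂˣ), 0 < Λ.card ∧ (∀ f ∈ Λ, ∀ h ∈ H, f h = 1) ∧
      ∀ x : T, x ∉ H → ∑ f ∈ Λ, (f x : ℂ) = 0 := by
  classical
  haveI : Finite (T →* ℂˣ) := finite_linearChar _
  letI : Fintype (T →* ℂˣ) := Fintype.ofFinite _
  refine ⟨Finset.univ.filter fun f => ∀ h ∈ H, f h = 1, Finset.card_pos.2 ⟨1, by simp⟩,
    fun f hf => (Finset.mem_filter.1 hf).2, fun x hx => ?_⟩
  letI : CommGroup (T ⧸ H) :=
    { (inferInstance : Group (T ⧸ H)) with
      mul_comm := fun a b => by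
        obtain ⟨a, rfl⟩ := QuotientGroup.mk_surjective a
        obtain ⟨b, rfl⟩ := QuotientGroup.mk_surjective b
        rw [← QuotientGroup.mk_mul, ← QuotientGroup.mk_mul, QuotientGroup.eq]
        simpa [mul_assoc] using hab b⁻¹ a⁻¹ }
  obtain ⟨φ, hφ⟩ := CommGroup.exists_apply_ne_one_of_hasEnoughRootsOfUnity (T ⧸ H) ℂ
    (a := QuotientGroup.mk' H x) (by simpa using hx)
  set f₁ := φ.comp (QuotientGroup.mk' H)
  have hH : ∀ h ∈ H, f₁ h = 1 := fun h hh => by simp [f₁, (QuotientGroup.eq_one_iff h).2 hh]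
  set S := ∑ f ∈ Finset.univ.filter (fun f : T →* ℂˣ => ∀ h ∈ H, f h = 1), (f x : ℂ)
  have h1 : (f₁ x : ℂ) * S = S := by
    rw [Finset.mul_sum]
    refine Finset.sum_equiv (Equiv.mulLeft f₁) (fun f => ?_) (fun f _ => by simp)
    simp only [Finset.mem_filter, Finset.mem_univ, true_and, Equiv.coe_mulLeft,
      MonoidHom.mul_apply]
    exact forall₂_congr fun h hh => by rw [hH h hh, one_mul]
  have h2 : (f₁ x : ℂ) - 1 ≠ 0 := sub_ne_zero.2 fun h => hφ (Units.ext h)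
  exact (mul_eq_zero.1 (show ((f₁ x : ℂ) - 1) * S = 0 by linear_combination h1)).resolve_left h2

/-- Over an invariant character with abelian quotient all constituents restrict alike. -/
theorem invariant_decomp {T : Type*} [Group T] [Fintype T] (H : Subgroup T) [H.Normal] [Fintype H]
    (hab : ∀ x y : T, x * y * x⁻¹ * y⁻¹ ∈ H) {θ : H → ℂ} (hθ : Cfsg.IsIrrCharacter H θ)
    (hinv : ∀ g, CharTwist.conjFun H θ g = θ) {ψ : T → ℂ} (hψ : Cfsg.IsIrrCharacter T ψ) {e : ℕ}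
    (he : 0 < e) (hres : ∀ h : H, ψ h = (e : ℂ) * θ h) :
    ∃ C : Finset (T → ℂ), (∀ χ ∈ C, Cfsg.IsIrrCharacter T χ) ∧ e ^ 2 * C.card = H.index ∧
      Cfsg.indFun H θ = (e : ℂ) • ∑ χ ∈ C, χ ∧ (∀ χ ∈ C, χ 1 = (e : ℂ) * θ 1) ∧
      ∀ χ ∈ C, Cfsg.classInner (Cfsg.indFun H θ) χ ≠ 0 := by
  classical
  obtain ⟨Λ, hΛ, hΛ1, hΛ0⟩ := exists_linear_kernel_sum H hab
  have hne : (e : ℂ) ≠ 0 := Nat.cast_ne_zero.2 he.ne'
  have hi : (H.index : ℂ) ≠ 0 := Nat.cast_ne_zero.2 Subgroup.index_ne_zero_of_finite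
  have key : (∑ f ∈ Λ, fun x => (f x : ℂ) * ψ x) =
      ((Λ.card : ℂ) * e / H.index) • Cfsg.indFun H θ := by
    funext x
    rw [Finset.sum_apply, Pi.smul_apply, smul_eq_mul]
    by_cases hx : x ∈ H
    · rw [show Cfsg.indFun H θ x = (H.index : ℂ) * θ ⟨x, hx⟩ from
        CharDeep.Cliff.indFun_res_invariant H hinv ⟨x, hx⟩,
        Finset.sum_congr rfl (g := fun _ => ψ x), Finset.sum_const, nsmul_eq_mul,
        show ψ x = (e : ℂ) * θ ⟨x, hx⟩ from hres ⟨x, hx⟩]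
      · field_simp
      · intro f hf; rw [hΛ1 f hf x hx, Units.val_one, one_mul]
    · rw [Char.indFun_eq_zero_of_normal H θ hx, mul_zero, ← Finset.sum_mul, hΛ0 x hx, zero_mul]
  have hinner : ∀ χ : T → ℂ, Cfsg.IsIrrCharacter T χ →
      Cfsg.classInner (Cfsg.indFun H θ) χ ≠ 0 → ∀ h : H, χ h = (e : ℂ) * θ h := by
    intro χ hχ hc
    by_contra hn
    push_neg at hn
    obtain ⟨h₀, hh₀⟩ := hn
    have h0 : Cfsg.classInner (∑ f ∈ Λ, fun x => (f x : ℂ) * ψ x) χ = 0 := by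
      rw [Char.classInner_sum_left]
      refine Finset.sum_eq_zero fun f hf =>
        Char.classInner_irr_of_ne (Char.IsIrrCharacter.linear_mul hψ f) hχ fun e' => hh₀ ?_
      rw [← congrFun e' (h₀ : T), hΛ1 f hf _ h₀.2, Units.val_one, one_mul, hres]
    rw [key, Char.classInner_smul_left] at h0
    exact hc ((mul_eq_zero.1 h0).resolve_left (div_ne_zero
      (mul_ne_zero (Nat.cast_ne_zero.2 hΛ.ne') hne) hi))
  have hval : ∀ χ : T → ℂ, Cfsg.IsIrrCharacter T χ →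
      Cfsg.classInner (Cfsg.indFun H θ) χ ≠ 0 → Cfsg.classInner (Cfsg.indFun H θ) χ = e := by
    intro χ hχ hc
    rw [Char.classInner_indFun H θ χ (Char.IsIrrCharacter.isClassFunction hχ),
      show (fun h : H => χ h) = (e : ℂ) • θ from funext (hinner χ hχ hc),
      Char.classInner_smul_right, Char.classInner_irr_self hθ, mul_one]
    simp
  let C : Finset (Cfsg.IrrCharacter T) := Finset.univ.filter fun χ =>
    Cfsg.classInner (Cfsg.indFun H θ) (χ : T → ℂ) ≠ 0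
  have hdec : Cfsg.indFun H θ = ∑ χ ∈ C, (e : ℂ) • (χ : T → ℂ) := by
    conv_lhs => rw [Char.IsClassFunction.eq_sum_classInner (Char.isClassFunction_indFun H θ)]
    rw [← Finset.sum_subset (Finset.subset_univ C)]
    · exact Finset.sum_congr rfl fun χ hχ => by rw [hval _ χ.2 (Finset.mem_filter.1 hχ).2]
    · intro χ _ hχ
      have : Cfsg.classInner (Cfsg.indFun H θ) (χ : T → ℂ) = 0 := by simpa [C] using hχ
      rw [this, zero_smul]
  have hn : (H.index : ℂ) = (e : ℂ) ^ 2 * C.card := by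
    rw [← CharDeep.Cliff.classInner_indFun_self H hθ hinv]
    nth_rewrite 2 [hdec]
    rw [Char.classInner_sum_right, Finset.sum_congr rfl (g := fun _ => (e : ℂ) ^ 2),
      Finset.sum_const, nsmul_eq_mul]
    · ring
    · intro χ hχ
      rw [Char.classInner_smul_right, hval _ χ.2 (Finset.mem_filter.1 hχ).2]
      simp [sq]
  refine ⟨C.image Subtype.val, ?_, ?_, ?_, ?_, ?_⟩
  · intro χ hχ
    obtain ⟨χ, -, rfl⟩ := Finset.mem_image.1 hχ
    exact χ.2
  · rw [Finset.card_image_of_injective _ Subtype.val_injective]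
    exact_mod_cast hn.symm
  · rw [Finset.sum_image fun a _ b _ h => Subtype.ext h, Finset.smul_sum]
    exact hdec
  · intro χ hχ
    obtain ⟨a, ha, rfl⟩ := Finset.mem_image.1 hχ
    exact hinner _ a.2 (Finset.mem_filter.1 ha).2 1
  · intro χ hχ
    obtain ⟨a, ha, rfl⟩ := Finset.mem_image.1 hχ
    exact (Finset.mem_filter.1 ha).2

/-- An invariant character extends when the quotient order is coprime to the order of `H`. -/
theorem exists_ext_coprime {T : Type*} [Group T] [Fintype T] (H : Subgroup T) [hH : H.Normal]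
    {θ : H → ℂ} (hθ : Cfsg.IsIrrCharacter H θ) (hinv : ∀ g, CharTwist.conjFun H θ g = θ)
    (hcop : Nat.Coprime (Nat.card H) H.index) :
    ∃ χ : T → ℂ, Cfsg.IsIrrCharacter T χ ∧ ∀ h : H, χ h = θ h := by
  have hinv' : ∀ (g : T) (n : H), θ ⟨g * n * g⁻¹, hH.conj_mem (n : T) n.2 g⟩ = θ n :=
    fun g n => congrFun (hinv g) n
  obtain ⟨d, -, hd⟩ := Char.IsIrrCharacter.exists_degree hθ
  have hdd : d ∣ Nat.card H := by
    have h := CharTools.degree_dvd_card (⟨θ, hθ⟩ : Cfsg.IrrCharacter H)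
    rwa [show Cfsg.charDegree θ = d by simp [Cfsg.charDegree, hd]] at h
  obtain ⟨δ, hδ⟩ := CharDeep.Extend.exists_det_hom H θ hθ
  have hord : Nat.Coprime H.index (orderOf δ) := by
    refine Nat.Coprime.coprime_dvd_right ?_ hcop.symm
    refine orderOf_dvd_of_pow_eq_one (MonoidHom.ext fun n => ?_)
    rw [MonoidHom.pow_apply, MonoidHom.one_apply, ← map_pow, pow_card_eq_one', map_one]
  obtain ⟨μ, hμ, -⟩ := CharDeep.Lin.exists_ext_coprime δ (fun g n => Units.ext (by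
    have := CharDeep.Extend.det_invariant H θ hinv' hθ g n
    rw [hδ] at this
    exact this)) hord
  exact CharDeep.Extend.extends_of_det H θ hθ hinv' d hd (hcop.symm.coprime_dvd_right hdd) μ
    fun n => by rw [hμ n, hδ]

theorem isIrr_transport {G : Type*} [Group G] [Fintype G] (H T : Subgroup G) (hHT : H ≤ T)
    {θ : H → ℂ} (hθ : Cfsg.IsIrrCharacter H θ) :
    Cfsg.IsIrrCharacter (H.subgroupOf T)
      (fun x => θ ⟨(x : T), Subgroup.mem_subgroupOf.mp x.2⟩) :=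
  CharTwist.isIrrCharacter_comp_equiv hθ (Subgroup.subgroupOfEquivOfLe hHT)

/-- The relative statement: transfer a decomposition from the inertia group to `G`. -/
theorem induce_up {G : Type*} [Group G] [Fintype G] (H T : Subgroup G) [hN : H.Normal] [Fintype T]
    {θ : H → ℂ} (hθ : Cfsg.IsIrrCharacter H θ)
    (hT : ∀ g : G, g ∈ T ↔ ∀ h : H, θ ⟨g * h * g⁻¹, hN.conj_mem h h.2 g⟩ = θ h) (hHT : H ≤ T)
    (e : ℕ) (C : Finset (T → ℂ)) (hC : ∀ χ ∈ C, Cfsg.IsIrrCharacter T χ)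
    (hdec : Cfsg.indFun (H.subgroupOf T) (fun x => θ ⟨(x : T), Subgroup.mem_subgroupOf.mp x.2⟩) =
      (e : ℂ) • ∑ χ ∈ C, χ)
    (hne : ∀ χ ∈ C, Cfsg.classInner (Cfsg.indFun (H.subgroupOf T)
      (fun x => θ ⟨(x : T), Subgroup.mem_subgroupOf.mp x.2⟩)) χ ≠ 0)
    (hdeg : ∀ χ ∈ C, χ 1 = (e : ℂ) * θ 1) :
    ∃ D : Finset (G → ℂ), (∀ χ ∈ D, Cfsg.IsIrrCharacter G χ) ∧ D.card = C.card ∧
      Cfsg.indFun H θ = (e : ℂ) • ∑ χ ∈ D, χ ∧
      ∀ χ ∈ D, χ 1 = (T.index : ℂ) * e * θ 1 := by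
  classical
  have hinj : ∀ a ∈ C, ∀ b ∈ C, Cfsg.indFun T a = Cfsg.indFun T b → a = b := fun a ha b hb =>
    (Cfsg.Agent.S1489.result H T θ hθ hT hHT a b (hC a ha) (hC b hb) (hne a ha) (hne b hb)).2
  refine ⟨C.image (Cfsg.indFun T), ?_, ?_, ?_, ?_⟩
  · intro χ hχ
    obtain ⟨a, ha, rfl⟩ := Finset.mem_image.1 hχ
    exact (Cfsg.Agent.S1489.result H T θ hθ hT hHT a a (hC a ha) (hC a ha) (hne a ha) (hne a ha)).1
  · exact Finset.card_image_of_injOn hinj
  · rw [Finset.sum_image hinj, ← Char.indFun_sum, ← Char.indFun_smul, ← hdec]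
    exact (Char.indFun_indFun H T hHT θ).symm
  · intro χ hχ
    obtain ⟨a, ha, rfl⟩ := Finset.mem_image.1 hχ
    rw [Char.indFun_apply_one, hdeg a ha]; ring

end CfsgLib.OddChar.AbelInertia
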