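import Cfsg.Agent.Lib.OddChar.FrobSection
import Cfsg.Agent.Lib.OddChar.Coprime
import Cfsg.Agent.S0033

/-!
A normal subgroup `H` containing the centralisers of its non-identity elements: coprimality, free
action on sections, nilpotency.
-/

set_option autoImplicit false

namespace CfsgLib.OddChar.FrobKernel

variable {N : Type*} [Group N] [Finite N] (H : Subgroup N) [H.Normal]
  (hC : ∀ h ∈ H, h ≠ 1 → Subgroup.centralizer ({h} : Set N) ≤ H)

include hC

theorem mem_of_commute {h x : N} (hh : h ∈ H) (h1 : h ≠ 1) (hx : x * h = h * x) : x ∈ H :=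
  hC h hh h1 (Subgroup.mem_centralizer_singleton_iff.2 hx)

theorem not_dvd_index {p : ℕ} [hp : Fact p.Prime] (hdvd : p ∣ Nat.card H) : ¬ p ∣ H.index := by
  intro hidx
  obtain ⟨x, hx⟩ := exists_prime_orderOf_dvd_card' (G := H) p hdvd
  have hxp : IsPGroup p (Subgroup.zpowers (x : N)) := by
    refine IsPGroup.of_card (n := 1) ?_
    rw [Nat.card_zpowers, pow_one, Subgroup.orderOf_coe, hx]
  obtain ⟨P, hP⟩ := hxp.exists_le_sylow
  have hxP : (x : N) ∈ (P : Subgroup N) := hP (Subgroup.mem_zpowers _)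
  have hx1 : (x : N) ≠ 1 := fun h => hp.out.one_lt.ne' (by rw [← hx, ← Subgroup.orderOf_coe, h,
    orderOf_one])
  haveI : Group.IsNilpotent (P : Subgroup N) := P.isPGroup'.isNilpotent
  set Q := H.subgroupOf (P : Subgroup N)
  obtain ⟨n, hn⟩ := (Group.isNilpotent_iff (P : Subgroup N)).1 inferInstance
  -- a central element of `P` in `H`
  have hex : ∃ i, ∃ z ∈ Q, z ≠ 1 ∧ z ∈ Subgroup.upperCentralSeries (P : Subgroup N) i :=
    ⟨n, ⟨x, hxP⟩, Subgroup.mem_subgroupOf.2 x.2, fun h => hx1 (congrArg Subtype.val h),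
      by rw [hn]; trivial⟩
  classical
  obtain ⟨z, hz, hz1, hzi⟩ := Nat.find_spec hex
  obtain ⟨j, hj⟩ : ∃ j, Nat.find hex = j + 1 := by
    refine Nat.exists_eq_succ_of_ne_zero fun h => hz1 ?_
    rw [h, Subgroup.upperCentralSeries_zero] at hzi
    exact Subgroup.mem_bot.1 hzi
  rw [hj] at hzi
  have hzc : ∀ g : (P : Subgroup N), g * z = z * g := by
    intro g
    by_contra hne
    have hmem : z * g * z⁻¹ * g⁻¹ ∈ Subgroup.upperCentralSeries (P : Subgroup N) j :=
      Subgroup.mem_upperCentralSeries_succ_iff.1 hzi g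
    have hQ : z * g * z⁻¹ * g⁻¹ ∈ Q := by
      rw [show z * g * z⁻¹ * g⁻¹ = z * (g * z⁻¹ * g⁻¹) by group]
      exact Q.mul_mem hz (Subgroup.Normal.conj_mem inferInstance _ (Q.inv_mem hz) g)
    refine Nat.find_min hex (show j < Nat.find hex by omega) ⟨_, hQ, fun h => hne ?_, hmem⟩
    calc g * z = (z * g * z⁻¹ * g⁻¹)⁻¹ * (z * g) := by group
      _ = z * g := by rw [h, inv_one, one_mul]
  have hPH : (P : Subgroup N) ≤ H := fun g hg =>
    mem_of_commute H hC (Subgroup.mem_subgroupOf.1 hz) (fun h => hz1 (Subtype.ext h))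
      (congrArg Subtype.val (hzc ⟨g, hg⟩))
  exact P.not_dvd_index (hidx.trans (Subgroup.index_dvd_of_le hPH))

theorem coprime_card_index : Nat.Coprime (Nat.card H) H.index := by
  by_contra h
  obtain ⟨p, hp, h1, h2⟩ := Nat.Prime.not_coprime_iff_dvd.1 h
  haveI := Fact.mk hp
  exact not_dvd_index H hC h1 h2

theorem coprime_orderOf {x : N} (hx : x ∉ H) : Nat.Coprime (orderOf x) (Nat.card H) := by
  have hmem : x ^ H.index ∈ H := H.pow_index_mem x
  have h1 : x ^ H.index = 1 := by
    by_contra h1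
    exact hx (mem_of_commute H hC hmem h1 ((Commute.refl x).pow_right _).eq)
  exact (coprime_card_index H hC).symm.coprime_dvd_left (orderOf_dvd_of_pow_eq_one h1)

/-- Quotients of a Frobenius group by normal subgroups inside the kernel are Frobenius. -/
theorem free_on_section (B : Subgroup N) [B.Normal] (hBH : B ≤ H) :
    ∀ k ∈ H, k ∉ B → ∀ x : N, x * k * x⁻¹ * k⁻¹ ∈ B → x ∈ H := by
  intro k hk hkB x hxk
  by_contra hx
  have hb : k * x * k⁻¹ * x⁻¹ ∈ B := by
    have h := B.inv_mem hxk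
    rwa [show (x * k * x⁻¹ * k⁻¹)⁻¹ = k * x * k⁻¹ * x⁻¹ by group] at h
  obtain ⟨u, hu, c, hc, hcx, he⟩ := exists_conj_centralizer_coset B x
    (by rw [Subgroup.normalizer_eq_top]; trivial)
    ((coprime_orderOf H hC hx).coprime_dvd_right (Subgroup.card_dvd_of_le hBH)) _ hb
  have hc1 : c = 1 := by
    by_contra h
    exact hx (mem_of_commute H hC (hBH hc) h hcx.symm)
  rw [hc1, one_mul] at he
  have hcomm : x * (u * k) = u * k * x := by
    calc x * (u * k) = u * (k * x * k⁻¹ * x⁻¹ * x) * u⁻¹ * (u * k) := by rw [he]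
      _ = u * k * x := by group
  have huk : u * k = 1 := by
    by_contra h
    exact hx (mem_of_commute H hC (H.mul_mem (hBH hu) hk) h hcomm)
  exact hkB (by rw [eq_inv_of_mul_eq_one_right huk]; exact B.inv_mem hu)

theorem isNilpotent (hH : H ≠ ⊤) : Group.IsNilpotent H := by
  obtain ⟨x, hx⟩ : ∃ x, x ∉ H := by
    by_contra h
    push_neg at h
    exact hH ((Subgroup.eq_top_iff' H).2 h)
  by_cases hbot : H = ⊥
  · subst hbot; infer_instance
  have hx1 : orderOf x ≠ 1 := fun h => hx (by rw [orderOf_eq_one_iff.1 h]; exact H.one_mem)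
  obtain ⟨p, hp, m, hm⟩ := Nat.exists_prime_and_dvd hx1
  set y := x ^ m
  have hy : orderOf y = p := by
    have hx0 : orderOf x ≠ 0 := (orderOf_pos x).ne'
    rw [orderOf_pow' x (by rintro rfl; exact hx0 (by rw [hm, mul_zero])),
      Nat.gcd_eq_right (Dvd.intro_left p hm.symm), hm, Nat.mul_div_cancel]
    exact Nat.pos_of_ne_zero (by rintro rfl; exact hx0 (by rw [hm, mul_zero]))
  have hyH : y ∉ H := by
    intro h
    have h1 : y ≠ 1 := fun e => hp.one_lt.ne' (by rw [← hy, e, orderOf_one])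
    exact hx (mem_of_commute H hC h h1 ((Commute.refl x).pow_right m).eq)
  let φ : H ≃* H := MulAut.conjNormal y
  have hfix : ∀ k : H, φ k = k → k = 1 := by
    intro k hk
    by_contra h1
    have hk' : y * (k : N) * y⁻¹ = k := by
      have := congrArg Subtype.val hk
      simpa [φ] using this
    exact hyH (mem_of_commute H hC k.2 (fun e => h1 (Subtype.ext e))
      (mul_inv_eq_iff_eq_mul.1 hk'))
  have hpow : φ ^ p = 1 := by
    show (MulAut.conjNormal y : MulAut H) ^ p = 1
    rw [← map_pow, ← hy, pow_orderOf_eq_one, map_one]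
  haveI := Fact.mk hp
  refine Cfsg.Agent.S0033.result φ hfix p hp (orderOf_eq_prime hpow fun e => ?_)
  obtain ⟨k, hk1⟩ := H.ne_bot_iff_exists_ne_one.1 hbot
  exact hk1 (hfix k (by rw [e]; rfl))

end CfsgLib.OddChar.FrobKernel
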