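import Mathlib.GroupTheory.Nilpotent
import Mathlib.GroupTheory.QuotientGroup.Basic
import Mathlib.GroupTheory.Index

/-!
A chief step below a nilpotent section is centralised by the section.
-/

set_option autoImplicit false

namespace CfsgLib.OddChar.NilQuot

theorem exists_central {H : Type*} [Group H] [Group.IsNilpotent H] (N : Subgroup H) [N.Normal]
    (hN : N ≠ ⊥) : ∃ z ∈ N, z ≠ 1 ∧ z ∈ Subgroup.center H := by
  classical
  obtain ⟨n, hn⟩ := (Group.isNilpotent_iff H).1 inferInstance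
  obtain ⟨z, hz, hz1⟩ := N.ne_bot_iff_exists_ne_one.1 hN |> fun ⟨x, hx⟩ =>
    (⟨x.1, x.2, fun h => hx (Subtype.ext h)⟩ : ∃ z ∈ N, z ≠ 1)
  have hex : ∃ i, ∃ z ∈ N, z ≠ 1 ∧ z ∈ Subgroup.upperCentralSeries H i :=
    ⟨n, z, hz, hz1, by rw [hn]; trivial⟩
  obtain ⟨y, hy, hy1, hyi⟩ := Nat.find_spec hex
  refine ⟨y, hy, hy1, Subgroup.mem_center_iff.2 fun g => ?_⟩
  obtain ⟨j, hj⟩ : ∃ j, Nat.find hex = j + 1 := by
    refine Nat.exists_eq_succ_of_ne_zero fun h => hy1 ?_
    rw [h, Subgroup.upperCentralSeries_zero] at hyi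
    exact Subgroup.mem_bot.1 hyi
  rw [hj] at hyi
  have hmem : y * g * y⁻¹ * g⁻¹ ∈ Subgroup.upperCentralSeries H j :=
    Subgroup.mem_upperCentralSeries_succ_iff.1 hyi g
  have hN' : y * g * y⁻¹ * g⁻¹ ∈ N := by
    rw [show y * g * y⁻¹ * g⁻¹ = y * (g * y⁻¹ * g⁻¹) by group]
    exact N.mul_mem hy (Subgroup.Normal.conj_mem inferInstance _ (N.inv_mem hy) g)
  by_contra hne
  refine Nat.find_min hex (show j < Nat.find hex by omega) ⟨_, hN', fun h => hne ?_, hmem⟩
  calc g * y = (y * g * y⁻¹ * g⁻¹)⁻¹ * (y * g) := by group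
    _ = y * g := by rw [h, inv_one, one_mul]

/-- If `D` is a minimal normal subgroup over `B` inside `H` and `H/M` is nilpotent with `M ≤ B`, then
the commutators of `D` with `H` lie in `B`. -/
theorem commutator_mem_of_minimal {L : Type*} [Group L] (M B D H : Subgroup L) [B.Normal]
    [D.Normal] [H.Normal] [(M.subgroupOf H).Normal]
    (hnil : Group.IsNilpotent (↥H ⧸ M.subgroupOf H)) (hMB : M ≤ B) (hBD : B < D) (hDH : D ≤ H)
    (hmin : ∀ E : Subgroup L, E.Normal → B < E → E ≤ D → E = D) :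
    ∀ x ∈ D, ∀ y ∈ H, x * y * x⁻¹ * y⁻¹ ∈ B := by
  set π := QuotientGroup.mk' B
  have hker : M.subgroupOf H ≤ (π.subgroupMap H).ker := fun x hx => by
    rw [MonoidHom.mem_ker]
    exact Subtype.ext ((QuotientGroup.eq_one_iff _).2 (hMB (Subgroup.mem_subgroupOf.1 hx)))
  have hsurj : Function.Surjective (QuotientGroup.lift (M.subgroupOf H) (π.subgroupMap H) hker) :=
    QuotientGroup.lift_surjective_of_surjective _ _ (π.subgroupMap_surjective H) hker
  haveI : Group.IsNilpotent (H.map π) :=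
    haveI := hnil
    Group.nilpotent_of_surjective _ hsurj
  haveI : (D.map π).Normal := Subgroup.Normal.map inferInstance π (QuotientGroup.mk'_surjective B)
  have hne : (D.map π).subgroupOf (H.map π) ≠ ⊥ := by
    obtain ⟨d, hd, hdB⟩ := SetLike.exists_of_lt hBD
    intro h
    have h1 : (⟨π d, Subgroup.mem_map_of_mem π (hDH hd)⟩ : H.map π) ∈
        (D.map π).subgroupOf (H.map π) :=
      Subgroup.mem_subgroupOf.2 (Subgroup.mem_map_of_mem π hd)
    rw [h, Subgroup.mem_bot] at h1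
    exact hdB ((QuotientGroup.eq_one_iff d).1 (congrArg Subtype.val h1))
  obtain ⟨z, hz, hz1, hzc⟩ := exists_central _ hne
  haveI : (H.map π).Normal := Subgroup.Normal.map inferInstance π (QuotientGroup.mk'_surjective B)
  set C := Subgroup.centralizer ((H.map π : Subgroup (L ⧸ B)) : Set (L ⧸ B))
  set E := D ⊓ C.comap π
  haveI : C.Normal := inferInstance
  have hBE : B ≤ E := fun b hb => ⟨hBD.le hb, by
    show π b ∈ C
    rw [show π b = 1 from (QuotientGroup.eq_one_iff b).2 hb]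
    exact one_mem _⟩
  obtain ⟨d, hd, hdz⟩ := Subgroup.mem_map.1 (Subgroup.mem_subgroupOf.1 hz)
  have hdE : d ∈ E := ⟨hd, by
    show π d ∈ C
    rw [hdz, Subgroup.mem_centralizer_iff]
    intro y hy
    exact congrArg Subtype.val (Subgroup.mem_center_iff.1 hzc ⟨y, hy⟩)⟩
  have hlt : B < E := lt_of_le_of_ne hBE fun h => hz1 (Subtype.ext (by
    show (z : L ⧸ B) = 1
    rw [← hdz]
    exact (QuotientGroup.eq_one_iff d).2 (h ▸ hdE)))
  have hED := hmin E inferInstance hlt inf_le_left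
  intro x hx y hy
  have hxC : π x ∈ C := by
    have : x ∈ E := hED.symm ▸ hx
    exact this.2
  have hcomm := Subgroup.mem_centralizer_iff.1 hxC (π y) (Subgroup.mem_map_of_mem π hy)
  apply (QuotientGroup.eq_one_iff _).1
  show π (x * y * x⁻¹ * y⁻¹) = 1
  simp only [map_mul, map_inv]
  rw [← hcomm]
  group

end CfsgLib.OddChar.NilQuot
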