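import Cfsg.Agent.Lib.OddChar.IrrCoherent
import Cfsg.Agent.Lib.OddChar.FrobKernel
import Cfsg.Agent.Lib.OddChar.NilQuot
import Cfsg.Agent.Lib.Char.CentralOver
import Cfsg.Agent.S1492

/-!
Feit's coherence theorem for a Frobenius group.
-/

set_option autoImplicit false

open scoped commutatorElement

namespace CfsgLib.OddChar.FrobCoh

variable {N : Type*} [Group N] [Fintype N] {G : Type*} [Group G] [Fintype G]
  (H : Subgroup N) [hH : H.Normal]

theorem commutator_mem (x y : N) (hx : x ∈ H) (hy : y ∈ H) : x * y * x⁻¹ * y⁻¹ ∈ ⁅H, H⁆ := by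
  rw [← commutatorElement_def]
  exact Subgroup.commutator_mem_commutator hx hy

theorem linear_deg {θ : H → ℂ} (hθ : Cfsg.IsIrrCharacter H θ)
    (hker : ∀ a : H, (a : N) ∈ ⁅H, H⁆ → θ a = θ 1) : θ 1 = 1 := by
  classical
  haveI : (⁅H, H⁆ : Subgroup N).Normal := Subgroup.commutator_normal H H
  haveI : Fintype H := Fintype.ofFinite H
  obtain ⟨ψ, hψ⟩ := CharTools.exists_descend (⁅H, H⁆.subgroupOf H) hθ
    (fun n hn => hker n (Subgroup.mem_subgroupOf.1 hn))
  haveI : Fintype (↥H ⧸ ⁅H, H⁆.subgroupOf H) := Fintype.ofFinite _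
  have h1 := (CharOver.abelian_irr (G := ↥H ⧸ ⁅H, H⁆.subgroupOf H) (fun a b => by
    obtain ⟨x, rfl⟩ := QuotientGroup.mk_surjective a
    obtain ⟨y, rfl⟩ := QuotientGroup.mk_surjective b
    rw [← QuotientGroup.mk_mul, ← QuotientGroup.mk_mul, QuotientGroup.eq,
      Subgroup.mem_subgroupOf]
    have := commutator_mem H _ _ (H.inv_mem y.2) (H.inv_mem x.2)
    simpa [mul_assoc] using this) ψ.2).1
  rw [← hψ 1, QuotientGroup.mk_one, h1]

theorem deg_above_derived (hirr : ∀ φ ∈ Cfsg.inducedIrrAbove H ⊥, Cfsg.IsIrrCharacter N φ)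
    {φ : N → ℂ} (hφ : φ ∈ Cfsg.inducedIrrAbove H ⁅H, H⁆) : Cfsg.charDegree φ = H.index := by
  have hi := hirr φ (Above.above_mono H bot_le hφ)
  obtain ⟨θ, hθ, -, hker, rfl⟩ := hφ
  rw [Irr.deg_indFun H hθ hi]
  simp [Cfsg.charDegree, linear_deg H hθ hker]

theorem card_above_derived (hirr : ∀ φ ∈ Cfsg.inducedIrrAbove H ⊥, Cfsg.IsIrrCharacter N φ)
    (S : Finset (N → ℂ)) (hS : (↑S : Set (N → ℂ)) = Cfsg.inducedIrrAbove H ⁅H, H⁆) :
    S.card * H.index + 1 = (⁅H, H⁆ : Subgroup N).relIndex H := by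
  haveI : (⁅H, H⁆ : Subgroup N).Normal := Subgroup.commutator_normal H H
  have h := Irr.sum_sq_above H ⁅H, H⁆ hirr S hS
  rw [Finset.sum_congr rfl fun φ hφ => by
    rw [deg_above_derived H hirr (hS ▸ Finset.mem_coe.2 hφ)], Finset.sum_const, smul_eq_mul] at h
  refine Nat.eq_of_mul_eq_mul_left (Nat.pos_of_ne_zero (Subgroup.index_ne_zero_of_finite (H := H)))
    ?_
  rw [← h]; ring

/-- The centre of `H` modulo `B`. -/
theorem exists_centre_mod (B : Subgroup N) [B.Normal] :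
    ∃ Z : Subgroup N, Z.Normal ∧
      ∀ z, z ∈ Z ↔ z ∈ H ∧ ∀ y ∈ H, z * y * z⁻¹ * y⁻¹ ∈ B := by
  set π := QuotientGroup.mk' B
  haveI : (H.map π).Normal := Subgroup.Normal.map hH π (QuotientGroup.mk'_surjective B)
  set C := Subgroup.centralizer ((H.map π : Subgroup (N ⧸ B)) : Set (N ⧸ B))
  haveI : C.Normal := inferInstance
  refine ⟨H ⊓ C.comap π, inferInstance, fun z => ?_⟩
  rw [Subgroup.mem_inf, Subgroup.mem_comap, Subgroup.mem_centralizer_iff]
  refine and_congr_right fun _ => ⟨fun h y hy => ?_, fun h y hy => ?_⟩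
  · apply (QuotientGroup.eq_one_iff _).1
    show π _ = 1
    simp only [map_mul, map_inv]
    rw [← h (π y) (Subgroup.mem_map_of_mem π hy)]
    group
  · obtain ⟨y, hy, rfl⟩ := hy
    have h1 : π (z * y * z⁻¹ * y⁻¹) = 1 := (QuotientGroup.eq_one_iff _).2 (h y hy)
    simp only [map_mul, map_inv] at h1
    calc π y * π z = (π z * π y * (π z)⁻¹ * (π y)⁻¹) * (π y * π z) := by rw [h1, one_mul]
      _ = π z * π y := by group

/-- If `H/B` is nilpotent of non prime power order, its centre is not of prime power order. -/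
theorem centre_mod_ne (hnil : Group.IsNilpotent H) (B D Z : Subgroup N) [B.Normal] [D.Normal]
    (hBD : B < D) (hDH : D ≤ H) (hZ : ∀ z, z ∈ Z ↔ z ∈ H ∧ ∀ y ∈ H, z * y * z⁻¹ * y⁻¹ ∈ B)
    (hmin : ∀ E : Subgroup N, E.Normal → B < E → E ≤ D → E = D)
    (hcent : ∀ x ∈ D, ∀ y ∈ H, x * y * x⁻¹ * y⁻¹ ∈ B)
    (hnp : ¬ ∃ p m : ℕ, p.Prime ∧ B.relIndex H = p ^ m) : Z ≠ D := by
  intro hZD
  set π := QuotientGroup.mk' B with hπ
  have hsurj : Function.Surjective π := QuotientGroup.mk'_surjective B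
  have hker : π.ker = B := QuotientGroup.ker_mk' B
  have hcard : ∀ K : Subgroup N, B ≤ K → Nat.card (K.map π) = B.relIndex K := fun K hK => by
    have h := Subgroup.relIndex_map_map π B K
    rw [hker, sup_idem, sup_eq_left.2 hK, Subgroup.map_eq_bot_iff B |>.2 hker.ge,
      Subgroup.relIndex_bot_left] at h
    exact h
  obtain ⟨p, r, hp, hr⟩ : ∃ p r : ℕ, p.Prime ∧ B.relIndex D = p ^ r := by
    by_contra hc
    obtain ⟨E, hE, hBE, hED⟩ := FrobSection.exists_normal_between D B hBD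
      (fun x hx y hy => hcent x hx y (hDH hy)) hc
    exact hED.ne (hmin E hE hBE hED.le)
  haveI := hnil
  haveI : Group.IsNilpotent (H.map π) :=
    Group.nilpotent_of_surjective _ (π.subgroupMap_surjective H)
  have hBH : B ≤ H := hBD.le.trans hDH
  have hne1 : B.relIndex H ≠ 1 := fun h => hBD.not_ge (hDH.trans (Subgroup.relIndex_eq_one.1 h))
  obtain ⟨q, hq, hqd, hqp⟩ : ∃ q, q.Prime ∧ q ∣ B.relIndex H ∧ q ≠ p := by
    by_contra hc
    push_neg at hc
    exact hnp ⟨p, _, hp, Nat.eq_prime_pow_of_unique_prime_dvd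
      (Subgroup.index_ne_zero_of_finite (H := B.subgroupOf H)) fun hd hdvd => hc _ hd hdvd⟩
  haveI := Fact.mk hq
  let Q : Sylow q (H.map π) := Classical.arbitrary _
  haveI hQn : (Q : Subgroup (H.map π)).Normal := inferInstance
  have hQne : (Q : Subgroup (H.map π)) ≠ ⊥ := fun h => Q.not_dvd_index (by
    rw [h, Subgroup.index_bot, hcard H hBH]; exact hqd)
  obtain ⟨z, hz, hz1, hzc⟩ := NilQuot.exists_central _ hQne
  obtain ⟨w, hw, hwz⟩ := z.2
  have hwZ : w ∈ Z := (hZ w).2 ⟨hw, fun y hy => by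
    apply (QuotientGroup.eq_one_iff _).1
    show π _ = 1
    have h : π y * (z : N ⧸ B) = z * π y :=
      congrArg Subtype.val (Subgroup.mem_center_iff.1 hzc ⟨π y, Subgroup.mem_map_of_mem π hy⟩)
    simp only [map_mul, map_inv, hwz]
    rw [← h]; group⟩
  rw [hZD] at hwZ
  have hzD : (z : N ⧸ B) ∈ D.map π := hwz ▸ Subgroup.mem_map_of_mem π hwZ
  have h1 : orderOf (z : N ⧸ B) ∣ p ^ r := by
    rw [← hr, ← hcard D hBD.le]
    have := orderOf_dvd_natCard (⟨_, hzD⟩ : D.map π)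
    rwa [Subgroup.orderOf_mk] at this
  obtain ⟨k, hk⟩ := IsPGroup.iff_orderOf.1 Q.isPGroup' ⟨z, hz⟩
  rw [Subgroup.orderOf_mk, ← Subgroup.orderOf_coe] at hk
  have h2 : orderOf (z : N ⧸ B) = 1 :=
    Nat.eq_one_of_dvd_coprimes (Nat.coprime_pow_primes k r hq hp hqp) (hk ▸ dvd_refl _) h1
  exact hz1 (Subtype.ext (orderOf_eq_one_iff.1 h2))

variable {τ : (N → ℂ) → (G → ℂ)}
  (hτ : Cfsg.IsLinearIsometryOn (Cfsg.zspanOn (Cfsg.inducedIrrAbove H ⊥) {1}ᶜ) τ)
  (hτ1 : ∀ α ∈ Cfsg.zspanOn (Cfsg.inducedIrrAbove H ⊥) {1}ᶜ, τ α 1 = 0)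
include hτ hτ1

theorem derived_coherent (hirr : ∀ φ ∈ Cfsg.inducedIrrAbove H ⊥, Cfsg.IsIrrCharacter N φ)
    (h1 : (⁅H, H⁆ : Subgroup N).relIndex H ≠ 1)
    (h2 : (⁅H, H⁆ : Subgroup N).relIndex H ≠ H.index + 1) :
    Cfsg.IsCoherent (Cfsg.inducedIrrAbove H ⁅H, H⁆) {1}ᶜ τ := by
  have hsub : Cfsg.inducedIrrAbove H ⁅H, H⁆ ⊆ Cfsg.inducedIrrAbove H ⊥ :=
    Above.above_mono H bot_le
  have hfin : (Cfsg.inducedIrrAbove H ⁅H, H⁆).Finite :=
    (Set.finite_range (fun χ : Cfsg.IrrCharacter N => (χ : N → ℂ))).subset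
      fun φ hφ => ⟨⟨φ, hirr φ (hsub hφ)⟩, rfl⟩
  rw [← hfin.coe_toFinset]
  have hc := card_above_derived H hirr hfin.toFinset hfin.coe_toFinset
  refine Irr.coherent_constant _ (fun φ hφ => hirr φ (hsub (by simpa using hφ)))
    (fun φ hφ ψ hψ => ?_) ?_ τ (Irr.isometry_mono hτ (by simpa using hsub))
    (fun α hα => hτ1 α (Coh.zspanOn_mono (by simpa using hsub) hα))
  · rw [Irr.exists_deg hirr φ (hsub (by simpa using hφ)),
      Irr.exists_deg hirr ψ (hsub (by simpa using hψ)),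
      deg_above_derived H hirr (by simpa using hφ), deg_above_derived H hirr (by simpa using hψ)]
  · rcases Nat.lt_or_ge hfin.toFinset.card 2 with h | h
    · interval_cases hfin.toFinset.card
      · exact absurd (by omega) h1
      · exact absurd (by omega) h2
    · exact h

theorem feit_theorem (hH1 : H ≠ ⊥) (hH2 : H ≠ ⊤)
    (hC : ∀ h ∈ H, h ≠ 1 → Subgroup.centralizer ({h} : Set N) ≤ H)
    (he : Nat.card H ≠ H.index + 1) :
    Cfsg.IsCoherent (Cfsg.inducedIrrAbove H ⊥) {1}ᶜ τ ∨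
      ∃ p : ℕ, p.Prime ∧ (∃ m : ℕ, Nat.card H = p ^ m) ∧ ¬ IsMulCommutative H ∧
        (⁅H, H⁆ : Subgroup N).relIndex H ≤ 4 * H.index ^ 2 + 1 := by
  classical
  have hirr := Irr.irr_of_above (N := N) hC
  have hnil := FrobKernel.isNilpotent H hC hH2
  have hsolv : Group.IsSolvable H := by haveI := hnil; infer_instance
  haveI hH₁n : (⁅H, H⁆ : Subgroup N).Normal := Subgroup.commutator_normal H H
  set H₁ := (⁅H, H⁆ : Subgroup N) with hH₁
  have hle : H₁ ≤ H := Subgroup.commutator_le.2 fun a ha b hb => by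
    rw [commutatorElement_def]
    exact H.mul_mem (H.mul_mem (H.mul_mem ha hb) (H.inv_mem ha)) (H.inv_mem hb)
  have hH₁sub : H₁.subgroupOf H = commutator H := by
    rw [hH₁, ← Subgroup.map_subtype_commutator H, Subgroup.subgroupOf,
      Subgroup.comap_map_eq_self_of_injective H.subtype_injective]
  haveI : Nontrivial H := (Subgroup.nontrivial_iff_ne_bot H).2 hH1
  have hlt : H₁ < H := lt_of_le_of_ne hle fun h => by
    haveI := hsolv
    have := Group.IsSolvable.commutator_lt_top_of_nontrivial H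
    rw [← hH₁sub, h, Subgroup.subgroupOf_self] at this
    exact lt_irrefl _ this
  have ha1 : H₁.relIndex H ≠ 1 := fun h => hlt.not_ge (Subgroup.relIndex_eq_one.1 h)
  by_cases hab : IsMulCommutative H
  · left
    have hbot : H₁ = ⊥ := by
      rw [hH₁, Subgroup.commutator_eq_bot_iff_le_centralizer]
      intro x hx y hy
      exact congrArg Subtype.val (hab.is_comm.comm (⟨y, hy⟩ : H) ⟨x, hx⟩)
    have := derived_coherent H hτ hτ1 hirr ha1
      (by rw [← hH₁, hbot, Subgroup.relIndex_bot_left]; exact he)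
    rwa [← hH₁, hbot] at this
  have hfree := FrobKernel.free_on_section H hC
  have key : ∀ (D B : Subgroup N) [D.Normal] [B.Normal], B ≤ D → D < H →
      Cfsg.IsCoherent (Cfsg.inducedIrrAbove H D) {1}ᶜ τ →
      (∀ θ : H → ℂ, Cfsg.IsIrrCharacter H θ → (∀ b : H, (b : N) ∈ B → θ b = θ 1) →
        2 * H.index * Cfsg.charDegree θ + 1 < D.relIndex H) →
      Cfsg.IsCoherent (Cfsg.inducedIrrAbove H B) {1}ᶜ τ := fun D B _ _ hBD hDH hD hdeg =>
    Irr.extend_above H hsolv hirr hτ hτ1 D B hDH hBD hD hdeg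
  have main : H₁.relIndex H ≠ H.index + 1 →
      (∀ (D B : Subgroup N), D.Normal → B.Normal → B < D → D ≤ H₁ →
        (∀ E : Subgroup N, E.Normal → B < E → E ≤ D → E = D) →
        (∀ x ∈ D, ∀ y ∈ H, x * y * x⁻¹ * y⁻¹ ∈ B) →
        ∀ θ : H → ℂ, Cfsg.IsIrrCharacter H θ → (∀ b : H, (b : N) ∈ B → θ b = θ 1) →
          2 * H.index * Cfsg.charDegree θ + 1 < D.relIndex H) →
      Cfsg.IsCoherent (Cfsg.inducedIrrAbove H ⊥) {1}ᶜ τ := by
    intro hne hstep
    have claim : ∀ B : Subgroup N, B.Normal → B ≤ H₁ →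
        Cfsg.IsCoherent (Cfsg.inducedIrrAbove H B) {1}ᶜ τ := by
      intro B
      induction B using WellFoundedGT.induction with
      | ind B ih =>
        intro hBn hBH
        rcases eq_or_lt_of_le hBH with rfl | hBlt
        · exact derived_coherent H hτ hτ1 hirr ha1 hne
        obtain ⟨D, ⟨hDn, hBD, hDH⟩, hDmin⟩ := (wellFounded_lt (α := Subgroup N)).has_min
          {E : Subgroup N | E.Normal ∧ B < E ∧ E ≤ H₁} ⟨H₁, hH₁n, hBlt, le_rfl⟩
        haveI := hDn
        have hmin : ∀ E : Subgroup N, E.Normal → B < E → E ≤ D → E = D := fun E hEn hBE hED => by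
          by_contra hne
          exact hDmin E ⟨hEn, hBE, hED.trans hDH⟩ (lt_of_le_of_ne hED hne)
        haveI : (Subgroup.subgroupOf ⊥ H : Subgroup H).Normal := inferInstance
        have hcent := NilQuot.commutator_mem_of_minimal ⊥ B D H
          (by haveI := hnil; infer_instance) bot_le hBD (hDH.trans hle) hmin
        exact key D B hBD.le (hDH.trans_lt hlt) (ih D hBD hDn hDH)
          (hstep D B hDn hBn hBD hDH hmin hcent)
    exact claim ⊥ inferInstance bot_le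
  have hbound : ∀ (Z B : Subgroup N) [Z.Normal] [B.Normal], B ≤ Z → Z ≤ H →
      (∀ x ∈ Z, ∀ y ∈ H, x * y * x⁻¹ * y⁻¹ ∈ B) →
      ∀ θ : H → ℂ, Cfsg.IsIrrCharacter H θ → (∀ b : H, (b : N) ∈ B → θ b = θ 1) →
        Cfsg.charDegree θ ^ 2 ≤ Z.relIndex H := by
    intro Z B _ _ hBZ hZH hcent θ hθ hker
    have hb := Cfsg.Agent.S1492.result θ hθ (B.subgroupOf H) ⊤ (Z.subgroupOf H)
      (fun x hx => hBZ hx) le_top
      (fun c _ b hb => Subgroup.Normal.conj_mem inferInstance b hb c)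
      (fun d hd c _ => hcent _ hd _ c.2) (fun b hb => hker b hb)
    rw [Subgroup.card_top, ← CharTools.degree_cast (Char.IsIrrCharacter.isCharacter hθ),
      Complex.norm_natCast] at hb
    have hb' : Cfsg.charDegree θ ^ 2 * Nat.card H * Nat.card (Z.subgroupOf H) ≤ Nat.card H ^ 2 := by
      exact_mod_cast hb
    have hZ := (Z.subgroupOf H).card_mul_index
    refine Nat.le_of_mul_le_mul_right ?_ (Nat.mul_pos (Nat.card_pos (α := H))
      (Nat.card_pos (α := Z.subgroupOf H)))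
    calc _ = Cfsg.charDegree θ ^ 2 * Nat.card H * Nat.card (Z.subgroupOf H) := by ring
      _ ≤ _ := hb'
      _ = _ := by
        rw [pow_two]
        nth_rewrite 2 [← hZ]
        show _ = (Z.subgroupOf H).index * _
        ring
  have hrel : ∀ D : Subgroup N, D ≤ H₁ → H₁.relIndex H ≤ D.relIndex H := fun D hD =>
    Nat.le_of_dvd (Nat.pos_of_ne_zero (Subgroup.index_ne_zero_of_finite (H := D.subgroupOf H)))
      (Dvd.intro_left _ (Subgroup.relIndex_mul_relIndex D H₁ H hD hle))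
  by_cases hbig : 4 * H.index ^ 2 + 1 < H₁.relIndex H
  · left
    refine main (by nlinarith) fun D B hDn hBn hBD hDH _ hcent θ hθ hker => ?_
    have h1 := hbound D B hBD.le (hDH.trans hle) hcent θ hθ hker
    have h2 := hrel D hDH
    generalize D.relIndex H = x at h1 h2
    generalize H₁.relIndex H = a at hbig h2
    generalize H.index = e at hbig
    generalize Cfsg.charDegree θ = m at h1
    nlinarith
  by_cases hp : ∃ p m : ℕ, p.Prime ∧ Nat.card H = p ^ m
  · obtain ⟨p, m, hp, hm⟩ := hp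
    exact Or.inr ⟨p, hp, ⟨m, hm⟩, hab, not_lt.1 hbig⟩
  left
  have hanp : ¬ ∃ p r : ℕ, p.Prime ∧ H₁.relIndex H = p ^ r := by
    rintro ⟨p, r, hp', hr⟩
    obtain ⟨m, hm⟩ := FrobSection.card_prime_pow_of_commutator_index (Q := H) hp'
      (by rw [← hH₁sub]; exact hr)
    exact hp ⟨p, m, hp', hm⟩
  have heid : 0 < H.index := Nat.pos_of_ne_zero Subgroup.index_ne_zero_of_finite
  have hge : ∀ a : ℕ, 0 < a → a ≠ 1 → H.index ∣ a - 1 → H.index + 1 ≤ a := fun a ha0 ha hd => by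
    have := Nat.le_of_dvd (by omega) hd
    omega
  have hsq : (H.index + 1) * (H.index + 1) ≤ H₁.relIndex H := by
    obtain ⟨M, hMn, hHM, hMH⟩ := FrobSection.exists_normal_between H H₁ hlt
      (fun x hx y hy => commutator_mem H x y hx hy) hanp
    haveI := hMn
    have e1 := FrobSection.index_dvd_relIndex_sub_one H H₁ M hHM.le hMH.le
      (fun x hx y hy => commutator_mem H x y hx hy) (hfree H₁ hle)
    have e2 := FrobSection.index_dvd_relIndex_sub_one H M H hMH.le le_rfl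
      (fun x hx y hy => hHM.le (commutator_mem H x y hx hy)) (hfree M hMH.le)
    rw [← Subgroup.relIndex_mul_relIndex H₁ M H hHM.le hMH.le]
    exact Nat.mul_le_mul
      (hge _ (Nat.pos_of_ne_zero (Subgroup.index_ne_zero_of_finite (H := H₁.subgroupOf M)))
        (fun h => hHM.not_ge (Subgroup.relIndex_eq_one.1 h)) e1)
      (hge _ (Nat.pos_of_ne_zero (Subgroup.index_ne_zero_of_finite (H := M.subgroupOf H)))
        (fun h => hMH.not_ge (Subgroup.relIndex_eq_one.1 h)) e2)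
  refine main (by nlinarith) fun D B hDn hBn hBD hDH hmin hcent θ hθ hker => ?_
  haveI := hDn
  haveI := hBn
  obtain ⟨Z, hZn, hZ⟩ := exists_centre_mod H B
  haveI := hZn
  have hBH : B ≤ H₁ := hBD.le.trans hDH
  have hDZ : D ≤ Z := fun x hx => (hZ x).2 ⟨hle (hDH hx), hcent x hx⟩
  have hZH : Z ≤ H := fun x hx => ((hZ x).1 hx).1
  have hne : Z ≠ D := centre_mod_ne H hnil B D Z hBD (hDH.trans hle) hZ hmin hcent (by
    rintro ⟨p, m, hp', hm⟩
    obtain ⟨r, -, hr⟩ := (Nat.dvd_prime_pow hp').1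
      (hm ▸ Subgroup.relIndex_dvd_of_le_left H hBH)
    exact hanp ⟨p, r, hp', hr⟩)
  have hz := hge (D.relIndex Z)
    (Nat.pos_of_ne_zero (Subgroup.index_ne_zero_of_finite (H := D.subgroupOf Z)))
    (fun h => hne (le_antisymm (Subgroup.relIndex_eq_one.1 h) hDZ))
    (FrobSection.index_dvd_relIndex_sub_one' H D Z hDZ hZH
      (fun x hx y hy => by
        have h := D.inv_mem (hBD.le (((hZ y).1 hy).2 x hx))
        rwa [show (y * x * y⁻¹ * x⁻¹)⁻¹ = x * y * x⁻¹ * y⁻¹ by group] at h)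
      (hfree D (hDH.trans hle)))
  have h1 := hbound Z B (hBD.le.trans hDZ) hZH (fun x hx => ((hZ x).1 hx).2) θ hθ hker
  have h2 := hrel D hDH
  have h3 := Subgroup.relIndex_mul_relIndex D Z H hDZ hZH
  rw [← h3] at h2 ⊢
  by_contra hcon
  push_neg at hcon
  generalize D.relIndex Z = z at hz h2 hcon
  generalize Z.relIndex H = y at h1 h2 hcon
  generalize H₁.relIndex H = a at hsq h2
  generalize H.index = e at hz hsq hcon heid
  generalize Cfsg.charDegree θ = m at h1 hcon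
  obtain ⟨e, rfl⟩ : ∃ k, e = k + 1 := ⟨e - 1, by omega⟩
  obtain ⟨x, hx⟩ : ∃ x, z * y = x + 2 := ⟨z * y - 2, by
    have : 4 ≤ (e + 1 + 1) * (e + 1 + 1) := by nlinarith
    omega⟩
  rw [hx] at h2 hcon
  have hx1 : x + 1 ≤ 2 * (e + 1) * m := by omega
  have hsq1 : (x + 1) * (x + 1) ≤ 4 * (e + 1) ^ 2 * y := by
    calc (x + 1) * (x + 1) ≤ (2 * (e + 1) * m) * (2 * (e + 1) * m) := Nat.mul_le_mul hx1 hx1
      _ = 4 * (e + 1) ^ 2 * m ^ 2 := by ring
      _ ≤ _ := Nat.mul_le_mul_left _ h1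
  have hz1 : z * ((x + 1) * (x + 1)) ≤ 4 * (e + 1) ^ 2 * (x + 2) := by
    calc z * ((x + 1) * (x + 1)) ≤ z * (4 * (e + 1) ^ 2 * y) := Nat.mul_le_mul_left _ hsq1
      _ = 4 * (e + 1) ^ 2 * (z * y) := by ring
      _ = _ := by rw [hx]
  have hA : (e + 2) * ((x + 1) * (x + 1)) ≤ z * ((x + 1) * (x + 1)) :=
    Nat.mul_le_mul_right _ (by omega)
  have hxa : (e + 2) * (e + 2) ≤ x + 2 := le_trans (le_trans (le_of_eq (by ring)) hsq) h2
  have hB : 4 * (e + 1) ^ 2 ≤ (e + 2) * x := by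
    have hq := Nat.mul_le_mul_left (e + 2) hxa
    nlinarith
  have hB' := Nat.mul_le_mul_right (x + 2) hB
  nlinarith

end CfsgLib.OddChar.FrobCoh
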