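import Cfsg.Agent.Lib.OddChar.Sibley
import Mathlib.GroupTheory.Sylow

/-!
The theorem of Feit and Sibley.
-/

set_option autoImplicit false

open scoped commutatorElement

namespace CfsgLib.OddChar.Sibley

variable {G : Type*} [Group G] [Fintype G]

theorem setOf_irr_eq_above' (K L : Subgroup G) [Fintype L] (hn : (K.subgroupOf L).Normal)
    (hC : ∀ k ∈ K, k ≠ 1 → Subgroup.centralizer ({k} : Set G) ≤ K) :
    {χ : L → ℂ | Cfsg.IsIrrCharacter L χ ∧ ∃ k : L, (k : G) ∈ K ∧ χ k ≠ χ 1} =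
      Cfsg.inducedIrrAbove (K.subgroupOf L) ⊥ := by
  haveI := hn
  rw [← Irr.setOf_irr_eq_above (centralizer_le_of_subgroupOf hC)]
  rfl

/-- A `p`-subgroup containing the centralisers of its non-identity elements is a Sylow subgroup. -/
theorem exists_sylow_eq {p : ℕ} [Fact p.Prime] (K : Subgroup G) (hK : IsPGroup p K) (hK1 : K ≠ ⊥)
    (hC : ∀ k ∈ K, k ≠ 1 → Subgroup.centralizer ({k} : Set G) ≤ K) :
    ∃ P : Sylow p G, (P : Subgroup G) = K := by
  obtain ⟨P, hP⟩ := hK.exists_le_sylow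
  refine ⟨P, le_antisymm ?_ hP⟩
  obtain ⟨⟨k, hk⟩, hk1⟩ := K.ne_bot_iff_exists_ne_one.1 hK1
  haveI : Group.IsNilpotent (P : Subgroup G) := P.isPGroup'.isNilpotent
  haveI : Nontrivial (P : Subgroup G) :=
    (Subgroup.nontrivial_iff_ne_bot _).2 fun h =>
      hk1 (Subtype.ext (Subgroup.mem_bot.1 (h ▸ hP hk)))
  obtain ⟨⟨z, hzc⟩, hz1⟩ :=
    (Subgroup.center (P : Subgroup G)).ne_bot_iff_exists_ne_one.1
      (Group.IsNilpotent.center_ne_bot _)
  have hzcomm : ∀ g ∈ (P : Subgroup G), g * (z : G) = (z : G) * g := fun g hg =>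
    congrArg Subtype.val (Subgroup.mem_center_iff.1 hzc ⟨g, hg⟩)
  have hk1' : k ≠ 1 := fun h => hk1 (Subtype.ext h)
  have hzK : (z : G) ∈ K := hC k hk hk1' (Subgroup.mem_centralizer_singleton_iff.2
    (hzcomm k (hP hk)).symm)
  exact fun g hg => hC z hzK (fun h => hz1 (Subtype.ext (Subtype.ext h)))
    (Subgroup.mem_centralizer_singleton_iff.2 (hzcomm g hg))

/-- A Frobenius group with `|H| = e + 1` has elementary abelian kernel. -/
theorem exists_elementary {N : Type*} [Group N] [Fintype N] (H : Subgroup N) [H.Normal]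
    (hH1 : H ≠ ⊥) (hH2 : H ≠ ⊤)
    (hC : ∀ h ∈ H, h ≠ 1 → Subgroup.centralizer ({h} : Set N) ≤ H)
    (he : Nat.card H = H.index + 1) :
    IsMulCommutative H ∧ ∃ p : ℕ, p.Prime ∧ ∀ h ∈ H, h ^ p = 1 := by
  haveI := FrobKernel.isNilpotent H hC hH2
  haveI : Nontrivial H := (Subgroup.nontrivial_iff_ne_bot H).2 hH1
  have key : ∀ Z : Subgroup N, Z.Normal → Z ≤ H → Z ≠ ⊥ →
      (∀ x ∈ Z, ∀ y ∈ H, x * y = y * x) → Z = H := by
    intro Z hZn hZH hZ1 hcent
    have hd := CentralPart.card_sub_one_ge H hC Z hZH hcent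
    have h1 : 1 < Nat.card Z := (Subgroup.one_lt_card_iff_ne_bot Z).2 hZ1
    have h2 := Nat.le_of_dvd (by omega) hd
    exact Subgroup.eq_of_le_of_card_ge hZH (by omega)
  set Z := (Subgroup.center H).map H.subtype
  haveI : Z.Normal := ConjAct.normal_of_characteristic_of_normal
  have hZ := key Z inferInstance (Subgroup.map_subtype_le _)
    (fun h => Group.IsNilpotent.center_ne_bot _
      ((Subgroup.map_eq_bot_iff_of_injective _ H.subtype_injective).1 h))
    (by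
      rintro _ ⟨x, hx, rfl⟩ y hy
      exact (congrArg Subtype.val (Subgroup.mem_center_iff.1 hx ⟨y, hy⟩)).symm)
  have hab : ∀ a ∈ H, ∀ b ∈ H, a * b = b * a := by
    intro a ha b hb
    rw [← hZ] at ha
    obtain ⟨x, hx, rfl⟩ := ha
    exact (congrArg Subtype.val (Subgroup.mem_center_iff.1 hx ⟨b, hb⟩)).symm
  refine ⟨⟨⟨fun a b => Subtype.ext (hab a a.2 b b.2)⟩⟩, ?_⟩
  obtain ⟨p, hp, hpd⟩ := Nat.exists_prime_and_dvd (n := Nat.card H)
    (fun h => hH1 (Subgroup.card_eq_one.1 h))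
  haveI := Fact.mk hp
  let Ω : Subgroup N :=
    { carrier := {x | x ∈ H ∧ x ^ p = 1}
      one_mem' := ⟨H.one_mem, one_pow p⟩
      mul_mem' := fun {a b} ha hb => ⟨H.mul_mem ha.1 hb.1, by
        rw [(show Commute a b from hab a ha.1 b hb.1).mul_pow, ha.2, hb.2, one_mul]⟩
      inv_mem' := fun {a} ha => ⟨H.inv_mem ha.1, by rw [inv_pow, ha.2, inv_one]⟩ }
  have hΩn : Ω.Normal := ⟨fun x hx g => ⟨Subgroup.Normal.conj_mem inferInstance x hx.1 g, by
    rw [conj_pow, hx.2]; group⟩⟩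
  have hΩ1 : Ω ≠ ⊥ := by
    obtain ⟨x, hx⟩ := exists_prime_orderOf_dvd_card' (G := H) p hpd
    rw [← Subgroup.orderOf_coe] at hx
    intro h
    have hm : (x : N) ∈ Ω := ⟨x.2, by rw [← hx, pow_orderOf_eq_one]⟩
    rw [h, Subgroup.mem_bot] at hm
    rw [hm, orderOf_one] at hx
    exact hp.one_lt.ne hx
  have hΩ := key Ω hΩn (fun x hx => hx.1) hΩ1 fun x hx y hy => hab x hx.1 y hy
  exact ⟨p, hp, fun h hh => (hΩ.symm ▸ hh : h ∈ Ω).2⟩

theorem relIndex_commutator_subgroupOf {K L : Subgroup G} (h : K ≤ L) :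
    (⁅K.subgroupOf L, K.subgroupOf L⁆ : Subgroup L).relIndex (K.subgroupOf L) =
      (⁅K, K⁆.subgroupOf K).index := by
  have hmap : (K.subgroupOf L).map L.subtype = K := by
    rw [Subgroup.subgroupOf_map_subtype, inf_eq_left.2 h]
  rw [← Subgroup.relIndex_map_map_of_injective _ _ L.subtype_injective, Subgroup.map_commutator,
    hmap]
  rfl

theorem feit_sibley (K L : Subgroup G) [Fintype L] (hL : L = Subgroup.normalizer (K : Set G))
    (hK1 : K ≠ ⊥) (hTI : Cfsg.IsTISubset (K : Set G)) (hlt : K < L)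
    (hC : ∀ k ∈ K, k ≠ 1 → Subgroup.centralizer ({k} : Set G) ≤ K) :
    (Nat.card {χ : L → ℂ // Cfsg.IsIrrCharacter L χ ∧ ∃ k : L, (k : G) ∈ K ∧ χ k ≠ χ 1} = 1 ∧
        Nat.card K = (K.subgroupOf L).index + 1 ∧
        ∃ p : ℕ, p.Prime ∧ Cfsg.IsElementaryAbelian p K) ∨
      (Nat.card K = 2 ^ (Nat.card G).factorization 2 ∧
        (⁅K, K⁆.subgroupOf K).index < 4 * (K.subgroupOf L).index ^ 2) ∨
      Cfsg.IsCoherent {χ : L → ℂ | Cfsg.IsIrrCharacter L χ ∧ ∃ k : L, (k : G) ∈ K ∧ χ k ≠ χ 1}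
        {1}ᶜ (fun α => Cfsg.indFun L α) := by
  classical
  have hn : (K.subgroupOf L).Normal := by subst hL; exact Subgroup.normal_in_normalizer
  haveI := hn
  have hset := setOf_irr_eq_above' K L hn hC
  rw [hset]
  set H := K.subgroupOf L with hH
  have hcard : Nat.card H = Nat.card K :=
    Nat.card_congr (Subgroup.subgroupOfEquivOfLe hlt.le).toEquiv
  have hH1 : H ≠ ⊥ := fun h => hK1 (Subgroup.card_eq_one.1 (by rw [← hcard, h, Subgroup.card_bot]))
  have hH2 : H ≠ ⊤ := fun h => hlt.not_ge (Subgroup.subgroupOf_eq_top.1 h)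
  have hCN : ∀ h ∈ H, h ≠ 1 → Subgroup.centralizer ({h} : Set L) ≤ H :=
    centralizer_le_of_subgroupOf hC
  by_cases he : Nat.card H = H.index + 1
  · obtain ⟨hab, p, hp, hpow⟩ := exists_elementary H hH1 hH2 hCN he
    refine Or.inl ⟨?_, hcard ▸ he, p, hp, ⟨⟨fun a b => ?_⟩⟩, fun a ha => ?_⟩
    · have hirr := Irr.irr_of_above (N := L) hCN
      have hbot : (⁅H, H⁆ : Subgroup L) = ⊥ := by
        rw [Subgroup.commutator_eq_bot_iff_le_centralizer]
        intro x hx y hy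
        exact congrArg Subtype.val (hab.is_comm.comm (⟨y, hy⟩ : H) ⟨x, hx⟩)
      have hfin : (Cfsg.inducedIrrAbove H ⊥).Finite :=
        (Set.finite_range (fun χ : Cfsg.IrrCharacter L => (χ : L → ℂ))).subset
          fun φ hφ => ⟨⟨φ, hirr φ hφ⟩, rfl⟩
      have hc := FrobCoh.card_above_derived H hirr hfin.toFinset (by rw [hbot]; simp)
      rw [hbot, Subgroup.relIndex_bot_left, he, Nat.add_right_cancel_iff] at hc
      have h1 : hfin.toFinset.card = 1 :=
        (Nat.mul_eq_right (Subgroup.index_ne_zero_of_finite (H := H))).1 hc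
      show Nat.card ↥{χ : L → ℂ | Cfsg.IsIrrCharacter L χ ∧ ∃ k : L, (k : G) ∈ K ∧ χ k ≠ χ 1} = 1
      rw [hset, Nat.card_coe_set_eq, Set.ncard_eq_toFinset_card _ hfin, h1]
    · have := hab.is_comm.comm (⟨⟨a, hlt.le a.2⟩, a.2⟩ : H) ⟨⟨b, hlt.le b.2⟩, b.2⟩
      exact Subtype.ext (congrArg (fun x : H => ((x : L) : G)) this)
    · exact congrArg Subtype.val (hpow ⟨a, hlt.le ha⟩ ha)
  right
  obtain ⟨hτ, hτ1⟩ := ind_isometry K L hL hTI
  rcases FrobCoh.feit_theorem H hτ hτ1 hH1 hH2 hCN he with h | ⟨p, hp, ⟨m, hm⟩, hna, hle⟩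
  · exact Or.inr h
  haveI := Fact.mk hp
  rw [hcard] at hm
  obtain ⟨P, hP⟩ := exists_sylow_eq K (IsPGroup.of_card hm) hK1 hC
  rw [relIndex_commutator_subgroupOf hlt.le] at hle
  by_cases hp2 : p = 2
  · subst hp2
    refine Or.inl ⟨by rw [← hP]; exact P.card_eq_multiplicity, ?_⟩
    have hm0 : m ≠ 0 := fun h => hK1 (Subgroup.card_eq_one.1 (by rw [hm, h, pow_zero]))
    have hcop := FrobKernel.coprime_card_index H hCN
    rw [hcard, hm] at hcop
    have hei : H.index ≠ 1 := fun h => hH2 (Subgroup.index_eq_one.1 h)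
    obtain ⟨k, -, hk⟩ := (Nat.dvd_prime_pow hp).1
      (hm ▸ Subgroup.index_dvd_card (H := ⁅K, K⁆.subgroupOf K))
    rw [hk] at hle ⊢
    rcases Nat.eq_zero_or_pos k with h0 | hk0
    · rw [h0, pow_zero]
      have := Subgroup.index_ne_zero_of_finite (H := H)
      nlinarith [Nat.pos_of_ne_zero this]
    refine lt_of_le_of_ne ?_ fun h => ?_
    · rcases eq_or_lt_of_le hle with h | h
      · exfalso
        have h2 : 2 ∣ 4 * H.index ^ 2 + 1 := h ▸ dvd_pow_self 2 hk0.ne'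
        omega
      · omega
    · refine hei (Nat.eq_one_of_dvd_coprimes (k := H.index)
        ((Nat.coprime_pow_left_iff hk0 2 H.index).2
          ((Nat.coprime_pow_left_iff (Nat.pos_of_ne_zero hm0) 2 H.index).1 hcop)) ?_ dvd_rfl)
      rw [h, pow_two]
      exact dvd_mul_of_dvd_right (dvd_mul_left _ _) 4
  · right
    subst hP
    exact sibley p hp2 P (fun h => hna ⟨⟨fun a b => Subtype.ext (Subtype.ext (by
      have := h.is_comm.comm (⟨((a : L) : G), Subgroup.mem_subgroupOf.1 a.2⟩ : (P : Subgroup G))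
        ⟨((b : L) : G), Subgroup.mem_subgroupOf.1 b.2⟩
      exact congrArg (fun x : (P : Subgroup G) => (x : G)) this))⟩⟩) hTI L hL hlt hC

end CfsgLib.OddChar.Sibley
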