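import Cfsg.Agent.Lib.OddChar.Coprime
import Cfsg.Agent.Lib.Char.Conj
import Cfsg.Agent.Lib.Char.Twist

/-!
Classes of `K` fixed by a coprime element with abelian centraliser.
-/

set_option autoImplicit false

namespace CfsgLib.OddChar

theorem card_fixed_irr_of_coprime {L : Type*} [Group L] [Finite L] (K : Subgroup L) [hK : K.Normal]
    (y : L) (hcop : Nat.Coprime (orderOf y) (Nat.card K)) (W : Subgroup L)
    (hW : K ⊓ Subgroup.centralizer ({y} : Set L) = W)
    (hab : ∀ a ∈ W, ∀ b ∈ W, a * b = b * a) :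
    Nat.card {θ : Cfsg.IrrCharacter K // CharTwist.conjFun K (θ : K → ℂ) y = θ} = Nat.card W := by
  classical
  have hmem : ∀ {a : L}, a ∈ W ↔ a ∈ K ∧ a * y = y * a := fun {a} => by
    rw [← hW, Subgroup.mem_inf, Subgroup.mem_centralizer_singleton_iff]
  let s : K ≃* K := MulAut.conjNormal y
  have hfix : ∀ θ : Cfsg.IrrCharacter K, CharTwist.conjFun K (θ : K → ℂ) y = θ ↔
      (θ : K → ℂ) ∘ s = θ := fun θ => by
    have : CharTwist.conjFun K (θ : K → ℂ) y = (θ : K → ℂ) ∘ s := by
      funext n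
      exact congrArg θ.1 (Subtype.ext (by simp [s]))
    rw [this]
  rw [Nat.card_congr (Equiv.subtypeEquivRight hfix),
    Char.card_fixed_irr_eq_card_fixed_classes (fun k => s k)
      (fun χ hχ => Char.IsIrrCharacter.comp_mulEquiv hχ s)]
  have hsW : ∀ w : W, s ⟨w, (hmem.1 w.2).1⟩ = ⟨w, (hmem.1 w.2).1⟩ := fun w =>
    Subtype.ext (by simp [s, ← (hmem.1 w.2).2, mul_assoc])
  symm
  refine Nat.card_eq_of_bijective (fun w : W => (⟨ConjClasses.mk ⟨w, (hmem.1 w.2).1⟩, fun g hg => ?_⟩ :
    {C : ConjClasses K // ∀ g : K, ConjClasses.mk g = C → IsConj (s g) g})) ⟨?_, ?_⟩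
  · rw [ConjClasses.mk_eq_mk_iff_isConj] at hg
    have h2 := MonoidHom.map_isConj s.toMonoidHom hg
    rw [MulEquiv.coe_toMonoidHom, hsW] at h2
    exact h2.trans hg.symm
  · intro w w' h
    have h1 := ConjClasses.mk_eq_mk_iff_isConj.1 (congrArg Subtype.val h)
    obtain ⟨c, hc⟩ := isConj_iff.1 h1
    set k : L := (c : L)
    have hkw : k * w * k⁻¹ = w' := congrArg Subtype.val hc
    set C : Subgroup L := K ⊓ Subgroup.centralizer ({(w : L)} : Set L)
    have hyw : (w : L) * y = y * w := (hmem.1 w.2).2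
    have hyw' : (w' : L) * y = y * w' := (hmem.1 w'.2).2
    have hyC : y ∈ Subgroup.normalizer (C : Set L) := by
      refine Subgroup.mem_normalizer_iff.2 fun a => ?_
      constructor
      · rintro ⟨ha, hc⟩
        refine ⟨hK.conj_mem a ha y, Subgroup.mem_centralizer_singleton_iff.2 ?_⟩
        replace hc : a * (w : L) = w * a := Subgroup.mem_centralizer_singleton_iff.1 hc
        calc y * a * y⁻¹ * w = y * a * (y⁻¹ * (w * y)) * y⁻¹ := by group
          _ = y * (a * w) * y⁻¹ := by rw [hyw]; group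
          _ = y * (w * a) * y⁻¹ := by rw [hc]
          _ = (y * w) * a * y⁻¹ := by group
          _ = w * (y * a * y⁻¹) := by rw [← hyw]; group
      · rintro ⟨ha, hc⟩
        replace hc : y * a * y⁻¹ * (w : L) = w * (y * a * y⁻¹) :=
          Subgroup.mem_centralizer_singleton_iff.1 hc
        refine ⟨by have := hK.conj_mem _ ha y⁻¹; simpa [mul_assoc] using this,
          Subgroup.mem_centralizer_singleton_iff.2 ?_⟩
        calc a * w = y⁻¹ * (y * a * y⁻¹ * (y * w)) := by group
          _ = y⁻¹ * (y * a * y⁻¹ * w * y) := by rw [← hyw]; group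
          _ = y⁻¹ * (w * (y * a * y⁻¹) * y) := by rw [hc]
          _ = y⁻¹ * (w * y) * a := by group
          _ = w * a := by rw [hyw]; group
    have hz : k⁻¹ * (y * k * y⁻¹) ∈ C := by
      refine ⟨K.mul_mem (K.inv_mem c.2) (hK.conj_mem k c.2 y),
        Subgroup.mem_centralizer_singleton_iff.2 ?_⟩
      calc k⁻¹ * (y * k * y⁻¹) * w = k⁻¹ * (y * k * (y⁻¹ * (w * y)) * y⁻¹) := by group
        _ = k⁻¹ * (y * (k * w * k⁻¹) * k * y⁻¹) := by rw [hyw]; group
        _ = k⁻¹ * ((y * w') * k * y⁻¹) := by rw [hkw]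
        _ = k⁻¹ * (k * w * k⁻¹) * (y * k * y⁻¹) := by rw [← hyw', hkw]; group
        _ = w * (k⁻¹ * (y * k * y⁻¹)) := by group
    obtain ⟨h, hh, d, hd, hdy, he⟩ := exists_conj_centralizer_coset C y hyC
      (hcop.coprime_dvd_right (Subgroup.card_dvd_of_le inf_le_left)) _ hz
    set m := k * h⁻¹
    have he' : m⁻¹ * y * m = d * y := by rw [← he]; simp only [m]; group
    have hdc : Commute d y := hdy
    have hpow : (d * y) ^ orderOf y = 1 := by
      rw [← he']
      have := conj_pow (i := orderOf y) (a := m⁻¹) (b := y)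
      rw [inv_inv] at this
      rw [this, pow_orderOf_eq_one, mul_one, inv_mul_cancel]
    rw [hdc.mul_pow, pow_orderOf_eq_one, mul_one] at hpow
    have hd1 : d = 1 := by
      have hord : orderOf d ∣ Nat.card K := by
        have := orderOf_dvd_natCard (⟨d, hd.1⟩ : K)
        rwa [Subgroup.orderOf_mk] at this
      have := Nat.dvd_gcd (orderOf_dvd_of_pow_eq_one hpow) hord
      rw [Nat.coprime_iff_gcd_eq_one.1 hcop, Nat.dvd_one, orderOf_eq_one_iff] at this
      exact this
    rw [hd1, one_mul] at he'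
    have hmW : m ∈ W := hmem.2 ⟨K.mul_mem c.2 (K.inv_mem hh.1), by
      calc m * y = m * (m⁻¹ * y * m) := by rw [he']
        _ = y * m := by group⟩
    have hhw : h⁻¹ * w * h = w := by
      have h2 : h * (w : L) = w * h := Subgroup.mem_centralizer_singleton_iff.1 hh.2
      rw [mul_assoc, ← h2]; group
    refine Subtype.ext ?_
    calc (w : L) = m * w * m⁻¹ := by rw [hab m hmW w w.2]; group
      _ = k * (h⁻¹ * w * h) * k⁻¹ := by simp only [m]; group
      _ = (w' : L) := by rw [hhw, hkw]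
  · rintro ⟨C, hC⟩
    obtain ⟨g, rfl⟩ := ConjClasses.exists_rep C
    obtain ⟨c, hc⟩ := isConj_iff.1 (hC g rfl)
    have hc' : (c : L) * (y * g * y⁻¹) * (c : L)⁻¹ = g := by
      have := congrArg Subtype.val hc
      simpa [s] using this
    obtain ⟨x, hx, d, hd, hdy, he⟩ := exists_conj_centralizer_coset K y
      (by rw [Subgroup.normalizer_eq_top]; trivial) hcop (c : L) c.2
    obtain ⟨n, hn⟩ := exists_pow_split (G := L) hcop
    have hny : (d * y) ^ n = y := by
      rw [hdy]; exact hn y d hdy.symm (pow_orderOf_eq_one y) (pow_card_mem hd)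
    set w := x * g * x⁻¹
    have hcom : Commute (d * y) w := by
      show d * y * w = w * (d * y)
      rw [← he]
      have h2 : (c : L) * y * g = g * (c * y) := by
        calc (c : L) * y * g = c * (y * g * y⁻¹) * (c : L)⁻¹ * (c * y) := by group
          _ = g * (c * y) := by rw [hc']
      calc x * (c * y) * x⁻¹ * (x * g * x⁻¹) = x * (c * y * g) * x⁻¹ := by group
        _ = x * (g * (c * y)) * x⁻¹ := by rw [h2]
        _ = x * g * x⁻¹ * (x * (c * y) * x⁻¹) := by group
    have hwK : w ∈ K := hK.conj_mem _ g.2 x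
    have hwy := hcom.pow_left n
    rw [hny] at hwy
    refine ⟨⟨w, hmem.2 ⟨hwK, hwy.symm⟩⟩, Subtype.ext ?_⟩
    exact ConjClasses.mk_eq_mk_iff_isConj.2
      (isConj_iff.2 ⟨⟨x, hx⟩⁻¹, Subtype.ext (by simp [w, mul_assoc])⟩)

end CfsgLib.OddChar
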