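import Cfsg.Agent.Lib.Char.Integral
import Cfsg.Agent.Lib.Char.Orth
import Cfsg.Agent.Lib.Char.Linear
import Cfsg.Agent.Lib.Char.CentralOver
import Cfsg.Agent.Lib.CharTools.Basic
import Cfsg.Agent.Lib.OddChar.CyclicTI
import Mathlib.GroupTheory.FiniteAbelian.Duality

/-!
Character values on a central TI section: the congruence `ψ 1 ≡ ψ z` modulo the Sylow order, by
counting pairs of conjugates under a freely acting Sylow subgroup.
-/

set_option autoImplicit false

open ComplexConjugate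

namespace CfsgLib.OddChar.PairCount

theorem exists_card_mul_sum {α : Type*} [DecidableEq α] {P : Type*} [Group P] [Fintype P]
    (act : P → α → α) (h1 : ∀ a, act 1 a = a) (hmul : ∀ u v a, act (u * v) a = act u (act v a))
    (S : Finset α) (hS : ∀ u : P, ∀ a ∈ S, act u a ∈ S)
    (hfree : ∀ a ∈ S, ∀ u : P, act u a = a → u = 1) (f : α → ℂ)
    (hf : ∀ u : P, ∀ a ∈ S, f (act u a) = f a) (hint : ∀ a, IsIntegral ℤ (f a)) :
    ∃ w : ℂ, IsIntegral ℤ w ∧ ∑ a ∈ S, f a = (Fintype.card P : ℂ) * w := by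
  classical
  let orb : α → Finset α := fun a => Finset.univ.image fun u : P => act u a
  have hcard : ∀ a ∈ S, (orb a).card = Fintype.card P := fun a ha => by
    rw [Finset.card_image_of_injective, Finset.card_univ]
    intro u v huv
    have : act (v⁻¹ * u) a = a := by
      rw [hmul, show act u a = act v a from huv, ← hmul, inv_mul_cancel, h1]
    exact (inv_mul_eq_one.1 (hfree a ha _ this)).symm
  let rep : Finset α → ℂ := fun O => if h : ∃ a ∈ S, orb a = O then f h.choose else 0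
  refine ⟨∑ O ∈ S.image orb, rep O, IsIntegral.sum _ fun O _ => ?_, ?_⟩
  · simp only [rep]
    split_ifs with h
    · exact hint _
    · exact isIntegral_zero
  rw [Finset.mul_sum, ← Finset.sum_fiberwise_of_maps_to
    (fun a ha => Finset.mem_image_of_mem orb ha)]
  refine Finset.sum_congr rfl fun O hO => ?_
  obtain ⟨a, ha, rfl⟩ := Finset.mem_image.1 hO
  have hex : ∃ b ∈ S, orb b = orb a := ⟨a, ha, rfl⟩
  simp only [rep, dif_pos hex]
  obtain ⟨hb, hbe⟩ := hex.choose_spec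
  set b := hex.choose
  have hfib : S.filter (fun c => orb c = orb a) = orb a := by
    ext c
    simp only [Finset.mem_filter]
    constructor
    · rintro ⟨-, e⟩
      rw [← e]
      exact Finset.mem_image.2 ⟨1, Finset.mem_univ _, h1 c⟩
    · intro hc
      obtain ⟨u, -, rfl⟩ := Finset.mem_image.1 hc
      refine ⟨hS u a ha, ?_⟩
      ext x
      simp only [orb, Finset.mem_image, Finset.mem_univ, true_and]
      exact ⟨fun ⟨v, e⟩ => ⟨v * u, by rw [← e, hmul]⟩,
        fun ⟨v, e⟩ => ⟨v * u⁻¹, by rw [← e, hmul, ← hmul u⁻¹ u, inv_mul_cancel, h1]⟩⟩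
  rw [hfib, Finset.sum_congr rfl (g := fun _ => f b), Finset.sum_const, nsmul_eq_mul,
    hcard a ha]
  intro c hc
  rw [← hbe] at hc
  obtain ⟨u, -, rfl⟩ := Finset.mem_image.1 hc
  exact hf u b hb

variable {G : Type*} [Group G] [Fintype G] [DecidableEq G]

/-- The product of two class sums, evaluated by an irreducible character. -/
theorem sum_pairs_eq {ψ : G → ℂ} (hψ : Cfsg.IsIrrCharacter G ψ) (C D : Finset G)
    (hC : ∀ g h : G, h * g * h⁻¹ ∈ C ↔ g ∈ C) (hD : ∀ g h : G, h * g * h⁻¹ ∈ D ↔ g ∈ D) :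
    (∑ p ∈ C ×ˢ D, ψ (p.1 * p.2)) * ψ 1 = (∑ x ∈ C, ψ x) * ∑ y ∈ D, ψ y := by
  obtain ⟨n, ρ, hρ, rfl⟩ := hψ
  haveI := hρ
  obtain ⟨c, hc, hc'⟩ := Char.exists_scalar_sum_smul ρ (fun g => if g ∈ C then 1 else 0)
    (fun g h => by simp only [hC])
  obtain ⟨e, he, he'⟩ := Char.exists_scalar_sum_smul ρ (fun g => if g ∈ D then 1 else 0)
    (fun g h => by simp only [hD])
  simp only [ite_smul, one_smul, zero_smul, Finset.sum_ite_mem, Finset.univ_inter] at hc he
  simp only [ite_mul, one_mul, zero_mul, Finset.sum_ite_mem, Finset.univ_inter] at hc' he'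
  rw [← hc', ← he', Representation.char_one]
  have h : (∑ x ∈ C, ρ x) * (∑ y ∈ D, ρ y) = (c * e) • (1 : (Fin n → ℂ) →ₗ[ℂ] (Fin n → ℂ)) := by
    rw [hc, he, smul_mul_smul_comm, one_mul]
  rw [Finset.sum_mul_sum, ← Finset.sum_product'] at h
  simp only [← map_mul] at h
  have := congrArg (LinearMap.trace ℂ (Fin n → ℂ)) h
  rw [map_sum, map_smul, LinearMap.trace_one, smul_eq_mul] at this
  simp only [Representation.character]
  rw [this]
  ring

/-- The value of a character constant on `Z#`. -/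
theorem exists_int_const {ψ : G → ℂ} (hψ : Cfsg.IsCharacter G ψ) (Z : Subgroup G) [Fintype Z]
    (hab : ∀ a b : Z, a * b = b * a) {z : G} (hz : z ∈ Z) (hz1 : z ≠ 1)
    (hconst : ∀ w ∈ Z, w ≠ 1 → ψ w = ψ z) : ∃ n d : ℤ, ψ z = n ∧ ψ 1 = d := by
  letI : CommGroup Z := { (inferInstance : Group Z) with mul_comm := hab }
  obtain ⟨f, hf⟩ := CommGroup.exists_apply_ne_one_of_hasEnoughRootsOfUnity Z ℂ
    (a := (⟨z, hz⟩ : Z)) (fun h => hz1 (congrArg Subtype.val h))
  have hres := Char.IsCharacter.restrict hψ Z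
  obtain ⟨a, ha⟩ := Char.IsCharacter.exists_nat_classInner hres (Char.isIrrCharacter_linear f)
  obtain ⟨d, hd⟩ := Char.IsCharacter.exists_degree hψ
  refine ⟨(d : ℤ) - Nat.card Z * a, d, ?_, by simpa using hd⟩
  have hsum : ∑ w : Z, conj (f w : ℂ) = 0 := by
    have h1 : conj (f ⟨z, hz⟩ : ℂ) * ∑ w : Z, conj (f w : ℂ) = ∑ w : Z, conj (f w : ℂ) := by
      rw [Finset.mul_sum]
      refine Fintype.sum_equiv (Equiv.mulLeft (⟨z, hz⟩ : Z)) _ _ fun w => ?_
      rw [Equiv.coe_mulLeft, ← map_mul, map_mul f, Units.val_mul]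
    have h2 : conj (f ⟨z, hz⟩ : ℂ) - 1 ≠ 0 := sub_ne_zero.2 fun h =>
      hf (Units.ext ((starRingEnd ℂ).injective (h.trans (map_one _).symm)))
    exact (mul_eq_zero.1 (show (conj (f ⟨z, hz⟩ : ℂ) - 1) * _ = 0 by
      linear_combination h1)).resolve_left h2
  have hval : ∑ w : Z, ψ w * conj (f w : ℂ) = (d : ℂ) - ψ z := by
    have : ∀ w : Z, ψ w * conj (f w : ℂ) = ψ z * conj (f w : ℂ) +
        if w = 1 then (d : ℂ) - ψ z else 0 := by
      intro w
      split_ifs with h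
      · subst h; simp [hd]
      · rw [hconst w w.2 (fun e => h (Subtype.ext e)), add_zero]
    rw [Finset.sum_congr rfl fun w _ => this w, Finset.sum_add_distrib, ← Finset.mul_sum, hsum,
      Finset.sum_ite_eq' Finset.univ (1 : Z), if_pos (Finset.mem_univ _), mul_zero, zero_add]
  rw [Cfsg.classInner, hval, inv_mul_eq_iff_eq_mul₀ (Nat.cast_ne_zero.2 Nat.card_pos.ne')] at ha
  push_cast
  linear_combination -ha

/-- The congruence. -/
theorem congruence (p : ℕ) [hp : Fact p.Prime] (P : Sylow p G)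
    (hTI : Cfsg.IsTISubset ((P : Subgroup G) : Set G))
    (hodd : Odd (Nat.card (Subgroup.normalizer ((P : Subgroup G) : Set G))))
    (Z : Subgroup G) (hZP : Z ≤ P)
    (hZn : ∀ x ∈ Subgroup.normalizer ((P : Subgroup G) : Set G), ∀ z ∈ Z, x * z * x⁻¹ ∈ Z)
    (hZc : ∀ z ∈ Z, ∀ y ∈ (P : Subgroup G), z * y = y * z)
    {ψ : G → ℂ} (hψ : Cfsg.IsIrrCharacter G ψ)
    {z : G} (hz : z ∈ Z) (hz1 : z ≠ 1) (hconst : ∀ w ∈ Z, w ≠ 1 → ψ w = ψ z) :
    ∃ n d : ℤ, ψ z = n ∧ ψ 1 = d ∧ (Nat.card (P : Subgroup G) : ℤ) ∣ d - n := by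
  classical
  set L := Subgroup.normalizer ((P : Subgroup G) : Set G) with hL
  haveI : Fintype Z := Fintype.ofFinite Z
  obtain ⟨n, d, hn, hd⟩ := exists_int_const (Char.IsIrrCharacter.isCharacter hψ) Z
    (fun a b => Subtype.ext (hZc a a.2 b (hZP b.2))) hz hz1 hconst
  refine ⟨n, d, hn, hd, ?_⟩
  have hcl := Char.IsIrrCharacter.isClassFunction hψ
  have hint : ∀ g, IsIntegral ℤ (ψ g) := by
    obtain ⟨k, ρ, hρ, rfl⟩ := hψ
    exact Char.isIntegral_character ρ
  have hTI' : ∀ {w g : G}, w ∈ (P : Subgroup G) → w ≠ 1 → g * w * g⁻¹ ∈ (P : Subgroup G) → g ∈ L :=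
    fun {w g} hw hw1 hg => by_contra fun h => hw1 (hTI g h w hw hg)
  have hpelt : ∀ {x g : G}, x = g * z * g⁻¹ → ∀ u ∈ (P : Subgroup G), u ≠ 1 → u * x * u⁻¹ = x →
      x ∈ Z := by
    intro x g hx u hu hu1 hux
    have hxu : x * u * x⁻¹ = u := by
      calc x * u * x⁻¹ = (u * x * u⁻¹) * u * x⁻¹ := by rw [hux]
        _ = u := by group
    have hxL : x ∈ L := hTI' hu hu1 (by rw [hxu]; exact hu)
    have hQ : IsPGroup p (Subgroup.zpowers x) := by
      obtain ⟨k, hk⟩ := IsPGroup.iff_orderOf.1 P.isPGroup' ⟨z, hZP hz⟩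
      refine IsPGroup.of_card (n := k) ?_
      rw [Nat.card_zpowers, hx, ← hk, Subgroup.orderOf_mk]
      exact orderOf_injective (MulAut.conj g).toMonoidHom (MulAut.conj g).injective z
    have hxP : x ∈ (P : Subgroup G) := by
      have : x ∈ Subgroup.zpowers x ⊓ L := ⟨Subgroup.mem_zpowers x, hxL⟩
      exact ((SetLike.ext_iff.1 (hQ.inf_normalizer_sylow P) x).1 this).2
    have hgL : g ∈ L := hTI' (hZP hz) hz1 (hx ▸ hxP)
    rw [hx]
    exact hZn g hgL z hz
  -- the two classes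
  set C : Finset G := Finset.univ.image fun g => g * z * g⁻¹
  set C' : Finset G := Finset.univ.image fun g => g * z⁻¹ * g⁻¹
  have hconjC : ∀ a : G, ∀ g h : G,
      h * g * h⁻¹ ∈ Finset.univ.image (fun t => t * a * t⁻¹) ↔
        g ∈ Finset.univ.image (fun t => t * a * t⁻¹) := by
    intro a g h
    simp only [Finset.mem_image, Finset.mem_univ, true_and]
    exact ⟨fun ⟨t, e⟩ => ⟨h⁻¹ * t, by
        calc h⁻¹ * t * a * (h⁻¹ * t)⁻¹ = h⁻¹ * (t * a * t⁻¹) * h := by group
          _ = g := by rw [e]; group⟩,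
      fun ⟨t, e⟩ => ⟨h * t, by rw [← e]; group⟩⟩
  have hval : ∀ x ∈ C, ψ x = n := fun x hx => by
    obtain ⟨g, -, rfl⟩ := Finset.mem_image.1 hx
    rw [hcl z g, hn]
  have hzinv : ψ z⁻¹ = n := by
    rw [hconst _ (Z.inv_mem hz) (inv_ne_one.2 hz1), hn]
  have hval' : ∀ x ∈ C', ψ x = n := fun x hx => by
    obtain ⟨g, -, rfl⟩ := Finset.mem_image.1 hx
    rw [hcl z⁻¹ g, hzinv]
  have hinv : C' = C.image fun x => x⁻¹ := by
    rw [Finset.image_image]
    exact Finset.image_congr fun g _ => by simp [mul_assoc]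
  have hcard : C'.card = C.card := by
    rw [hinv, Finset.card_image_of_injective _ inv_injective]
  set K := C.filter fun x => x ∈ Z
  set K' := C'.filter fun x => x ∈ Z
  have hK : ∀ x, x ∈ K ↔ ∃ l ∈ L, l * z * l⁻¹ = x := fun x => by
    simp only [K, C, Finset.mem_filter, Finset.mem_image, Finset.mem_univ, true_and]
    constructor
    · rintro ⟨⟨g, rfl⟩, hx⟩
      exact ⟨g, hTI' (hZP hz) hz1 (hZP hx), rfl⟩
    · rintro ⟨l, hl, rfl⟩
      exact ⟨⟨l, rfl⟩, hZn l hl z hz⟩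
  have hK' : K' = K.image fun x => x⁻¹ := by
    ext y
    simp only [K', K, hinv, Finset.mem_filter, Finset.mem_image]
    constructor
    · rintro ⟨⟨x, hx, rfl⟩, hy⟩
      exact ⟨x, ⟨hx, by simpa using hy⟩, rfl⟩
    · rintro ⟨x, ⟨hx, hxZ⟩, rfl⟩
      exact ⟨⟨x, hx, rfl⟩, Z.inv_mem hxZ⟩
  have hKK : ∀ x ∈ K, x⁻¹ ∉ K := by
    intro x hx hxi
    obtain ⟨a, ha, rfl⟩ := (hK x).1 hx
    obtain ⟨b, hb, e⟩ := (hK _).1 hxi
    set l := a⁻¹ * b
    have hl : l ∈ L := L.mul_mem (L.inv_mem ha) hb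
    have e1 : l * z * l⁻¹ = z⁻¹ := by
      calc l * z * l⁻¹ = a⁻¹ * (b * z * b⁻¹) * a := by simp only [l]; group
        _ = z⁻¹ := by rw [e]; group
    obtain ⟨t, ht⟩ := hodd
    have hlN : l ^ Nat.card L = 1 := pow_card_mem hl
    have hiter : ∀ k : ℕ, l ^ (2 * k) * z * (l ^ (2 * k))⁻¹ = z := by
      intro k
      induction k with
      | zero => simp
      | succ k ih =>
        have e2 : l * z⁻¹ * l⁻¹ = z := by
          calc l * z⁻¹ * l⁻¹ = (l * z * l⁻¹)⁻¹ := by group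
            _ = z := by rw [e1, inv_inv]
        calc l ^ (2 * (k + 1)) * z * (l ^ (2 * (k + 1)))⁻¹
            = l * (l * (l ^ (2 * k) * z * (l ^ (2 * k))⁻¹) * l⁻¹) * l⁻¹ := by
              rw [show 2 * (k + 1) = (2 * k + 1) + 1 by ring, pow_succ', pow_succ']; group
          _ = z := by rw [ih, e1, e2]
    have h1 := hiter t
    have hl2 : l ^ (2 * t) = l⁻¹ := by
      rw [eq_inv_iff_mul_eq_one, ← pow_succ, ← ht, hlN]
    rw [hl2] at h1
    have : z = z⁻¹ := by
      calc z = l * (l⁻¹ * z * l⁻¹⁻¹) * l⁻¹ := by group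
        _ = z⁻¹ := by rw [h1, e1]
    have hz2 : z ^ 2 = 1 := by
      rw [pow_two]; nth_rewrite 2 [this]; exact mul_inv_cancel z
    have hzL : z ∈ L := Subgroup.le_normalizer (hZP hz)
    have hzN : z ^ (2 * t + 1) = 1 := by
      rw [← ht]
      exact pow_card_mem hzL
    rw [pow_succ, pow_mul, hz2, one_pow, one_mul] at hzN
    exact hz1 hzN
  let act : ↥(P : Subgroup G) → G × G → G × G :=
    fun u q => ((u : G) * q.1 * (u : G)⁻¹, (u : G) * q.2 * (u : G)⁻¹)
  have hsmul : ∀ (u : (P : Subgroup G)) (q : G × G),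
      act u q = ((u : G) * q.1 * (u : G)⁻¹, (u : G) * q.2 * (u : G)⁻¹) := fun u q => rfl
  have hact1 : ∀ q, act 1 q = q := fun q => by simp [act]
  have hactm : ∀ u v q, act (u * v) q = act u (act v q) := fun u v q => by
    simp [act, mul_assoc]
  haveI : Fintype (P : Subgroup G) := Fintype.ofFinite _
  have hpairs : ∀ D : Finset G, (∀ g h : G, h * g * h⁻¹ ∈ D ↔ g ∈ D) →
      (∀ y ∈ D, ∀ u ∈ (P : Subgroup G), u ≠ 1 → u * y * u⁻¹ = y → y ∈ Z) →
      ∃ w : ℂ, IsIntegral ℤ w ∧ ∑ q ∈ C ×ˢ D, ψ (q.1 * q.2) =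
        (∑ q ∈ K ×ˢ D.filter (fun y => y ∈ Z), ψ (q.1 * q.2)) +
          (Nat.card (P : Subgroup G) : ℂ) * w := by
    intro D hD hDZ
    set S := (C ×ˢ D) \ (K ×ˢ D.filter fun y => y ∈ Z)
    have hsub : K ×ˢ D.filter (fun y => y ∈ Z) ⊆ C ×ˢ D :=
      Finset.product_subset_product (Finset.filter_subset _ _) (Finset.filter_subset _ _)
    have hmem : ∀ q : G × G, q ∈ S ↔ (q.1 ∈ C ∧ q.2 ∈ D) ∧ ¬ (q.1 ∈ Z ∧ q.2 ∈ Z) := fun q => by
      simp only [S, K, Finset.mem_sdiff, Finset.mem_product, Finset.mem_filter]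
      tauto
    obtain ⟨w, hw, he⟩ := exists_card_mul_sum act hact1 hactm S
      (fun u q hq => by
        rw [hmem] at hq ⊢
        rw [hsmul]
        refine ⟨⟨(hconjC z q.1 u).2 hq.1.1, (hD q.2 u).2 hq.1.2⟩, fun h => hq.2 ?_⟩
        have hu : ∀ y : G, (u : G) * y * (u : G)⁻¹ ∈ Z → y ∈ Z := fun y hy => by
          have e : y = (u : G) * y * (u : G)⁻¹ := by
            calc y = (u : G)⁻¹ * ((u : G) * y * (u : G)⁻¹ * u) := by group
              _ = (u : G) * y * (u : G)⁻¹ := by rw [hZc _ hy u u.2]; group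
          rw [e]; exact hy
        exact ⟨hu _ h.1, hu _ h.2⟩)
      (fun q hq u hu => by
        by_contra hu1
        rw [hmem] at hq
        rw [hsmul, Prod.ext_iff] at hu
        obtain ⟨g, -, hg⟩ := Finset.mem_image.1 hq.1.1
        have hu1' : (u : G) ≠ 1 := fun e => hu1 (Subtype.ext e)
        exact hq.2 ⟨hpelt hg.symm u u.2 hu1' hu.1, hDZ _ hq.1.2 u u.2 hu1' hu.2⟩)
      (fun q => ψ (q.1 * q.2))
      (fun u q _ => by
        rw [hsmul]
        show ψ (((u : G) * q.1 * (u : G)⁻¹) * ((u : G) * q.2 * (u : G)⁻¹)) = _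
        rw [← hcl (q.1 * q.2) u]
        congr 1
        group)
      (fun q => hint _)
    refine ⟨w, hw, ?_⟩
    rw [← Finset.sum_sdiff hsub, he, Nat.card_eq_fintype_card]
    ring
  obtain ⟨w₁, hw₁, e₁⟩ := hpairs C (hconjC z) fun y hy u hu hu1 h => by
    obtain ⟨g, -, hg⟩ := Finset.mem_image.1 hy
    exact hpelt hg.symm u hu hu1 h
  obtain ⟨w₂, hw₂, e₂⟩ := hpairs C' (hconjC z⁻¹) fun y hy u hu hu1 h => by
    rw [hinv] at hy
    obtain ⟨x, hx, rfl⟩ := Finset.mem_image.1 hy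
    obtain ⟨g, -, hg⟩ := Finset.mem_image.1 hx
    refine Z.inv_mem (hpelt hg.symm u hu hu1 (inv_injective ?_))
    rw [← h]; group
  set m := K.card
  have s₁ : ∑ q ∈ K ×ˢ K, ψ (q.1 * q.2) = (m : ℂ) * m * n := by
    rw [Finset.sum_congr rfl (g := fun _ => (n : ℂ)), Finset.sum_const, Finset.card_product,
      nsmul_eq_mul, Nat.cast_mul]
    intro q hq
    obtain ⟨h1, h2⟩ := Finset.mem_product.1 hq
    rw [hconst _ (Z.mul_mem (Finset.mem_filter.1 h1).2 (Finset.mem_filter.1 h2).2), hn]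
    intro e
    exact hKK _ h1 (by rw [← eq_inv_of_mul_eq_one_right e]; exact h2)
  have s₂ : ∑ q ∈ K ×ˢ K', ψ (q.1 * q.2) = (m : ℂ) * d + ((m : ℂ) * m - m) * n := by
    rw [Finset.sum_product, hK']
    have : ∀ x ∈ K, ∑ y ∈ K.image (fun t => t⁻¹), ψ (x * y) = (d : ℂ) - n + m * n := by
      intro x hx
      rw [Finset.sum_image fun a _ b _ h => inv_injective h]
      have hxy : ∀ y ∈ K, ψ (x * y⁻¹) = (n : ℂ) + if y = x then (d : ℂ) - n else 0 := by
        intro y hy
        split_ifs with h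
        · subst h; rw [mul_inv_cancel, hd]; ring
        · rw [hconst _ (Z.mul_mem (Finset.mem_filter.1 hx).2
            (Z.inv_mem (Finset.mem_filter.1 hy).2)) (fun e => h (mul_inv_eq_one.1 e).symm), hn,
            add_zero]
      rw [Finset.sum_congr rfl hxy, Finset.sum_add_distrib, Finset.sum_ite_eq', if_pos hx,
        Finset.sum_const, nsmul_eq_mul]
      ring
    rw [Finset.sum_congr rfl this, Finset.sum_const, nsmul_eq_mul]
    ring
  have t₁ := sum_pairs_eq hψ C C (hconjC z) (hconjC z)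
  have t₂ := sum_pairs_eq hψ C C' (hconjC z) (hconjC z⁻¹)
  rw [e₁, Finset.sum_congr rfl hval, Finset.sum_const, nsmul_eq_mul, s₁] at t₁
  rw [e₂, Finset.sum_congr rfl hval, Finset.sum_congr rfl hval', Finset.sum_const,
    Finset.sum_const, nsmul_eq_mul, nsmul_eq_mul, hcard, s₂, ← t₁] at t₂
  have key := mul_right_cancel₀ (Char.IsIrrCharacter.apply_one_ne_zero hψ) t₂
  have key' : (m : ℂ) * ((d : ℂ) - n) = (Nat.card (P : Subgroup G) : ℂ) * (w₁ - w₂) := by
    linear_combination key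
  have hP0 : (Nat.card (P : Subgroup G) : ℚ) ≠ 0 := by exact_mod_cast Nat.card_pos.ne'
  obtain ⟨r, hr⟩ := Char.exists_int_of_isIntegral_ratCast
    (q := ((m : ℚ) * ((d : ℚ) - n)) / (Nat.card (P : Subgroup G) : ℚ)) (by
      push_cast
      rw [key', mul_div_cancel_left₀ _ (by exact_mod_cast Nat.card_pos.ne')]
      exact hw₁.sub hw₂)
  rw [eq_div_iff hP0] at hr
  have hr' : r * (Nat.card (P : Subgroup G) : ℤ) = (m : ℤ) * (d - n) := by exact_mod_cast hr
  -- `m` is prime to `p`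
  have hm : Nat.Coprime m p := by
    set R := L ⊓ Subgroup.centralizer ({z} : Set G)
    have hcount : (Finset.univ.filter fun l => l ∈ L).card = m * Nat.card R := by
      rw [Finset.card_eq_sum_card_fiberwise (f := fun l => l * z * l⁻¹) (t := K)
        (fun l hl => (hK _).2 ⟨l, (Finset.mem_filter.1 hl).2, rfl⟩),
        Finset.sum_const_nat (m := Nat.card R)]
      intro x hx
      obtain ⟨a, ha, rfl⟩ := (hK x).1 hx
      rw [Nat.card_eq_fintype_card, Fintype.card_subtype]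
      refine Finset.card_bij' (fun l _ => a⁻¹ * l) (fun c _ => a * c) ?_ ?_ ?_ ?_
      · intro l hl
        simp only [Finset.mem_filter, Finset.mem_univ, true_and] at hl ⊢
        refine ⟨L.mul_mem (L.inv_mem ha) hl.1, Subgroup.mem_centralizer_singleton_iff.2 ?_⟩
        calc a⁻¹ * l * z = a⁻¹ * (l * z * l⁻¹) * l := by group
          _ = z * (a⁻¹ * l) := by rw [hl.2]; group
      · intro c hc
        simp only [Finset.mem_filter, Finset.mem_univ, true_and] at hc ⊢
        refine ⟨L.mul_mem ha hc.1, ?_⟩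
        have h := Subgroup.mem_centralizer_singleton_iff.1 hc.2
        calc a * c * z * (a * c)⁻¹ = a * (c * z) * c⁻¹ * a⁻¹ := by group
          _ = a * z * a⁻¹ := by rw [h]; group
      · intro l _; simp
      · intro c _; simp
    rw [← Fintype.card_subtype, ← Nat.card_eq_fintype_card] at hcount
    have hPR : (P : Subgroup G) ≤ R := fun u hu =>
      ⟨Subgroup.le_normalizer hu, Subgroup.mem_centralizer_singleton_iff.2 (hZc z hz u hu).symm⟩
    have hR := Subgroup.card_dvd_of_le hPR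
    have hPL : (P : Subgroup G) ≤ L := Subgroup.le_normalizer
    have hm1 : m ∣ (P : Subgroup G).relIndex L := by
      obtain ⟨t, ht⟩ := hR
      have h := ((P : Subgroup G).subgroupOf L).card_mul_index
      rw [Nat.card_congr (Subgroup.subgroupOfEquivOfLe hPL).toEquiv] at h
      refine Dvd.intro t (Nat.eq_of_mul_eq_mul_left (Nat.card_pos (α := (P : Subgroup G))) ?_)
      show _ = _ * ((P : Subgroup G).subgroupOf L).index
      rw [h, show Nat.card L = m * Nat.card R from hcount, ht]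
      ring
    refine ((Nat.Prime.coprime_iff_not_dvd hp.out).2 fun h => P.not_dvd_index ?_).symm
    exact (h.trans hm1).trans (Subgroup.relIndex_dvd_index_of_le hPL)
  obtain ⟨k, hk⟩ := IsPGroup.iff_card.1 P.isPGroup'
  have hco : IsCoprime (Nat.card (P : Subgroup G) : ℤ) (m : ℤ) := by
    rw [Int.isCoprime_iff_nat_coprime, Int.natAbs_natCast, Int.natAbs_natCast, hk]
    exact (hm.pow_right k).symm
  exact hco.dvd_of_dvd_mul_left ⟨r, by linear_combination -hr'⟩

end CfsgLib.OddChar.PairCount
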