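import Cfsg.Agent.Lib.OddChar.CentralPart
import Cfsg.Agent.Lib.OddChar.PairCount
import Cfsg.Agent.Lib.OddChar.Virt
import Cfsg.Agent.Lib.Char.TISet
import Mathlib.GroupTheory.FixedPointFree

/-!
Sibley's coherence theorem for a trivial-intersection `p`-subgroup with `p` odd.
-/

set_option autoImplicit false

open ComplexConjugate
open scoped commutatorElement

namespace CfsgLib.OddChar.Sibley

variable {G : Type*} [Group G] [Fintype G]

theorem centralizer_le_of_subgroupOf {K L : Subgroup G}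
    (hC : ∀ k ∈ K, k ≠ 1 → Subgroup.centralizer ({k} : Set G) ≤ K) :
    ∀ h ∈ K.subgroupOf L, h ≠ 1 →
      Subgroup.centralizer ({h} : Set L) ≤ K.subgroupOf L := by
  intro h hh h1 x hx
  refine Subgroup.mem_subgroupOf.2 (hC h (Subgroup.mem_subgroupOf.1 hh)
    (fun e => h1 (Subtype.ext e)) ?_)
  rw [Subgroup.mem_centralizer_singleton_iff]
  exact congrArg Subtype.val (Subgroup.mem_centralizer_singleton_iff.1 hx)

/-- Induction from `N(K)` is an isometry on the combinations of `S` vanishing at `1`. -/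
theorem ind_isometry (K L : Subgroup G) [Fintype L] (hL : L = Subgroup.normalizer (K : Set G))
    (hTI : Cfsg.IsTISubset (K : Set G)) :
    Cfsg.IsLinearIsometryOn (Cfsg.zspanOn (Cfsg.inducedIrrAbove (K.subgroupOf L) ⊥) {1}ᶜ)
        (fun α => Cfsg.indFun L α) ∧
      ∀ α ∈ Cfsg.zspanOn (Cfsg.inducedIrrAbove (K.subgroupOf L) ⊥) {1}ᶜ,
        Cfsg.indFun L α 1 = 0 := by
  classical
  subst hL
  haveI : (K.subgroupOf (Subgroup.normalizer (K : Set G))).Normal := Subgroup.normal_in_normalizer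
  haveI : Fintype (K.subgroupOf (Subgroup.normalizer (K : Set G))) := Fintype.ofFinite _
  have hspan : ∀ α ∈ Cfsg.zspan (Cfsg.inducedIrrAbove (K.subgroupOf (Subgroup.normalizer (K : Set G))) ⊥),
      Cfsg.IsGeneralizedCharacter (Subgroup.normalizer (K : Set G)) α ∧ Cfsg.IsClassFunction (Subgroup.normalizer (K : Set G)) α ∧
        ∀ x : Subgroup.normalizer (K : Set G), (x : G) ∉ K → α x = 0 := by
    intro α hα
    induction hα using Submodule.span_induction with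
    | mem φ hφ =>
      obtain ⟨θ, hθ, -, -, rfl⟩ := hφ
      have hc := Char.IsCharacter.indFun (K.subgroupOf (Subgroup.normalizer (K : Set G))) (Char.IsIrrCharacter.isCharacter hθ)
      exact ⟨Char.IsCharacter.isGeneralizedCharacter hc, Char.isClassFunction_indFun _ _,
        fun x hx => Char.indFun_eq_zero_of_normal _ _ fun h => hx (Subgroup.mem_subgroupOf.1 h)⟩
    | zero => exact ⟨Char.IsGeneralizedCharacter.zero, fun _ _ => rfl, fun _ _ => rfl⟩
    | add a b _ _ ha hb =>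
      exact ⟨Char.IsGeneralizedCharacter.add ha.1 hb.1,
        fun x y => by simp only [Pi.add_apply]; rw [ha.2.1 x y, hb.2.1 x y],
        fun x hx => by simp [ha.2.2 x hx, hb.2.2 x hx]⟩
    | smul n a _ ha =>
      refine ⟨?_, fun x y => by simp only [Pi.smul_apply]; rw [ha.2.1 x y],
        fun x hx => by simp [ha.2.2 x hx]⟩
      induction n using Int.induction_on with
      | zero => simpa using Char.IsGeneralizedCharacter.zero
      | succ i hi => rw [add_smul, one_smul]; exact Char.IsGeneralizedCharacter.add hi ha.1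
      | pred i hi => rw [sub_smul, one_smul]; exact Char.IsGeneralizedCharacter.sub hi ha.1
  refine ⟨⟨fun α _ β _ => Char.indFun_add (Subgroup.normalizer (K : Set G)) α β, fun α _ n => ?_, fun α hα β hβ => ?_,
    fun α hα => Char.IsGeneralizedCharacter.indFun (Subgroup.normalizer (K : Set G)) (hspan α hα.1).1⟩, fun α hα => ?_⟩
  · show Cfsg.indFun (Subgroup.normalizer (K : Set G)) (n • α) = n • Cfsg.indFun (Subgroup.normalizer (K : Set G)) α
    rw [← Coh.intCast_smul_eq, Char.indFun_smul, Coh.intCast_smul_eq]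
  · exact Char.classInner_indFun_ti (K : Set G) hTI α β (hspan β hβ.1).2.1 (hspan α hα.1).2.2
      (hspan β hβ.1).2.2 (Coh.mem_zspanOn_iff.1 hα).2
  · rw [Char.indFun_apply_one, (Coh.mem_zspanOn_iff.1 hα).2, mul_zero]

/-- A non-abelian kernel forces odd index. -/
theorem odd_index {N : Type*} [Group N] [Finite N] (H : Subgroup N) [H.Normal]
    (hC : ∀ h ∈ H, h ≠ 1 → Subgroup.centralizer ({h} : Set N) ≤ H) (hodd : Odd (Nat.card H))
    (hna : ¬ IsMulCommutative H) : Odd H.index := by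
  by_contra he
  rw [Nat.not_odd_iff_even, even_iff_two_dvd] at he
  obtain ⟨t, ht⟩ := exists_prime_orderOf_dvd_card' (G := N) 2 (he.trans H.index_dvd_card)
  have htH : t ∉ H := by
    intro h
    have h2 := orderOf_dvd_natCard (⟨t, h⟩ : H)
    rw [Subgroup.orderOf_mk, ht] at h2
    exact Nat.not_even_iff_odd.2 hodd (even_iff_two_dvd.2 h2)
  let φ : H ≃* H := MulAut.conjNormal t
  have hfix : MonoidHom.FixedPointFree (φ : H → H) := by
    intro k hk
    by_contra h1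
    have hk' : t * (k : N) * t⁻¹ = k := by
      have := congrArg Subtype.val hk
      simpa [φ] using this
    exact htH (FrobKernel.mem_of_commute H hC k.2 (fun e => h1 (Subtype.ext e))
      (mul_inv_eq_iff_eq_mul.1 hk'))
  have hinv : Function.Involutive (φ : H → H) := fun k => Subtype.ext (by
    have h2 : t * t = 1 := by rw [← pow_two, ← ht, pow_orderOf_eq_one]
    simp only [φ, MulAut.conjNormal_apply]
    calc t * (t * (k : N) * t⁻¹) * t⁻¹ = (t * t) * k * (t * t)⁻¹ := by group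
      _ = k := by rw [h2]; simp)
  exact hna ⟨⟨fun a b => (MonoidHom.FixedPointFree.commute_all_of_involutive hfix hinv a b).eq⟩⟩

theorem exists_two_of_coherent {N : Type*} [Group N] [Fintype N] {X : Set (N → ℂ)}
    {τ : (N → ℂ) → (G → ℂ)} (hirr : ∀ φ ∈ X, Cfsg.IsIrrCharacter N φ)
    (h : Cfsg.IsCoherent X {1}ᶜ τ) : ∃ a ∈ X, ∃ b ∈ X, a ≠ b := by
  obtain ⟨⟨α, hα, hne⟩, -⟩ := h
  by_contra hc
  push_neg at hc
  rcases X.eq_empty_or_nonempty with h | ⟨a, ha⟩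
  · rw [h] at hα
    exact hne (by simpa [Cfsg.zspan] using hα.1)
  · have hXa : X = {a} := Set.eq_singleton_iff_unique_mem.2 ⟨ha, fun b hb => hc b hb a ha⟩
    have h1 := hα.1
    rw [hXa] at h1
    obtain ⟨n, hn⟩ := Submodule.mem_span_singleton.1 h1
    have h2 := (Coh.mem_zspanOn_iff.1 hα).2
    rw [← hn, Pi.smul_apply, zsmul_eq_mul, mul_eq_zero] at h2
    rcases h2 with h2 | h2
    · exact hne (by rw [← hn, Int.cast_eq_zero.1 h2, zero_smul])
    · exact Char.IsIrrCharacter.apply_one_ne_zero (hirr a ha) h2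

/-- Exchanging the two members of a coherent pair of equal degree. -/
theorem swap_two {N : Type*} [Group N] [Fintype N] {α : (N → ℂ) → (G → ℂ)}
    {σ : (N → ℂ) → (G → ℂ)} {a b : N → ℂ} (ha : Cfsg.IsIrrCharacter N a)
    (hb : Cfsg.IsIrrCharacter N b) (hab : a ≠ b) (hdeg : a 1 = b 1)
    (hσ : Cfsg.IsLinearIsometryOn (Cfsg.zspan ({a, b} : Set (N → ℂ))) σ)
    (hagree : ∀ θ ∈ Cfsg.zspanOn ({a, b} : Set (N → ℂ)) {1}ᶜ, σ θ = α θ) :
    ∃ σ₁ : (N → ℂ) → (G → ℂ), Cfsg.IsLinearIsometryOn (Cfsg.zspan ({a, b} : Set (N → ℂ))) σ₁ ∧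
      (∀ θ ∈ Cfsg.zspanOn ({a, b} : Set (N → ℂ)) {1}ᶜ, σ₁ θ = α θ) ∧ σ₁ a = -σ b := by
  classical
  let S : Finset (N → ℂ) := {a, b}
  have hS : (↑S : Set (N → ℂ)) = {a, b} := by simp [S]
  have horth : ∀ x ∈ S, ∀ y ∈ S, x ≠ y → Cfsg.classInner x y = 0 := by
    intro x hx y hy hxy
    simp only [S, Finset.mem_insert, Finset.mem_singleton] at hx hy
    rcases hx with rfl | rfl <;> rcases hy with rfl | rfl
    exacts [absurd rfl hxy, Char.classInner_irr_of_ne ha hb hxy,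
      Char.classInner_irr_of_ne hb ha hxy, absurd rfl hxy]
  have hself : ∀ x ∈ S, Cfsg.classInner x x = 1 := by
    intro x hx
    simp only [S, Finset.mem_insert, Finset.mem_singleton] at hx
    rcases hx with rfl | rfl
    exacts [Char.classInner_irr_self ha, Char.classInner_irr_self hb]
  have hne : ∀ x ∈ S, Cfsg.classInner x x ≠ 0 := fun x hx => by rw [hself x hx]; exact one_ne_zero
  let f : (N → ℂ) → (G → ℂ) := fun x => if x = a then -σ b else -σ a
  have hma : a ∈ Cfsg.zspan ({a, b} : Set (N → ℂ)) := mem_zspan_self (by simp)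
  have hmb : b ∈ Cfsg.zspan ({a, b} : Set (N → ℂ)) := mem_zspan_self (by simp)
  have hfa : f a = -σ b := if_pos rfl
  have hfb : f b = -σ a := if_neg hab.symm
  refine ⟨Coh.ext S f, ?_, ?_, ?_⟩
  · rw [← hS]
    refine Coh.isLinearIsometryOn_ext horth hne (fun x hx => ?_) (fun x hx y hy => ?_)
    · simp only [S, Finset.mem_insert, Finset.mem_singleton] at hx
      rcases hx with rfl | rfl
      · rw [hfa]; exact Char.IsGeneralizedCharacter.neg (hσ.2.2.2 b hmb)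
      · rw [hfb]; exact Char.IsGeneralizedCharacter.neg (hσ.2.2.2 a hma)
    · simp only [S, Finset.mem_insert, Finset.mem_singleton] at hx hy
      have hn : ∀ u v : G → ℂ, Cfsg.classInner (-u) (-v) = Cfsg.classInner u v := fun u v => by
        simp [Cfsg.classInner]
      rcases hx with rfl | rfl <;> rcases hy with rfl | rfl
      · rw [hfa, hn, hσ.2.2.1 b hmb b hmb, Char.classInner_irr_self hb, Char.classInner_irr_self ha]
      · rw [hfa, hfb, hn, hσ.2.2.1 _ hmb _ hma, Char.classInner_irr_of_ne hb ha hab.symm,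
          Char.classInner_irr_of_ne ha hb hab]
      · rw [hfa, hfb, hn, hσ.2.2.1 _ hma _ hmb, Char.classInner_irr_of_ne ha hb hab,
          Char.classInner_irr_of_ne hb ha hab.symm]
      · rw [hfb, hn, hσ.2.2.1 a hma a hma, Char.classInner_irr_self ha, Char.classInner_irr_self hb]
  · intro θ hθ
    obtain ⟨m, n, hmn⟩ := Submodule.mem_span_pair.1 hθ.1
    have h1 := (Coh.mem_zspanOn_iff.1 hθ).2
    rw [← hmn, Pi.add_apply, Pi.smul_apply, Pi.smul_apply, zsmul_eq_mul, zsmul_eq_mul, hdeg,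
      ← add_mul, mul_eq_zero] at h1
    have hnm : n = -m := by
      have := h1.resolve_right (Char.IsIrrCharacter.apply_one_ne_zero hb)
      have : m + n = 0 := by exact_mod_cast this
      omega
    subst hnm
    rw [← hagree θ hθ, ← hmn, Coh.ext_add, Coh.ext_zsmul, Coh.ext_zsmul,
      Coh.ext_self horth hne (by simp [S]), Coh.ext_self horth hne (by simp [S]), hfa, hfb,
      hσ.1 _ (Submodule.smul_mem _ _ hma) _ (Submodule.smul_mem _ _ hmb), hσ.2.1 a hma,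
      hσ.2.1 b hmb]
    simp only [smul_neg, neg_smul, neg_neg]
    abel
  · rw [Coh.ext_self horth hne (by simp [S]), hfa]

variable {N : Type*} [Group N] [Fintype N]

/-- If `ψ` has proportional coefficients on the characters nontrivial on `Z` then the constant of
proportionality is pinned by the value of `ψ` on `Z`. -/
theorem value_on_Z (Z : Subgroup N) (X : Finset (N → ℂ))
    (hX : ∀ χ, χ ∈ X ↔ Cfsg.IsIrrCharacter N χ ∧ ∃ z ∈ Z, χ z ≠ χ 1) {ψ : N → ℂ}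
    (hψ : Cfsg.IsClassFunction N ψ) (D w₀ : ℂ) (hD : D ≠ 0)
    (hw : ∀ χ ∈ X, Cfsg.classInner ψ χ * D = χ 1 * w₀) {z : N} (hz : z ∈ Z) (hz1 : z ≠ 1) :
    (ψ 1 - ψ z) * D = w₀ * (Nat.card N : ℂ) := by
  classical
  have hdec := Char.IsClassFunction.eq_sum_classInner hψ
  have h1 : ψ 1 - ψ z = ∑ χ : Cfsg.IrrCharacter N,
      Cfsg.classInner ψ χ * ((χ : N → ℂ) 1 - (χ : N → ℂ) z) := by
    conv_lhs => rw [hdec]
    simp [Finset.sum_apply, mul_sub, Finset.sum_sub_distrib]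
  have h2 : ∀ χ : Cfsg.IrrCharacter N,
      Cfsg.classInner ψ χ * ((χ : N → ℂ) 1 - (χ : N → ℂ) z) * D =
        w₀ * ((χ : N → ℂ) 1 * ((χ : N → ℂ) 1 - (χ : N → ℂ) z)) := by
    intro χ
    by_cases hχ : (χ : N → ℂ) ∈ X
    · linear_combination ((χ : N → ℂ) 1 - (χ : N → ℂ) z) * hw _ hχ
    · have : (χ : N → ℂ) z = (χ : N → ℂ) 1 := by
        by_contra hne
        exact hχ ((hX _).2 ⟨χ.2, z, hz, hne⟩)
      rw [this, sub_self, mul_zero, zero_mul, mul_zero, mul_zero]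
  rw [h1, Finset.sum_mul, Finset.sum_congr rfl (fun χ _ => h2 χ), ← Finset.mul_sum]
  congr 1
  have hconj : ∀ χ : Cfsg.IrrCharacter N, conj ((χ : N → ℂ) 1) = (χ : N → ℂ) 1 := fun χ =>
    OddChar.conj_apply_one (Char.IsIrrCharacter.isCharacter χ.2)
  have h3 := Char.sum_mul_conj (G := N) z 1
  rw [if_neg (fun h => hz1 (isConj_one_left.1 h))] at h3
  simp only [hconj] at h3
  calc ∑ χ : Cfsg.IrrCharacter N, (χ : N → ℂ) 1 * ((χ : N → ℂ) 1 - (χ : N → ℂ) z)
      = ∑ χ : Cfsg.IrrCharacter N, (χ : N → ℂ) 1 ^ 2 -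
          ∑ χ : Cfsg.IrrCharacter N, (χ : N → ℂ) z * (χ : N → ℂ) 1 := by
        rw [← Finset.sum_sub_distrib]
        exact Finset.sum_congr rfl fun χ _ => by ring
    _ = _ := by rw [h3, sub_zero]; exact Char.sum_apply_one_sq

/-- The arithmetic at the heart of the joining step. -/
theorem join_arith (M r c b a : ℤ) (hM : 2 ≤ M) (hr : 2 ≤ r) (hc : 0 < c)
    (h : b ^ 2 * M - 2 * b + c ^ 2 * (a ^ 2 * r + 2 * a) ≤ 0) :
    (b = 0 ∨ b = 1 ∧ M = 2) ∧ (a = 0 ∨ a = -1 ∧ r = 2) ∧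
      b ^ 2 * M - 2 * b + c ^ 2 * (a ^ 2 * r + 2 * a) = 0 := by
  have e1 : 0 ≤ b ^ 2 * M - 2 * b := by
    have : 0 ≤ b * (b - 1) := by
      rcases le_or_gt b 0 with hb | hb
      · exact mul_nonneg_of_nonpos_of_nonpos hb (by linarith)
      · exact mul_nonneg hb.le (by linarith)
    nlinarith [mul_nonneg (sq_nonneg b) (sub_nonneg.2 hM)]
  have e2 : 0 ≤ a ^ 2 * r + 2 * a := by
    have : 0 ≤ a * (a + 1) := by
      rcases lt_or_ge a 0 with ha | ha
      · exact mul_nonneg_of_nonpos_of_nonpos ha.le (by linarith)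
      · exact mul_nonneg ha (by linarith)
    nlinarith [mul_nonneg (sq_nonneg a) (sub_nonneg.2 hr)]
  have e3 : 0 ≤ c ^ 2 * (a ^ 2 * r + 2 * a) := mul_nonneg (sq_nonneg c) e2
  have f1 : b * (b * M - 2) = 0 := by linarith
  have f2 : c ^ 2 * (a * (a * r + 2)) = 0 := by linarith
  refine ⟨?_, ?_, by linarith⟩
  · rcases mul_eq_zero.1 f1 with h1 | h1
    · exact Or.inl h1
    · have hb : b = 1 := by
        have hb1 : 0 < b := by
          by_contra hb
          push_neg at hb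
          nlinarith [mul_nonpos_of_nonpos_of_nonneg hb (show (0 : ℤ) ≤ M by linarith)]
        by_contra hne
        have : 2 ≤ b := by omega
        nlinarith [mul_le_mul this hM (by norm_num) (by linarith)]
      subst hb
      exact Or.inr ⟨rfl, by linarith⟩
  · rcases mul_eq_zero.1 f2 with h2 | h2
    · exact absurd h2 (pow_ne_zero 2 hc.ne')
    rcases mul_eq_zero.1 h2 with h3 | h3
    · exact Or.inl h3
    · have ha : a = -1 := by
        have ha1 : a < 0 := by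
          by_contra ha
          push_neg at ha
          nlinarith [mul_nonneg ha (show (0 : ℤ) ≤ r by linarith)]
        by_contra hne
        have : a ≤ -2 := by omega
        nlinarith [mul_le_mul_of_nonneg_right this (show (0 : ℤ) ≤ r by linarith)]
      subst ha
      exact Or.inr ⟨rfl, by linarith⟩

/-- Sibley's theorem for a non-abelian TI `p`-subgroup, `p` odd. -/
theorem sibley (p : ℕ) [hp : Fact p.Prime] (hp2 : p ≠ 2) (P : Sylow p G)
    (hna : ¬ IsMulCommutative (P : Subgroup G))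
    (hTI : Cfsg.IsTISubset ((P : Subgroup G) : Set G))
    (L : Subgroup G) [Fintype L] (hLdef : L = Subgroup.normalizer ((P : Subgroup G) : Set G))
    (hlt : (P : Subgroup G) < L)
    (hC : ∀ k ∈ (P : Subgroup G), k ≠ 1 → Subgroup.centralizer ({k} : Set G) ≤ (P : Subgroup G)) :
    Cfsg.IsCoherent (Cfsg.inducedIrrAbove ((P : Subgroup G).subgroupOf L) ⊥) {1}ᶜ
      (fun α => Cfsg.indFun L α) := by
  classical
  have hPL : (P : Subgroup G) ≤ L := hlt.le
  haveI : ((P : Subgroup G).subgroupOf L).Normal := by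
    subst hLdef; exact Subgroup.normal_in_normalizer
  set H := (P : Subgroup G).subgroupOf L
  have hcard : Nat.card H = Nat.card (P : Subgroup G) :=
    Nat.card_congr (Subgroup.subgroupOfEquivOfLe hPL).toEquiv
  have hpH : ∃ m, Nat.card H = p ^ m := hcard ▸ IsPGroup.iff_card.1 P.isPGroup'
  have hHodd : Odd (Nat.card H) := by
    obtain ⟨m, hm⟩ := hpH
    rw [hm]; exact (hp.out.odd_of_ne_two hp2).pow
  have hnaH : ¬ IsMulCommutative H := fun h => hna ⟨⟨fun a b => by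
    have := h.is_comm.comm ⟨⟨a, hPL a.2⟩, a.2⟩ ⟨⟨b, hPL b.2⟩, b.2⟩
    exact Subtype.ext (congrArg (fun x => ((x : H) : L) |>.1) this)⟩⟩
  have hCN : ∀ h ∈ H, h ≠ 1 → Subgroup.centralizer ({h} : Set L) ≤ H :=
    centralizer_le_of_subgroupOf hC
  have hH2 : H ≠ ⊤ := fun h => hlt.not_ge (Subgroup.subgroupOf_eq_top.1 h)
  have he : Odd H.index := odd_index H hCN hHodd hnaH
  have hLodd : Odd (Nat.card L) := by rw [← H.card_mul_index]; exact hHodd.mul he
  have hH1 : H ≠ ⊥ := fun h => hnaH ⟨⟨fun a b => Subtype.ext (by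
    have ha : (a : L) = 1 := Subgroup.mem_bot.1 (h ▸ a.2)
    have hb : (b : L) = 1 := Subgroup.mem_bot.1 (h ▸ b.2)
    simp [ha, hb])⟩⟩
  have hirr := Irr.irr_of_above (N := L) hCN
  obtain ⟨hτ, hτ1⟩ := ind_isometry (P : Subgroup G) L hLdef hTI
  set τ : (L → ℂ) → (G → ℂ) := fun α => Cfsg.indFun L α
  haveI : Group.IsNilpotent H := FrobKernel.isNilpotent H hCN hH2
  have hsolv : Group.IsSolvable H := inferInstance
  haveI hH₁n : (⁅H, H⁆ : Subgroup L).Normal := Subgroup.commutator_normal H H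
  set H₁ := (⁅H, H⁆ : Subgroup L)
  have hle : H₁ ≤ H := Subgroup.commutator_le.2 fun a ha b hb => by
    rw [commutatorElement_def]
    exact H.mul_mem (H.mul_mem (H.mul_mem ha hb) (H.inv_mem ha)) (H.inv_mem hb)
  have hH₁sub : H₁.subgroupOf H = commutator H := by
    rw [show H₁ = (commutator H).map H.subtype from (Subgroup.map_subtype_commutator H).symm,
      Subgroup.subgroupOf,
      Subgroup.comap_map_eq_self_of_injective H.subtype_injective]
  have hcomm_ne : commutator H ≠ ⊥ := fun h => hnaH ⟨⟨fun a b => by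
    rw [commutator_def, Subgroup.commutator_eq_bot_iff_le_centralizer] at h
    exact (h (Subgroup.mem_top a) b (Subgroup.mem_top b)).symm⟩⟩
  have hlt₁ : H₁ < H := lt_of_le_of_ne hle fun h => by
    haveI : Nontrivial H := (Subgroup.nontrivial_iff_ne_bot H).2 hH1
    haveI := hsolv
    have := Group.IsSolvable.commutator_lt_top_of_nontrivial H
    rw [← hH₁sub, h, Subgroup.subgroupOf_self] at this
    exact lt_irrefl _ this
  -- the central subgroup `Z`
  obtain ⟨Z₀, hZ₀n, hZ₀⟩ := FrobCoh.exists_centre_mod H (⊥ : Subgroup L)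
  haveI := hZ₀n
  set Z := H₁ ⊓ Z₀
  have hZH₁ : Z ≤ H₁ := inf_le_left
  have hZH : Z ≤ H := hZH₁.trans hle
  have hcent : ∀ x ∈ Z, ∀ y ∈ H, x * y = y * x := fun x hx y hy => by
    have h := Subgroup.mem_bot.1 (((hZ₀ x).1 hx.2).2 y hy)
    calc x * y = (x * y * x⁻¹ * y⁻¹) * (y * x) := by group
      _ = y * x := by rw [h, one_mul]
  have hZ1 : Z ≠ ⊥ := by
    intro hbot
    obtain ⟨z, hz, hz1, hzc⟩ := NilQuot.exists_central (commutator H) hcomm_ne
    refine hz1 (Subtype.ext (Subgroup.mem_bot.1 (hbot ▸ (show (z : L) ∈ Z from ⟨?_, ?_⟩))))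
    · have : z ∈ H₁.subgroupOf H := by rw [hH₁sub]; exact hz
      exact Subgroup.mem_subgroupOf.1 this
    · refine (hZ₀ _).2 ⟨z.2, fun y hy => ?_⟩
      have h := congrArg Subtype.val (Subgroup.mem_center_iff.1 hzc ⟨y, hy⟩)
      simp only [Subgroup.coe_mul] at h
      rw [Subgroup.mem_bot, ← h]; group
  haveI : Z.Normal := inferInstance
  obtain ⟨X, hX, hXset, hXsum⟩ := CentralPart.exists_central_data H hCN Z hZH
  have hXS : (↑X : Set (L → ℂ)) ⊆ Cfsg.inducedIrrAbove H ⊥ := hXset ▸ Set.sdiff_subset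
  have hXcoh : Cfsg.IsCoherent (↑X : Set (L → ℂ)) {1}ᶜ τ := by
    have h := CentralPart.central_part_coherent H hp.out hp2 hpH he hH2 hCN Z hZ1 hZH hcent hτ hτ1
    rwa [show {χ : L → ℂ | Cfsg.IsIrrCharacter L χ ∧ ∃ z ∈ Z, χ z ≠ χ 1} = ↑X from
      Set.ext fun χ => by simp [hX χ]] at h
  have hfin : (Cfsg.inducedIrrAbove H ⊥).Finite :=
    (Set.finite_range (fun χ : Cfsg.IrrCharacter L => (χ : L → ℂ))).subset
      fun φ hφ => ⟨⟨φ, hirr φ hφ⟩, rfl⟩
  have hYT : Cfsg.inducedIrrAbove H H₁ ⊆ Cfsg.inducedIrrAbove H ⊥ := Above.above_mono H bot_le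
  set Y := (hfin.subset hYT).toFinset with hYdef
  have hYset : (↑Y : Set (L → ℂ)) = Cfsg.inducedIrrAbove H H₁ := Set.Finite.coe_toFinset _
  have hYS : (↑Y : Set (L → ℂ)) ⊆ Cfsg.inducedIrrAbove H ⊥ := hYset ▸ hYT
  have ha1 : H₁.relIndex H ≠ 1 := fun h => hlt₁.not_ge (Subgroup.relIndex_eq_one.1 h)
  have haodd : Odd (H₁.relIndex H) := hHodd.of_dvd_nat (Subgroup.relIndex_dvd_card H₁ H)
  have hYcoh : Cfsg.IsCoherent (↑Y : Set (L → ℂ)) {1}ᶜ τ := by
    rw [hYset]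
    refine FrobCoh.derived_coherent H hτ hτ1 hirr ha1 fun h => ?_
    exact Nat.not_even_iff_odd.2 haodd (h ▸ he.add_odd odd_one)
  have hXY : Disjoint (↑X : Set (L → ℂ)) ↑Y := by
    rw [hXset, hYset]
    exact Set.disjoint_left.2 fun χ h1 h2 => h1.2 (Above.above_mono H hZH₁ h2)
  have hXirr : ∀ φ ∈ (↑X : Set (L → ℂ)), Cfsg.IsIrrCharacter L φ := fun φ h => hirr φ (hXS h)
  have hYirr : ∀ φ ∈ (↑Y : Set (L → ℂ)), Cfsg.IsIrrCharacter L φ := fun φ h => hirr φ (hYS h)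
  have hX2 := exists_two_of_coherent hXirr hXcoh
  have hY2 := exists_two_of_coherent hYirr hYcoh
  obtain ⟨-, σ, hσ, hσα⟩ := id hXcoh
  obtain ⟨-, τ', hτ', hτ'α⟩ := id hYcoh
  have horth := Coh.union_orth (Cfsg.inducedIrrAbove H ⊥) ↑X ↑Y hirr hXS hYS hXY hX2 hY2 hτ hτ1
    hσ hσα hτ' hτ'α
  -- degrees
  set e := H.index with hedef
  have hadata : ∀ χ ∈ Cfsg.inducedIrrAbove H ⊥, ∃ a : ℕ,
      Cfsg.charDegree χ = e * p ^ a ∧ p ^ (2 * a) ∣ Z.relIndex H := fun χ hχ =>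
    CentralPart.exists_degree_pow H hp.out hpH hirr Z hZH hcent hχ
  choose! a ha had using hadata
  obtain ⟨u₁, hu₁, u₂, hu₂, hu₁₂⟩ := hX2
  obtain ⟨χ₀, hχ₀, hmin⟩ := X.exists_min_image a ⟨u₁, hu₁⟩
  obtain ⟨η₀, hη₀, η', hη', hηη'⟩ := hY2
  set c : ℤ := (p : ℤ) ^ a χ₀ with hcdef
  have hc0 : 0 < c := pow_pos (by exact_mod_cast hp.out.pos) _
  let r : (L → ℂ) → ℤ := fun χ => (p : ℤ) ^ (a χ - a χ₀)
  have hr0 : r χ₀ = 1 := by simp [r]
  have hXdeg : ∀ χ ∈ X, χ 1 = (e : ℂ) * c * r χ := fun χ hχ => by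
    rw [Irr.exists_deg hirr χ (hXS hχ), ha χ (hXS hχ)]
    simp only [r, c, Int.cast_pow, Int.cast_natCast, Nat.cast_mul, Nat.cast_pow]
    rw [mul_assoc, ← pow_add, Nat.add_sub_cancel' (hmin χ hχ)]
  have hYdeg : ∀ η ∈ Y, η 1 = (e : ℂ) := fun η hη => by
    rw [Irr.exists_deg hirr η (hYS hη), FrobCoh.deg_above_derived H hirr (hYset ▸ hη)]
  have hone : ∀ x ∈ Cfsg.inducedIrrAbove H ⊥, ∀ y ∈ Cfsg.inducedIrrAbove H ⊥,
      Cfsg.classInner x y = if x = y then 1 else 0 := by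
    intro x hx y hy
    split_ifs with h
    · rw [h]; exact Char.classInner_irr_self (hirr y hy)
    · exact Char.classInner_irr_of_ne (hirr x hx) (hirr y hy) h
  have hne₀ : ∀ x ∈ X, ∀ y ∈ Y, x ≠ y := fun x hx y hy h =>
    Set.disjoint_left.1 hXY hx (h ▸ hy)
  have hmX : ∀ χ ∈ X, χ - r χ • χ₀ ∈ Cfsg.zspanOn (↑X : Set (L → ℂ)) {1}ᶜ := fun χ hχ =>
    Coh.mem_zspanOn_iff.2 ⟨Submodule.sub_mem _ (mem_zspan_self hχ)
      (Submodule.smul_mem _ _ (mem_zspan_self hχ₀)), by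
        simp [hXdeg χ hχ, hXdeg χ₀ hχ₀, hr0]; ring⟩
  have hmY : ∀ η ∈ Y, η - η₀ ∈ Cfsg.zspanOn (↑Y : Set (L → ℂ)) {1}ᶜ := fun η hη =>
    Coh.mem_zspanOn_iff.2 ⟨Submodule.sub_mem _ (mem_zspan_self hη) (mem_zspan_self hη₀), by
      simp [hYdeg η hη, hYdeg η₀ hη₀]⟩
  have hmβ : c • η₀ - χ₀ ∈ Cfsg.zspanOn (Cfsg.inducedIrrAbove H ⊥) {1}ᶜ :=
    Coh.mem_zspanOn_iff.2 ⟨Submodule.sub_mem _ (Submodule.smul_mem _ _ (mem_zspan_self (hYS hη₀)))
      (mem_zspan_self (hXS hχ₀)), by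
        simp [hXdeg χ₀ hχ₀, hYdeg η₀ hη₀, hr0]; ring⟩
  set β := τ (c • η₀ - χ₀) with hβ
  have hgen : Cfsg.IsGeneralizedCharacter G β := hτ.2.2.2 _ hmβ
  choose! u hu using fun χ (hχ : χ ∈ X) =>
    Coh.exists_int_inner hgen (hσ.2.2.2 χ (mem_zspan_self hχ))
  choose! v hv using fun η (hη : η ∈ Y) =>
    Coh.exists_int_inner hgen (hτ'.2.2.2 η (mem_zspan_self hη))
  set b : ℤ := u χ₀ + 1 with hb
  have hurel : ∀ χ ∈ X, u χ = r χ * b - if χ = χ₀ then 1 else 0 := by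
    intro χ hχ
    have e1 : Cfsg.classInner β (τ (χ - r χ • χ₀)) =
        Cfsg.classInner (c • η₀ - χ₀) (χ - r χ • χ₀) :=
      hτ.2.2.1 _ hmβ _ (Coh.zspanOn_mono hXS (hmX χ hχ))
    rw [← hσα _ (hmX χ hχ), Coh.zspan_isometry_sub hσ (mem_zspan_self hχ)
      (Submodule.smul_mem _ _ (mem_zspan_self hχ₀)), hσ.2.1 χ₀ (mem_zspan_self hχ₀)] at e1
    simp only [Char.classInner_sub_left, Char.classInner_sub_right, Coh.classInner_zsmul_left,
      Coh.classInner_zsmul_right, hu χ hχ, hu χ₀ hχ₀, hone η₀ (hYS hη₀) χ (hXS hχ),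
      hone η₀ (hYS hη₀) χ₀ (hXS hχ₀), if_neg (hne₀ χ hχ η₀ hη₀).symm,
      if_neg (hne₀ χ₀ hχ₀ η₀ hη₀).symm, hone χ₀ (hXS hχ₀) χ (hXS hχ),
      hone χ₀ (hXS hχ₀) χ₀ (hXS hχ₀), ↓reduceIte] at e1
    rw [hb]
    by_cases h : χ = χ₀
    · subst h
      simp only [hr0, ↓reduceIte]; ring
    · rw [if_neg (Ne.symm h)] at e1
      rw [if_neg h, sub_zero]
      have : (u χ : ℂ) = ((r χ * (u χ₀ + 1) : ℤ) : ℂ) := by push_cast; linear_combination e1
      exact_mod_cast this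
  set a' : ℤ := v η₀ - c with ha'
  have hvrel : ∀ η ∈ Y, v η = a' + if η = η₀ then c else 0 := by
    intro η hη
    have e1 : Cfsg.classInner β (τ (η - η₀)) = Cfsg.classInner (c • η₀ - χ₀) (η - η₀) :=
      hτ.2.2.1 _ hmβ _ (Coh.zspanOn_mono hYS (hmY η hη))
    rw [← hτ'α _ (hmY η hη), Coh.zspan_isometry_sub hτ' (mem_zspan_self hη)
      (mem_zspan_self hη₀)] at e1
    simp only [Char.classInner_sub_left, Char.classInner_sub_right, Coh.classInner_zsmul_left,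
      hv η hη, hv η₀ hη₀, hone η₀ (hYS hη₀) η (hYS hη), hone η₀ (hYS hη₀) η₀ (hYS hη₀),
      hone χ₀ (hXS hχ₀) η (hYS hη), hone χ₀ (hXS hχ₀) η₀ (hYS hη₀),
      if_neg (hne₀ χ₀ hχ₀ η hη), if_neg (hne₀ χ₀ hχ₀ η₀ hη₀), ↓reduceIte] at e1
    rw [ha']
    by_cases h : η = η₀
    · subst h; simp
    · rw [if_neg (Ne.symm h)] at e1
      rw [if_neg h, add_zero]
      have : (v η : ℂ) = ((v η₀ - c : ℤ) : ℂ) := by push_cast; linear_combination e1
      exact_mod_cast this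
  -- divisibility
  set ZG := Z.map L.subtype
  have hZG : ∀ x, x ∈ ZG ↔ ∃ hx : x ∈ L, (⟨x, hx⟩ : L) ∈ Z := fun x => by
    constructor
    · rintro ⟨y, hy, rfl⟩; exact ⟨y.2, hy⟩
    · rintro ⟨hx, h⟩; exact ⟨⟨x, hx⟩, h, rfl⟩
  have hdvd : ∀ η ∈ Y, c ∣ v η := by
    intro η hη
    have hgη := hτ'.2.2.2 η (mem_zspan_self hη)
    have hnη : Cfsg.classInner (τ' η) (τ' η) = 1 := by
      rw [hτ'.2.2.1 _ (mem_zspan_self hη) _ (mem_zspan_self hη),
        Char.classInner_irr_self (hirr η (hYS hη))]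
    obtain ⟨ψ, s, hψ, hs, hτψ⟩ : ∃ (ψ : G → ℂ) (s : ℤ), Cfsg.IsIrrCharacter G ψ ∧
        (s = 1 ∨ s = -1) ∧ τ' η = s • ψ := by
      rcases irr_or_neg_of_norm_one hgη hnη with h | h
      · exact ⟨_, 1, h, Or.inl rfl, (one_smul _ _).symm⟩
      · exact ⟨_, -1, h, Or.inr rfl, by simp⟩
    have hcl := Char.IsIrrCharacter.isClassFunction hψ
    set ρ : L → ℂ := fun l => ψ l
    have hρ : Cfsg.IsCharacter L ρ :=
      Char.IsCharacter.restrict (Char.IsIrrCharacter.isCharacter hψ) L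
    have hs0 : (s : ℂ) ≠ 0 := by rcases hs with rfl | rfl <;> norm_num
    have hind : ∀ α : L → ℂ, Cfsg.classInner (τ α) ψ = Cfsg.classInner α ρ := fun α =>
      Char.classInner_indFun L α ψ hcl
    have hint : ∀ x ∈ Cfsg.inducedIrrAbove H ⊥, ∃ k : ℤ,
        Cfsg.classInner x ρ = k ∧ Cfsg.classInner ρ x = k := fun x hx => by
      obtain ⟨k, hk⟩ := Char.IsCharacter.exists_nat_classInner hρ (hirr x hx)
      refine ⟨k, ?_, by simpa using hk⟩
      rw [← Char.classInner_conj_symm, hk]; simp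
    obtain ⟨w₀, hw₀, hw₀'⟩ := hint χ₀ (hXS hχ₀)
    have hwrel : ∀ χ ∈ X, Cfsg.classInner ρ χ * ((e : ℂ) * c) = χ 1 * (w₀ : ℂ) := by
      intro χ hχ
      obtain ⟨k, hk, hk'⟩ := hint χ (hXS hχ)
      have h0 : Cfsg.classInner (τ (χ - r χ • χ₀)) (τ' η) = 0 := by
        rw [← hσα _ (hmX χ hχ), Coh.zspan_isometry_sub hσ (mem_zspan_self hχ)
          (Submodule.smul_mem _ _ (mem_zspan_self hχ₀)), hσ.2.1 χ₀ (mem_zspan_self hχ₀),
          Char.classInner_sub_left, Coh.classInner_zsmul_left, horth χ hχ η hη,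
          horth χ₀ hχ₀ η hη, mul_zero, sub_zero]
      rw [hτψ, Coh.classInner_zsmul_right, hind, mul_eq_zero] at h0
      have h1 := h0.resolve_left hs0
      rw [Char.classInner_sub_left, Coh.classInner_zsmul_left, hk, hw₀] at h1
      rw [hk', hXdeg χ hχ]
      linear_combination ((e : ℂ) * c) * h1
    have hec : (e : ℂ) * c ≠ 0 :=
      mul_ne_zero (Nat.cast_ne_zero.2 he.pos.ne') (Int.cast_ne_zero.2 hc0.ne')
    have hval : ∀ x ∈ ZG, x ≠ 1 → (ψ 1 - ψ x) * ((e : ℂ) * c) = w₀ * (Nat.card L : ℂ) := by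
      intro x hx hx1
      obtain ⟨hxL, hxZ⟩ := (hZG x).1 hx
      exact value_on_Z Z X hX (Char.IsCharacter.isClassFunction hρ) _ _ hec hwrel hxZ
        fun h => hx1 (congrArg Subtype.val h)
    obtain ⟨z₁, hz₁, hz₁1⟩ : ∃ x ∈ ZG, x ≠ 1 := by
      obtain ⟨⟨z, hz⟩, hz1⟩ := Z.ne_bot_iff_exists_ne_one.1 hZ1
      exact ⟨(z : G), ⟨z, hz, rfl⟩, fun h => hz1 (Subtype.ext (Subtype.ext h))⟩
    obtain ⟨n, d, hn, hd, k, hk⟩ := PairCount.congruence p P hTI (hLdef ▸ hLodd) ZG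
      (fun x hx => by
        obtain ⟨hxL, hxZ⟩ := (hZG x).1 hx
        exact Subgroup.mem_subgroupOf.1 (hZH hxZ))
      (fun l hl x hx => by
        rw [← hLdef] at hl
        obtain ⟨hxL, hxZ⟩ := (hZG x).1 hx
        exact ⟨⟨l, hl⟩ * ⟨x, hxL⟩ * ⟨l, hl⟩⁻¹,
          Subgroup.Normal.conj_mem inferInstance _ hxZ _, rfl⟩)
      (fun x hx y hy => by
        obtain ⟨hxL, hxZ⟩ := (hZG x).1 hx
        exact congrArg Subtype.val (hcent _ hxZ ⟨y, hPL hy⟩ hy))
      hψ hz₁ hz₁1 (fun x hx hx1 => by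
        have h := (hval x hx hx1).trans (hval z₁ hz₁ hz₁1).symm
        have := mul_right_cancel₀ hec h
        linear_combination -this)
    have h := hval z₁ hz₁ hz₁1
    have hk' : (d : ℂ) - n = (Nat.card (P : Subgroup G) : ℂ) * k := by exact_mod_cast hk
    rw [hd, hn, hk', ← H.card_mul_index, hcard, Nat.cast_mul] at h
    have hwk : w₀ = k * c := by
      have hne : (Nat.card (P : Subgroup G) : ℂ) * (e : ℂ) ≠ 0 :=
        mul_ne_zero (Nat.cast_ne_zero.2 Nat.card_pos.ne') (Nat.cast_ne_zero.2 he.pos.ne')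
      have : (w₀ : ℂ) = ((k * c : ℤ) : ℂ) := by
        apply mul_right_cancel₀ hne
        push_cast
        linear_combination -h
      exact_mod_cast this
    obtain ⟨k₀, hk₀, -⟩ := hint η₀ (hYS hη₀)
    refine ⟨s * (k₀ - k), ?_⟩
    have hv' : (v η : ℂ) = ((c * (s * (k₀ - k)) : ℤ) : ℂ) := by
      rw [← hv η hη, hτψ, Coh.classInner_zsmul_right, hβ, hind, Char.classInner_sub_left,
        Coh.classInner_zsmul_left, hk₀, hw₀, hwk]
      push_cast; ring
    exact_mod_cast hv'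
  obtain ⟨a'', ha''⟩ : c ∣ a' := dvd_sub (hdvd η₀ hη₀) dvd_rfl
  -- Bessel
  let F : (L → ℂ) ⊕ (L → ℂ) → G → ℂ := Sum.elim σ τ'
  let Kf : (L → ℂ) ⊕ (L → ℂ) → ℝ := Sum.elim (fun x => (u x : ℝ)) (fun x => (v x : ℝ))
  obtain ⟨hb1, hb2⟩ := Coh.bessel (X.disjSum Y) F β
    (by
      rintro (i | i) hi (j | j) hj hij <;>
        simp only [Finset.inl_mem_disjSum, Finset.inr_mem_disjSum] at hi hj
      · exact (hσ.2.2.1 _ (mem_zspan_self hi) _ (mem_zspan_self hj)).trans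
          (Char.classInner_irr_of_ne (hXirr i hi) (hXirr j hj) fun h => hij (congrArg _ h))
      · exact horth i hi j hj
      · show Cfsg.classInner (τ' i) (σ j) = 0
        rw [← Char.classInner_conj_symm, horth j hj i hi, map_zero]
      · exact (hτ'.2.2.1 _ (mem_zspan_self hi) _ (mem_zspan_self hj)).trans
          (Char.classInner_irr_of_ne (hYirr i hi) (hYirr j hj) fun h => hij (congrArg _ h)))
    (fun _ => 1) Kf
    (by
      rintro (i | i) hi <;> simp only [Finset.inl_mem_disjSum, Finset.inr_mem_disjSum] at hi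
      · exact ((hσ.2.2.1 _ (mem_zspan_self hi) _ (mem_zspan_self hi)).trans
          (Char.classInner_irr_self (hXirr i hi))).trans (by simp)
      · exact ((hτ'.2.2.1 _ (mem_zspan_self hi) _ (mem_zspan_self hi)).trans
          (Char.classInner_irr_self (hYirr i hi))).trans (by simp))
    (fun _ _ => one_pos)
    (by
      rintro (i | i) hi <;> simp only [Finset.inl_mem_disjSum, Finset.inr_mem_disjSum] at hi
      · exact (hu i hi).trans (by simp [Kf])
      · exact (hv i hi).trans (by simp [Kf]))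
  have hnorm : (Cfsg.classInner β β).re = (c : ℝ) ^ 2 + 1 := by
    rw [hβ, hτ.2.2.1 _ hmβ _ hmβ]
    simp only [Char.classInner_sub_left, Char.classInner_sub_right, Coh.classInner_zsmul_left,
      Coh.classInner_zsmul_right, hone η₀ (hYS hη₀) η₀ (hYS hη₀),
      hone χ₀ (hXS hχ₀) χ₀ (hXS hχ₀), hone η₀ (hYS hη₀) χ₀ (hXS hχ₀),
      hone χ₀ (hXS hχ₀) η₀ (hYS hη₀), ↓reduceIte, if_neg (hne₀ χ₀ hχ₀ η₀ hη₀),
      if_neg (hne₀ χ₀ hχ₀ η₀ hη₀).symm]
    simp [pow_two]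
  simp only [hnorm, div_one, Finset.sum_disjSum, Kf, F, Sum.elim_inl, Sum.elim_inr] at hb1 hb2
  set M : ℤ := ∑ χ ∈ X, r χ ^ 2
  have hsumu : ∑ χ ∈ X, u χ ^ 2 = b ^ 2 * M - 2 * b + 1 := by
    have : ∀ χ ∈ X, u χ ^ 2 = b ^ 2 * r χ ^ 2 + if χ = χ₀ then (-2 * b + 1) else 0 := by
      intro χ hχ
      rw [hurel χ hχ]
      split_ifs with h
      · subst h; rw [hr0]; ring
      · ring
    rw [Finset.sum_congr rfl this, Finset.sum_add_distrib, ← Finset.mul_sum, Finset.sum_ite_eq',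
      if_pos hχ₀]
    ring
  have hsumv : ∑ η ∈ Y, v η ^ 2 = c ^ 2 * (a'' ^ 2 * (Y.card : ℤ) + 2 * a'') + c ^ 2 := by
    have : ∀ η ∈ Y, v η ^ 2 = a' ^ 2 + if η = η₀ then (2 * a' * c + c ^ 2) else 0 := by
      intro η hη
      rw [hvrel η hη]
      split_ifs <;> ring
    rw [Finset.sum_congr rfl this, Finset.sum_add_distrib, Finset.sum_const, nsmul_eq_mul,
      Finset.sum_ite_eq', if_pos (Finset.mem_coe.1 hη₀), ha'']
    ring
  have hM2 : 2 ≤ M := by
    have h1 : ∀ χ ∈ X, 1 ≤ r χ ^ 2 := fun χ _ =>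
      one_le_pow₀ (one_le_pow₀ (by exact_mod_cast hp.out.pos))
    have h2 : (X.card : ℤ) ≤ M := by simpa using Finset.sum_le_sum h1
    have h3 : 2 ≤ X.card := Finset.one_lt_card.2 ⟨u₁, hu₁, u₂, hu₂, hu₁₂⟩
    omega
  have hY2' : 2 ≤ (Y.card : ℤ) := by
    exact_mod_cast (Finset.one_lt_card.2 ⟨η₀, hη₀, η', hη', hηη'⟩ : 2 ≤ Y.card)
  have hbound : b ^ 2 * M - 2 * b + c ^ 2 * (a'' ^ 2 * (Y.card : ℤ) + 2 * a'') ≤ 0 := by
    have h : ((∑ χ ∈ X, u χ ^ 2 + ∑ η ∈ Y, v η ^ 2 : ℤ) : ℝ) ≤ ((c ^ 2 + 1 : ℤ) : ℝ) := by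
      push_cast; exact hb1
    rw [Int.cast_le, hsumu, hsumv] at h
    linarith
  obtain ⟨hbcase, hacase, heq⟩ := join_arith M (Y.card : ℤ) c b a'' hM2 hY2' hc0 hbound
  have hβeq := hb2 (by
    have h : ((c ^ 2 + 1 : ℤ) : ℝ) ≤ ((∑ χ ∈ X, u χ ^ 2 + ∑ η ∈ Y, v η ^ 2 : ℤ) : ℝ) := by
      rw [Int.cast_le, hsumu, hsumv]; linarith
    push_cast at h; exact h)
  -- the part on `X`
  obtain ⟨σ₁, hσ₁, hσ₁α, hXpart⟩ : ∃ σ₁ : (L → ℂ) → (G → ℂ),
      Cfsg.IsLinearIsometryOn (Cfsg.zspan (↑X : Set (L → ℂ))) σ₁ ∧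
      (∀ θ ∈ Cfsg.zspanOn (↑X : Set (L → ℂ)) {1}ᶜ, σ₁ θ = τ θ) ∧
      ∑ χ ∈ X, ((u χ : ℝ) : ℂ) • σ χ = -σ₁ χ₀ := by
    rcases hbcase with hb0 | ⟨hb1', hM⟩
    · refine ⟨σ, hσ, hσα, ?_⟩
      rw [Finset.sum_eq_single χ₀]
      · rw [hurel χ₀ hχ₀, hb0, if_pos rfl]; simp
      · intro χ hχ hne
        rw [hurel χ hχ, hb0, if_neg hne]; simp
      · exact fun h => absurd hχ₀ h
    · obtain ⟨χ₁, hχ₁, hne₁⟩ := Finset.exists_mem_ne
        (Finset.one_lt_card.2 ⟨u₁, hu₁, u₂, hu₂, hu₁₂⟩) χ₀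
      have hpair : X = {χ₀, χ₁} ∧ r χ₁ = 1 := by
        have h1 : ∀ χ ∈ X, 1 ≤ r χ ^ 2 := fun χ _ =>
          one_le_pow₀ (one_le_pow₀ (by exact_mod_cast hp.out.pos))
        have hsub : ({χ₀, χ₁} : Finset (L → ℂ)) ⊆ X :=
          Finset.insert_subset hχ₀ (Finset.singleton_subset_iff.2 hχ₁)
        have hs := Finset.sum_sdiff (f := fun χ => r χ ^ 2) hsub
        rw [Finset.sum_pair hne₁.symm, hr0] at hs
        change _ = M at hs
        rw [hM] at hs
        have h2 : ((X \ {χ₀, χ₁}).card : ℤ) ≤ ∑ χ ∈ X \ {χ₀, χ₁}, r χ ^ 2 := by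
          simpa using Finset.sum_le_sum fun χ hχ => h1 χ (Finset.mem_sdiff.1 hχ).1
        have h3 := h1 χ₁ hχ₁
        refine ⟨Finset.Subset.antisymm (fun x hx => ?_) hsub, ?_⟩
        · by_contra hxn
          have : 0 < (X \ {χ₀, χ₁}).card :=
            Finset.card_pos.2 ⟨x, Finset.mem_sdiff.2 ⟨hx, hxn⟩⟩
          linarith [show (0 : ℤ) < ((X \ {χ₀, χ₁}).card : ℤ) by exact_mod_cast this]
        · have hnn : (0 : ℤ) ≤ ((X \ {χ₀, χ₁}).card : ℤ) := Int.natCast_nonneg _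
          have hsq : r χ₁ ^ 2 = 1 := by linarith
          have hpos : (0 : ℤ) ≤ r χ₁ := pow_nonneg (Int.natCast_nonneg p) _
          exact (pow_eq_one_iff_of_nonneg hpos two_ne_zero).1 hsq
      obtain ⟨hXeq, hr1⟩ := hpair
      have hXset' : (↑X : Set (L → ℂ)) = {χ₀, χ₁} := by rw [hXeq]; simp
      obtain ⟨σ₁, h1, h2, h3⟩ := swap_two (hXirr χ₀ hχ₀) (hXirr χ₁ hχ₁) hne₁.symm
        (by rw [hXdeg χ₀ hχ₀, hXdeg χ₁ hχ₁, hr0, hr1]) (hXset' ▸ hσ) (hXset' ▸ hσα)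
      refine ⟨σ₁, hXset' ▸ h1, hXset' ▸ h2, ?_⟩
      rw [h3, neg_neg, hXeq, Finset.sum_pair hne₁.symm, hurel χ₀ hχ₀, hurel χ₁ hχ₁, hb1', hr0, hr1,
        if_pos rfl, if_neg hne₁]
      simp
  obtain ⟨τ₁, hτ₁, hτ₁α, hYpart⟩ : ∃ τ₁ : (L → ℂ) → (G → ℂ),
      Cfsg.IsLinearIsometryOn (Cfsg.zspan (↑Y : Set (L → ℂ))) τ₁ ∧
      (∀ θ ∈ Cfsg.zspanOn (↑Y : Set (L → ℂ)) {1}ᶜ, τ₁ θ = τ θ) ∧
      ∑ η ∈ Y, ((v η : ℝ) : ℂ) • τ' η = (c : ℂ) • τ₁ η₀ := by
    rcases hacase with ha0 | ⟨ha1', hYc⟩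
    · refine ⟨τ', hτ', hτ'α, ?_⟩
      rw [Finset.sum_eq_single η₀]
      · rw [hvrel η₀ hη₀, ha'', ha0, if_pos rfl]; simp
      · intro η hη hne
        rw [hvrel η hη, ha'', ha0, if_neg hne]; simp
      · exact fun h => absurd hη₀ h
    · have hYeq : Y = {η₀, η'} := by
        refine (Finset.eq_of_subset_of_card_le
          (Finset.insert_subset hη₀ (Finset.singleton_subset_iff.2 hη')) ?_).symm
        rw [Finset.card_pair hηη']
        exact_mod_cast hYc.le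
      have hYset' : (↑Y : Set (L → ℂ)) = {η₀, η'} := by rw [hYeq]; simp
      obtain ⟨τ₁, h1, h2, h3⟩ := swap_two (hYirr η₀ hη₀) (hYirr η' hη') hηη'
        (by rw [hYdeg η₀ hη₀, hYdeg η' hη']) (hYset' ▸ hτ') (hYset' ▸ hτ'α)
      refine ⟨τ₁, hYset' ▸ h1, hYset' ▸ h2, ?_⟩
      rw [h3, hYeq, Finset.sum_pair hηη', hvrel η₀ hη₀, hvrel η' hη', ha'', ha1', if_pos rfl,
        if_neg hηη'.symm]
      simp
  have hjoin : τ (χ₀ 1 • η₀ - η₀ 1 • χ₀) = χ₀ 1 • τ₁ η₀ - η₀ 1 • σ₁ χ₀ := by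
    have harg : χ₀ 1 • η₀ - η₀ 1 • χ₀ = (e : ℤ) • (c • η₀ - χ₀) := by
      funext x
      simp [hXdeg χ₀ hχ₀, hYdeg η₀ hη₀, hr0]; ring
    rw [harg, hτ.2.1 _ hmβ, ← hβ, hβeq, hXpart, hYpart, hXdeg χ₀ hχ₀, hYdeg η₀ hη₀, hr0]
    funext x
    simp; ring
  have hU := Coh.union_coherent (Cfsg.inducedIrrAbove H ⊥) ↑X ↑Y hirr hXS hYS hXY
    ⟨u₁, hu₁, u₂, hu₂, hu₁₂⟩ ⟨η₀, hη₀, η', hη', hηη'⟩ hτ hτ1 hσ₁ hσ₁α hτ₁ hτ₁α hχ₀ hη₀ hjoin
  rw [← Finset.coe_union] at hU
  have hsubU : (↑(X ∪ Y) : Set (L → ℂ)) ⊆ Cfsg.inducedIrrAbove H ⊥ := by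
    rw [Finset.coe_union]; exact Set.union_subset hXS hYS
  have hfinal := Irr.feit_extend hirr hτ hτ1 (X ∪ Y) hsubU hU (ψ := η₀)
    (Finset.mem_union_right _ hη₀) hfin.toFinset (by simp) (fun χ hχ _ => by
      have hχS : χ ∈ Cfsg.inducedIrrAbove H ⊥ := by simpa using hχ
      have hdη : Cfsg.charDegree η₀ = e := FrobCoh.deg_above_derived H hirr (hYset ▸ hη₀)
      rw [hdη, ha χ hχS]
      refine ⟨Dvd.intro _ rfl, ?_⟩
      refine lt_of_lt_of_le ?_ (Finset.sum_le_sum_of_subset Finset.subset_union_left)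
      rw [hXsum]
      have hZc : 2 * e ≤ Nat.card Z - 1 := by
        have hd := CentralPart.card_sub_one_ge H hCN Z hZH hcent
        have hz : 1 < Nat.card Z := (Subgroup.one_lt_card_iff_ne_bot Z).2 hZ1
        have hzo : Odd (Nat.card Z) := hLodd.of_dvd_nat Z.card_subgroup_dvd_card
        obtain ⟨j, hj⟩ := hd
        rcases j with _ | _ | j
        · omega
        · exfalso
          rw [zero_add, mul_one] at hj
          rw [show Nat.card Z = e + 1 by omega] at hzo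
          exact Nat.not_even_iff_odd.2 hzo (he.add_odd odd_one)
        · rw [hj]
          nlinarith
      have hy1 : 1 < Z.relIndex H := by
        refine lt_of_le_of_ne (Nat.pos_of_ne_zero
          (Subgroup.index_ne_zero_of_finite (H := Z.subgroupOf H))) fun h => ?_
        exact hlt₁.not_ge ((Subgroup.relIndex_eq_one.1 h.symm).trans hZH₁)
      have hpy : p ^ a χ < Z.relIndex H := by
        have h := Nat.le_of_dvd (by omega) (had χ hχS)
        rcases Nat.eq_zero_or_pos (a χ) with h0 | hpos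
        · rw [h0, pow_zero]; exact hy1
        · exact lt_of_lt_of_le (Nat.pow_lt_pow_right hp.out.one_lt (by omega)) h
      calc 2 * e * (e * p ^ a χ) = e * (p ^ a χ * (2 * e)) := by ring
        _ < e * (Z.relIndex H * (2 * e)) :=
          Nat.mul_lt_mul_of_pos_left (Nat.mul_lt_mul_of_pos_right hpy (by have := he.pos; omega))
            he.pos
        _ ≤ _ := Nat.mul_le_mul_left _ (Nat.mul_le_mul_left _ hZc))
  rw [Set.Finite.coe_toFinset, Set.union_eq_right.2 hsubU] at hfinal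
  exact hfinal

end CfsgLib.OddChar.Sibley
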