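import Cfsg.Agent.Lib.OddChar.CentralPart
import Cfsg.Agent.S1521
import Cfsg.Agent.Lib.Char.Clifford

/-!
Coherence of the characters nontrivial on a central subgroup, without a Frobenius hypothesis.
-/

set_option autoImplicit false

namespace CfsgLib.OddChar.CentralGen

variable {N : Type*} [Group N] [Fintype N] {G : Type*} [Group G] [Fintype G]
  (H : Subgroup N) [H.Normal]

theorem exists_central_data' (Z : Subgroup N) [Z.Normal] (hZH : Z ≤ H)
    (hirr : ∀ φ ∈ Cfsg.inducedIrrAbove H ⊥ \ Cfsg.inducedIrrAbove H Z,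
      Cfsg.IsIrrCharacter N φ) :
    ∃ X : Finset (N → ℂ), (∀ χ, χ ∈ X ↔ Cfsg.IsIrrCharacter N χ ∧ ∃ z ∈ Z, χ z ≠ χ 1) ∧
      (↑X : Set (N → ℂ)) = Cfsg.inducedIrrAbove H ⊥ \ Cfsg.inducedIrrAbove H Z ∧
      ∑ χ ∈ X, Cfsg.charDegree χ ^ 2 = H.index * (Z.relIndex H * (Nat.card Z - 1)) := by
  classical
  haveI : Fintype H := Fintype.ofFinite H
  have hfin : (Cfsg.inducedIrrAbove H ⊥).Finite :=
    (Set.finite_range (fun χ : Cfsg.IrrCharacter H => Cfsg.indFun H (χ : H → ℂ))).subset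
      fun φ ⟨θ, hθ, _, _, h⟩ => ⟨⟨θ, hθ⟩, h.symm⟩
  have hsub : Cfsg.inducedIrrAbove H Z ⊆ Cfsg.inducedIrrAbove H ⊥ := Above.above_mono H bot_le
  have hfZ := hfin.subset hsub
  have hmemiff : ∀ χ, χ ∈ Cfsg.inducedIrrAbove H ⊥ \ Cfsg.inducedIrrAbove H Z ↔
      Cfsg.IsIrrCharacter N χ ∧ ∃ z ∈ Z, χ z ≠ χ 1 := by
    intro χ
    constructor
    · intro hmem
      refine ⟨hirr χ hmem, ?_⟩
      obtain ⟨⟨θ, hθ, hθ1, -, rfl⟩, hnot⟩ := hmem
      by_contra hc
      push_neg at hc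
      exact hnot ⟨θ, hθ, hθ1, (Cfsg.Agent.S1487.result Z H hZH θ hθ).2 hc, rfl⟩
    · rintro ⟨hχ, z, hz, hne⟩
      obtain ⟨θ, hθ, hc⟩ := Clifford.exists_constituent_res H hχ
      have hker : ¬ ∀ a : H, (a : N) ∈ Z → θ a = θ 1 := by
        intro hker
        refine hne ?_
        have h := Clifford.res_eq H hχ hθ hc
        have e1 := congrFun h ⟨z, hZH hz⟩
        have e2 := congrFun h 1
        simp only [OneMemClass.coe_one, Pi.smul_apply, Finset.sum_apply] at e1 e2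
        rw [e1, e2]
        congr 1
        refine Finset.sum_congr rfl fun ψ hψ => ?_
        obtain ⟨g, rfl⟩ := (Clifford.mem_orbit H).1 hψ
        show θ _ = θ _
        rw [hker _ (Subgroup.Normal.conj_mem inferInstance z hz g)]
        exact congrArg θ (Subtype.ext (by simp))
      have hθ1 : θ ≠ fun _ => 1 := fun e => hker fun a _ => by rw [e]
      have hmem : Cfsg.indFun H θ ∈ Cfsg.inducedIrrAbove H ⊥ \ Cfsg.inducedIrrAbove H Z := by
        refine ⟨⟨θ, hθ, hθ1, fun a ha => by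
          rw [show a = 1 from Subtype.ext (Subgroup.mem_bot.1 ha)], rfl⟩, ?_⟩
        rintro ⟨η, hη, -, hηZ, he⟩
        exact hker ((Cfsg.Agent.S1487.result Z H hZH θ hθ).2 fun a ha => by
          rw [he]; exact (Cfsg.Agent.S1487.result Z H hZH η hη).1 hηZ a ha)
      have hi := hirr _ hmem
      suffices Cfsg.indFun H θ = χ by rwa [← this]
      by_contra hne'
      have h := Char.classInner_indFun H θ χ (Char.IsIrrCharacter.isClassFunction hχ)
      rw [Char.classInner_irr_of_ne hi hχ hne'] at h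
      refine hc ?_
      rw [← Char.classInner_conj_symm, ← h, map_zero]
  refine ⟨hfin.toFinset \ hfZ.toFinset, fun χ => ?_, by simp, ?_⟩
  · rw [← hmemiff]; simp
  · let d : (N → ℂ) → ℕ := fun φ => ⌊(φ 1).re⌋₊
    let n : (N → ℂ) → ℕ := fun φ => ⌊(Cfsg.classInner φ φ).re⌋₊
    have hchar : ∀ φ ∈ Cfsg.inducedIrrAbove H ⊥, Cfsg.IsCharacter N φ := by
      rintro φ ⟨θ, hθ, -, -, rfl⟩
      exact Char.IsCharacter.indFun H (Char.IsIrrCharacter.isCharacter hθ)
    have hd : ∀ φ ∈ Cfsg.inducedIrrAbove H ⊥, φ 1 = (d φ : ℂ) := fun φ hφ => by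
      obtain ⟨m, hm⟩ := Char.IsCharacter.exists_degree (hchar φ hφ)
      simp [d, hm]
    have hn : ∀ φ ∈ Cfsg.inducedIrrAbove H ⊥, Cfsg.classInner φ φ = (n φ : ℂ) := fun φ hφ => by
      obtain ⟨m, hm⟩ := Char.IsCharacter.exists_nat_classInner' (hchar φ hφ) (hchar φ hφ)
      simp [n, hm]
    have e1 := Above.sum_sq_div_norm H ⊥ d n hfin.toFinset (by simp)
      (fun φ hφ => hd φ (by simpa using hφ)) (fun φ hφ => hn φ (by simpa using hφ))
    have e2 := Above.sum_sq_div_norm H Z d n hfZ.toFinset (by simp)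
      (fun φ hφ => hd φ (hsub (by simpa using hφ))) (fun φ hφ => hn φ (hsub (by simpa using hφ)))
    rw [← Finset.sum_sdiff (show hfZ.toFinset ⊆ hfin.toFinset by simpa using hsub), e2] at e1
    have e3 : ∀ φ ∈ hfin.toFinset \ hfZ.toFinset,
        ((d φ : ℝ) ^ 2 / (n φ : ℝ)) = ((Cfsg.charDegree φ ^ 2 : ℕ) : ℝ) := by
      intro φ hφ
      have hi := hirr φ (by simpa using hφ)
      have h1 : n φ = 1 := by
        have h := hn φ (by simp at hφ; exact hφ.1)
        rw [Char.classInner_irr_self hi] at h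
        exact_mod_cast h.symm
      rw [h1, Nat.cast_one, div_one, Nat.cast_pow]
      rfl
    rw [Finset.sum_congr rfl e3, ← Nat.cast_sum, Subgroup.relIndex_bot_left,
      ← CentralPart.relIndex_mul_card hZH] at e1
    have e4 : ((∑ φ ∈ hfin.toFinset \ hfZ.toFinset, Cfsg.charDegree φ ^ 2 : ℕ) : ℝ) =
        ((H.index * (Z.relIndex H * (Nat.card Z - 1)) : ℕ) : ℝ) := by
      rw [Nat.cast_mul, Nat.cast_mul, Nat.cast_sub (Nat.card_pos (α := Z))]
      push_cast at e1 ⊢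
      linear_combination e1
    exact_mod_cast e4

theorem exists_degree_pow' {p : ℕ} (hp : p.Prime) (hpH : ∃ m, Nat.card H = p ^ m)
    (Z : Subgroup N) [Z.Normal] (hZH : Z ≤ H) (hcent : ∀ x ∈ Z, ∀ y ∈ H, x * y = y * x)
    {χ : N → ℂ} (hχ : χ ∈ Cfsg.inducedIrrAbove H ⊥) (hirr : Cfsg.IsIrrCharacter N χ) :
    ∃ a : ℕ, Cfsg.charDegree χ = H.index * p ^ a ∧ p ^ (2 * a) ∣ Z.relIndex H := by
  classical
  haveI : Fintype H := Fintype.ofFinite H
  obtain ⟨θ, hθ, hθ1, -, rfl⟩ := hχ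
  obtain ⟨m, hm⟩ := hpH
  have hd : Cfsg.charDegree θ ∣ Nat.card H :=
    CharTools.degree_dvd_card (⟨θ, hθ⟩ : Cfsg.IrrCharacter H)
  rw [hm] at hd
  obtain ⟨a, -, ha⟩ := (Nat.dvd_prime_pow hp).1 hd
  have hy : Z.relIndex H ∣ p ^ m := by
    rw [← hm]; exact Dvd.intro _ (CentralPart.relIndex_mul_card hZH)
  obtain ⟨b, -, hb⟩ := (Nat.dvd_prime_pow hp).1 hy
  have hle := CentralPart.sq_le_relIndex H Z hZH hcent hθ
  refine ⟨a, by rw [Irr.deg_indFun H hθ hirr, ha], ?_⟩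
  rw [ha, ← pow_mul, hb, mul_comm] at hle
  rw [hb]
  exact pow_dvd_pow p ((Nat.pow_le_pow_iff_right hp.one_lt).1 hle)

/-- The characters nontrivial on `Z` are coherent. -/
theorem central_part_coherent' {p : ℕ} (hp : p.Prime) (hp2 : p ≠ 2)
    (hpH : ∃ m, Nat.card H = p ^ m) (hodd : Odd H.index) (hcope : Nat.Coprime p H.index)
    (Z : Subgroup N) [Z.Normal] (hZ1 : Z ≠ ⊥) (hZH : Z ≤ H)
    (hcent : ∀ x ∈ Z, ∀ y ∈ H, x * y = y * x) {τ : (N → ℂ) → (G → ℂ)}
    (hirr : ∀ φ ∈ Cfsg.inducedIrrAbove H ⊥ \ Cfsg.inducedIrrAbove H Z, Cfsg.IsIrrCharacter N φ)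
    (hτ : Cfsg.IsLinearIsometryOn
      (Cfsg.zspanOn (Cfsg.inducedIrrAbove H ⊥ \ Cfsg.inducedIrrAbove H Z) {1}ᶜ) τ)
    (hτ1 : ∀ α ∈ Cfsg.zspanOn (Cfsg.inducedIrrAbove H ⊥ \ Cfsg.inducedIrrAbove H Z) {1}ᶜ,
      τ α 1 = 0) :
    (Cfsg.inducedIrrAbove H ⊥ \ Cfsg.inducedIrrAbove H Z) =
        {χ : N → ℂ | Cfsg.IsIrrCharacter N χ ∧ ∃ z ∈ Z, χ z ≠ χ 1} ∧
      Cfsg.IsCoherent (Cfsg.inducedIrrAbove H ⊥ \ Cfsg.inducedIrrAbove H Z) {1}ᶜ τ := by
  classical
  obtain ⟨X, hX, hXset, hXsum⟩ := exists_central_data' H Z hZH hirr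
  refine ⟨by rw [← hXset]; exact Set.ext fun χ => by simp [hX χ], ?_⟩
  rw [← hXset] at hirr hτ hτ1 ⊢
  have hXS : (↑X : Set (N → ℂ)) ⊆ ↑X := subset_rfl
  have hadata : ∀ χ ∈ X, ∃ a : ℕ, Cfsg.charDegree χ = H.index * p ^ a ∧
      p ^ (2 * a) ∣ Z.relIndex H := fun χ hχ =>
    exists_degree_pow' H hp hpH Z hZH hcent
      (by have := Finset.mem_coe.2 hχ; rw [hXset] at this; exact this.1) (hirr χ hχ)
  choose! a ha had using hadata
  set e := H.index with hedef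
  have he0 : 0 < e := hodd.pos
  have hp0 := hp.pos
  have hpodd : Odd p := hp.odd_of_ne_two hp2
  obtain ⟨m, hm⟩ := hpH
  have hcop : ∀ k, Nat.Coprime (p ^ k) e := by
    intro k
    rcases Nat.eq_zero_or_pos m with h0 | hm0
    · exfalso
      rw [h0, pow_zero] at hm
      exact hZ1 (le_bot_iff.1 (hZH.trans (Subgroup.card_eq_one.1 hm).le))
    · exact Nat.Coprime.pow_left k hcope
  set M := Z.relIndex H * (Nat.card Z - 1) with hM
  have hZeven : 2 ∣ Nat.card Z - 1 := by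
    have h := Subgroup.card_dvd_of_le hZH
    rw [hm] at h
    obtain ⟨k, -, hk⟩ := (Nat.dvd_prime_pow hp).1 h
    rw [hk]
    obtain ⟨t, ht⟩ := hpodd.pow (n := k)
    exact ⟨t, by omega⟩
  have hMpos : 0 < M := by
    have h1 : 1 < Nat.card Z := (Subgroup.one_lt_card_iff_ne_bot Z).2 hZ1
    exact Nat.mul_pos (Nat.pos_of_ne_zero (Subgroup.index_ne_zero_of_finite (H := Z.subgroupOf H)))
      (by omega)
  have hdvdM : ∀ χ ∈ X, p ^ (2 * a χ) ∣ M := fun χ hχ => (had χ hχ).trans (Dvd.intro _ rfl)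
  have hsplit : ∀ S : Finset (N → ℂ), S ⊆ X →
      ∑ χ ∈ S, Cfsg.charDegree χ ^ 2 = e ^ 2 * ∑ χ ∈ S, p ^ (2 * a χ) := by
    intro S hS
    rw [Finset.mul_sum]
    refine Finset.sum_congr rfl fun χ hχ => ?_
    rw [ha χ (hS hχ), mul_pow, ← pow_mul, mul_comm (a χ)]
  have heM : e * ∑ χ ∈ X, p ^ (2 * a χ) = M := by
    refine Nat.eq_of_mul_eq_mul_left he0 ?_
    rw [← mul_assoc, ← pow_two, ← hsplit X subset_rfl, hXsum]
  have hXne : X.Nonempty := by
    rcases X.eq_empty_or_nonempty with h | h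
    · rw [h, Finset.sum_empty, mul_zero] at heM; omega
    · exact h
  obtain ⟨χ₀, hχ₀, hmin⟩ := X.exists_min_image a hXne
  set a₀ := a χ₀
  let lvl : ℕ → Finset (N → ℂ) := fun k => X.filter fun χ => a χ ≤ k
  have hlvlX : ∀ k, lvl k ⊆ X := fun k => Finset.filter_subset _ _
  have hbase2 : 2 ≤ (lvl a₀).card := by
    have hpos : 0 < (lvl a₀).card := Finset.card_pos.2 ⟨χ₀, Finset.mem_filter.2 ⟨hχ₀, le_rfl⟩⟩
    by_contra hlt
    have h1 : (lvl a₀).card = 1 := by omega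
    have hconst : ∀ χ ∈ lvl a₀, p ^ (2 * a χ) = p ^ (2 * a₀) := fun χ hχ => by
      obtain ⟨hχX, hle⟩ := Finset.mem_filter.1 hχ
      rw [le_antisymm hle (hmin χ hχX)]
    rw [← Finset.sum_sdiff (hlvlX a₀), Finset.sum_congr rfl hconst, Finset.sum_const, h1,
      one_smul] at heM
    rcases (X \ lvl a₀).eq_empty_or_nonempty with h | ⟨χ, hχ⟩
    · rw [h, Finset.sum_empty, zero_add] at heM
      have h2 : Odd (e * p ^ (2 * a₀)) := hodd.mul hpodd.pow
      rw [heM] at h2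
      exact Nat.not_even_iff_odd.2 h2 (even_iff_two_dvd.2 (hZeven.trans (Dvd.intro_left _ rfl)))
    · have hbig : ∀ ψ ∈ X \ lvl a₀, p ^ (2 * a₀ + 2) ∣ p ^ (2 * a ψ) := fun ψ hψ => by
        simp only [lvl, Finset.mem_sdiff, Finset.mem_filter, not_and, not_le] at hψ
        have := hψ.2 hψ.1
        exact pow_dvd_pow p (by omega)
      have hM' : p ^ (2 * a₀ + 2) ∣ M :=
        (hbig χ hχ).trans (hdvdM χ (Finset.mem_sdiff.1 hχ).1)
      rw [← heM, mul_add] at hM'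
      have h2 := (Nat.dvd_add_right ((Finset.dvd_sum hbig).mul_left e)).1 hM'
      have h3 := ((hcop _).dvd_of_dvd_mul_left h2)
      have := (Nat.pow_dvd_pow_iff_le_right hp.one_lt).1 h3
      omega
  have hlvlT : ∀ k, (↑(lvl k) : Set (N → ℂ)) ⊆ ↑X := fun k x hx =>
    hXS (hlvlX k hx)
  have hstep : ∀ k, Cfsg.IsCoherent (↑(lvl (a₀ + k)) : Set (N → ℂ)) {1}ᶜ τ := by
    intro k
    induction k with
    | zero =>
      refine Irr.coherent_constant _ (fun φ hφ => hirr φ (hlvlT _ hφ)) (fun φ hφ ψ hψ => ?_)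
        hbase2 τ (Irr.isometry_mono hτ (hlvlT _))
        fun α hα => hτ1 α (Coh.zspanOn_mono (hlvlT _) hα)
      simp only [lvl, add_zero, Finset.mem_filter] at hφ hψ
      rw [Irr.exists_deg hirr φ (hXS hφ.1), Irr.exists_deg hirr ψ (hXS hψ.1), ha φ hφ.1,
        ha ψ hψ.1, le_antisymm hφ.2 (hmin φ hφ.1), le_antisymm hψ.2 (hmin ψ hψ.1)]
    | succ k ih =>
      set j := a₀ + k
      have hsub : lvl j ⊆ lvl (j + 1) := fun x hx => by
        simp only [lvl, Finset.mem_filter] at hx ⊢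
        exact ⟨hx.1, by omega⟩
      have h := Irr.feit_extend hirr hτ hτ1 (lvl j) (hlvlT j) ih (ψ := χ₀)
        (Finset.mem_filter.2 ⟨hχ₀, Nat.le_add_right _ _⟩) (lvl (j + 1)) (hlvlT _) (fun χ hχ hn => by
          simp only [lvl, Finset.mem_filter] at hχ hn
          have haχ : a χ = j + 1 := by
            have : ¬ a χ ≤ j := fun h => hn ⟨hχ.1, h⟩
            omega
          rw [ha χ₀ hχ₀, ha χ hχ.1]
          refine ⟨Nat.mul_dvd_mul_left _ (pow_dvd_pow p (by omega)), ?_⟩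
          have hdvd : p ^ (2 * (j + 1)) ∣ ∑ ξ ∈ lvl j, p ^ (2 * a ξ) := by
            have hM' : p ^ (2 * (j + 1)) ∣ M := haχ ▸ hdvdM χ hχ.1
            rw [← heM, ← Finset.sum_sdiff (hlvlX j), Nat.left_distrib e] at hM'
            have hbig : ∀ ψ ∈ X \ lvl j, p ^ (2 * (j + 1)) ∣ p ^ (2 * a ψ) := fun ψ hψ => by
              simp only [lvl, Finset.mem_sdiff, Finset.mem_filter, not_and, not_le] at hψ
              have := hψ.2 hψ.1
              exact pow_dvd_pow p (by omega)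
            exact (hcop _).dvd_of_dvd_mul_left
              ((Nat.dvd_add_right ((Finset.dvd_sum hbig).mul_left e)).1 hM')
          have hpos : 0 < ∑ ξ ∈ lvl j, p ^ (2 * a ξ) :=
            lt_of_lt_of_le (Nat.pow_pos hp0) (Finset.single_le_sum
              (f := fun ξ => p ^ (2 * a ξ)) (fun _ _ => Nat.zero_le _)
              (Finset.mem_filter.2 ⟨hχ₀, Nat.le_add_right _ _⟩))
          have hge := Nat.le_of_dvd hpos hdvd
          rw [hsplit (lvl j) (hlvlX j), haχ]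
          have h3 : 2 * p ^ (a₀ + (j + 1)) < p ^ (2 * (j + 1)) := by
            calc 2 * p ^ (a₀ + (j + 1)) < p * p ^ (a₀ + (j + 1)) :=
                  Nat.mul_lt_mul_of_pos_right (lt_of_le_of_ne hp.two_le (Ne.symm hp2))
                    (Nat.pow_pos hp0)
              _ = p ^ (a₀ + (j + 1) + 1) := by rw [← pow_succ']
              _ ≤ _ := Nat.pow_le_pow_right hp0 (by omega)
          calc 2 * (e * p ^ a₀) * (e * p ^ (j + 1)) = e ^ 2 * (2 * p ^ (a₀ + (j + 1))) := by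
                rw [pow_add]; ring
            _ < e ^ 2 * ∑ ξ ∈ lvl j, p ^ (2 * a ξ) :=
                Nat.mul_lt_mul_of_pos_left (h3.trans_le hge) (pow_pos he0 2))
      rw [show (↑(lvl j) ∪ ↑(lvl (j + 1)) : Set (N → ℂ)) = ↑(lvl (j + 1)) from
        Set.union_eq_right.2 (Finset.coe_subset.2 hsub)] at h
      exact h
  have hall : lvl (a₀ + X.sup a) = X := Finset.filter_true_of_mem fun χ hχ =>
    le_trans (Finset.le_sup hχ) (Nat.le_add_left _ _)
  simpa [hall] using hstep (X.sup a)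

end CfsgLib.OddChar.CentralGen
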