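import Cfsg.Agent.Lib.OddChar.CyclicExist
import Cfsg.Agent.Lib.OddChar.CyclicUnique
import Cfsg.Agent.Lib.OddChar.AbelInertia
import Cfsg.Agent.S1510

/-!
The cyclic TI family of a group with a cyclic Hall complement.
-/

set_option autoImplicit false

open ComplexConjugate

namespace CfsgLib.OddChar.CyclicHall

theorem signed_deg {L : Type*} [Group L] [Fintype L] {α β : L → ℂ} {a b : L → ℂ} {s t : ℂ}
    (ha : Cfsg.IsIrrCharacter L a) (hb : Cfsg.IsIrrCharacter L b) (hs : s = 1 ∨ s = -1)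
    (ht : t = 1 ∨ t = -1) (hα : α = s • a) (hβ : β = t • b) (h : α 1 = β 1) : s = t := by
  subst hα; subst hβ
  obtain ⟨m, hm⟩ := Char.IsCharacter.exists_degree (Char.IsIrrCharacter.isCharacter ha)
  obtain ⟨n, hn⟩ := Char.IsCharacter.exists_degree (Char.IsIrrCharacter.isCharacter hb)
  have hm0 : m ≠ 0 := fun e => Char.IsIrrCharacter.apply_one_ne_zero ha (by simp [hm, e])
  simp only [Pi.smul_apply, smul_eq_mul, hm, hn] at h
  rcases hs with rfl | rfl <;> rcases ht with rfl | rfl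
  · rfl
  · exfalso
    have : ((m + n : ℕ) : ℂ) = 0 := by push_cast; linear_combination h
    rw [Nat.cast_eq_zero] at this
    omega
  · exfalso
    have : ((m + n : ℕ) : ℂ) = 0 := by push_cast; linear_combination -h
    rw [Nat.cast_eq_zero] at this
    omega
  · rfl

theorem exists_mu {L : Type*} [Group L] [Fintype L] (K W₁ W₂ : Subgroup L) [hK : K.Normal]
    (hKW₁ : K ⊓ W₁ = ⊥) (hKW₁' : K ⊔ W₁ = ⊤) (hW₁ : W₁ ≠ ⊥) (hW₁c : IsCyclic W₁)
    (hHall : Nat.Coprime (Nat.card W₁) W₁.index) (hW₂ : W₂ ≠ ⊥) (hW₂c : IsCyclic W₂)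
    (hW₂K : W₂ ≤ K) (hC : ∀ x ∈ W₁, x ≠ 1 → K ⊓ Subgroup.centralizer ({x} : Set L) = W₂)
    (hodd : Odd (Nat.card ↥(W₁ ⊔ W₂))) :
    ∃ (μ : (↥(W₁ ⊔ W₂) →* ℂˣ) → (L → ℂ)) (δ : (↥(W₁ ⊔ W₂) →* ℂˣ) → ℂ), Function.Injective μ ∧
      (∀ ω, Cfsg.IsIrrCharacter L (μ ω)) ∧ (∀ ω, δ ω = 1 ∨ δ ω = -1) ∧
      (∀ ω ω' : ↥(W₁ ⊔ W₂) →* ℂˣ, (∀ w : ↥(W₁ ⊔ W₂), (w : L) ∈ W₂ → ω w = ω' w) → δ ω = δ ω' ∧
        Cfsg.indFun (W₁ ⊔ W₂) (fun w => (ω w : ℂ) - (ω' w : ℂ)) = δ ω • (μ ω - μ ω')) ∧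
      (∀ ω, ∀ w : ↥(W₁ ⊔ W₂), (w : L) ∉ W₂ → μ ω w = δ ω * (ω w : ℂ)) ∧
      (∀ θ : L → ℂ, Cfsg.IsIrrCharacter L θ → (∀ ω, θ ≠ μ ω) → ∀ w : ↥(W₁ ⊔ W₂),
        (w : L) ∉ W₂ → θ w = 0) ∧
      (∀ ω, ∃ n : ℤ, μ ω 1 - δ ω = n * (Nat.card W₁ : ℂ)) := by
  classical
  have hW := Cfsg.Agent.S1510.result K W₁ W₂ hKW₁ hKW₁' hW₁ hW₁c hHall hW₂ hW₂c hW₂K hC hodd
  obtain ⟨χ, hχ⟩ := CyclicExist.exists_family hW hodd
  obtain ⟨-, -, hdisj, hcomm, hcyc, -⟩ := id hW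
  haveI := hcyc
  haveI : Fintype ↥(W₁ ⊔ W₂) := Fintype.ofFinite _
  letI : CommGroup ↥(W₁ ⊔ W₂) := IsCyclic.commGroup
  haveI := finite_linearChar ↥(W₁ ⊔ W₂)
  letI : Fintype (↥(W₁ ⊔ W₂) →* ℂˣ) := Fintype.ofFinite _
  have hWc : ∀ a ∈ W₁ ⊔ W₂, ∀ b ∈ W₁ ⊔ W₂, a * b = b * a := fun a ha b hb =>
    congrArg Subtype.val (mul_comm (⟨a, ha⟩ : ↥(W₁ ⊔ W₂)) ⟨b, hb⟩)
  have hmul : ∀ g : L, ∃ k ∈ K, ∃ w ∈ W₁, k * w = g := by
    intro g
    have hg : g ∈ K ⊔ W₁ := hKW₁' ▸ Subgroup.mem_top g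
    rw [← SetLike.mem_coe, Subgroup.normal_mul] at hg
    obtain ⟨k, hk, w, hw, e⟩ := hg
    exact ⟨k, hk, w, hw, e⟩
  -- the power map onto `W₁`
  have hcardW : Nat.card ↥(W₁ ⊔ W₂) = Nat.card W₁ * Nat.card W₂ := by
    obtain ⟨p₁, p₂, hp, hp1, hp2⟩ := exists_proj hdisj hcomm
    rw [← Nat.card_prod]
    refine Nat.card_congr ⟨fun w => (p₁ w, p₂ w),
      fun x => ⟨(x.1 : L) * x.2, mul_mem (Subgroup.mem_sup_left x.1.2)
        (Subgroup.mem_sup_right x.2.2)⟩, fun w => Subtype.ext (hp w), fun x => ?_⟩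
    obtain ⟨a1, a2⟩ := hp1 ⟨x.1, Subgroup.mem_sup_left x.1.2⟩ x.1.2
    obtain ⟨b1, b2⟩ := hp2 ⟨x.2, Subgroup.mem_sup_right x.2.2⟩ x.2.2
    show (p₁ ⟨(x.1 : L) * x.2, _⟩, p₂ ⟨(x.1 : L) * x.2, _⟩) = x
    rw [show (⟨(x.1 : L) * x.2, mul_mem (Subgroup.mem_sup_left x.1.2)
      (Subgroup.mem_sup_right x.2.2)⟩ : ↥(W₁ ⊔ W₂)) =
      (⟨x.1, Subgroup.mem_sup_left x.1.2⟩ : ↥(W₁ ⊔ W₂)) *
        ⟨x.2, Subgroup.mem_sup_right x.2.2⟩ from rfl]
    simp only [map_mul, a1, a2, b1, b2, mul_one, one_mul, Subtype.coe_eta]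
  have hcent : ∀ w : ↥(W₁ ⊔ W₂), (w : L) ∉ W₂ →
      Subgroup.centralizer ({(w : L)} : Set L) = W₁ ⊔ W₂ := by
    intro w hw
    refine le_antisymm (fun c hc => ?_) fun c hc => Subgroup.mem_centralizer_singleton_iff.2
      (hWc c hc w w.2)
    set y := (w : L) ^ Nat.card W₂ with hy
    have hyW : y ∈ W₁ ⊔ W₂ := pow_mem w.2 _
    have hy1 : y ∈ W₁ := mem_of_pow_card_eq_one_of_cyclic le_sup_left hcyc hyW (by
      rw [hy, ← pow_mul, mul_comm, ← hcardW, ← orderOf_dvd_iff_pow_eq_one]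
      exact Subgroup.orderOf_dvd_natCard _ w.2)
    have hy2 : y ≠ 1 := fun e => hw (mem_of_pow_card_eq_one_of_cyclic le_sup_right hcyc w.2 e)
    have hcy : c * y = y * c :=
      (Commute.pow_right (Subgroup.mem_centralizer_singleton_iff.1 hc : Commute c (w : L)) _).eq
    obtain ⟨k, hk, u, hu, rfl⟩ := hmul c
    have hk2 : k ∈ W₂ := by
      rw [← hC y hy1 hy2]
      refine ⟨hk, Subgroup.mem_centralizer_singleton_iff.2 ?_⟩
      have hu' : u * y = y * u := hWc u (Subgroup.mem_sup_left hu) y hyW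
      calc k * y = k * (u * y) * u⁻¹ := by rw [hu']; group
        _ = k * u * y * u⁻¹ := by group
        _ = y * (k * u) * u⁻¹ := by rw [hcy]
        _ = y * k := by group
    exact mul_mem (Subgroup.mem_sup_right hk2) (Subgroup.mem_sup_left hu)
  -- linear characters of `W` trivial on `W₂` extend to `L`
  have hext : ∀ φ : ↥(W₁ ⊔ W₂) →* ℂˣ, (∀ w : ↥(W₁ ⊔ W₂), (w : L) ∈ W₂ → φ w = 1) →
      ∃ l : L →* ℂˣ, ∀ w : ↥(W₁ ⊔ W₂), l w = φ w := by
    intro φ hφ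
    let f : W₁ →* L ⧸ K := (QuotientGroup.mk' K).comp W₁.subtype
    have hf : Function.Bijective f := by
      constructor
      · rw [injective_iff_map_eq_one]
        intro a ha
        have : (a : L) ∈ K ⊓ W₁ := ⟨(QuotientGroup.eq_one_iff (a : L)).1 ha, a.2⟩
        rw [hKW₁, Subgroup.mem_bot] at this
        exact Subtype.ext this
      · intro q
        obtain ⟨g, rfl⟩ := QuotientGroup.mk_surjective q
        obtain ⟨k, hk, u, hu, rfl⟩ := hmul g
        refine ⟨⟨u, hu⟩, ?_⟩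
        show QuotientGroup.mk' K u = QuotientGroup.mk' K (k * u)
        rw [map_mul, show QuotientGroup.mk' K k = 1 from (QuotientGroup.eq_one_iff k).2 hk, one_mul]
    let e := MulEquiv.ofBijective f hf
    let l : L →* ℂˣ := ((φ.comp (Subgroup.inclusion le_sup_left)).comp e.symm.toMonoidHom).comp
      (QuotientGroup.mk' K)
    refine ⟨l, fun w => DFunLike.congr_fun (sup_hom_ext (f := l.comp (W₁ ⊔ W₂).subtype) (g := φ)
      (fun v hv => ?_) fun v hv => ?_) w⟩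
    · show φ (Subgroup.inclusion le_sup_left (e.symm (QuotientGroup.mk' K (v : L)))) = φ v
      rw [show e.symm (QuotientGroup.mk' K (v : L)) = ⟨v, hv⟩ from e.symm_apply_eq.2 rfl]
      rfl
    · show φ (Subgroup.inclusion le_sup_left (e.symm (QuotientGroup.mk' K (v : L)))) = φ v
      rw [show QuotientGroup.mk' K (v : L) = 1 from (QuotientGroup.eq_one_iff _).2 (hW₂K hv),
        map_one, hφ v hv, map_one, map_one]
  have hlin : ∀ φ, ∀ l : L →* ℂˣ, (∀ w : ↥(W₁ ⊔ W₂), l w = φ w) → ∀ ψ,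
      χ (φ * ψ) = fun g => (l g : ℂ) * χ ψ g := by
    intro φ l hl ψ
    refine (CyclicUnique.eq_of_eq_on hW hodd hχ ?_ (φ * ψ) fun w h1 h2 => ?_).symm
    · rcases hχ.irr_or_neg ψ with h | h
      · exact Or.inl (Char.IsIrrCharacter.linear_mul h l)
      · refine Or.inr ?_
        have := Char.IsIrrCharacter.linear_mul h l
        convert this using 1
        funext g; simp
    · show (l w : ℂ) * χ ψ w = _
      rw [hχ.eq_on ψ w h1 h2, hl]
      simp
  -- `χ ω = ω` off `W₂`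
  have hval : ∀ ω, ∀ w : ↥(W₁ ⊔ W₂), (w : L) ∉ W₂ → χ ω w = (ω w : ℂ) := by
    intro ω w hw
    by_cases hw1 : (w : L) ∈ W₁
    swap
    · exact hχ.eq_on ω w hw1 hw
    obtain ⟨i, j, hi, hj, hij⟩ := exists_dual hdisj hcomm
    obtain ⟨⟨f, g⟩, rfl⟩ := hij.2 ω
    obtain ⟨l, hl⟩ := hext (i f) (hi f)
    show χ (i f * j g) w = ((i f * j g) w : ℂ)
    rw [hlin _ l hl]
    simp only [MonoidHom.mul_apply, hl, hj g w hw1, mul_one]
    suffices χ (j g) w = 1 by rw [this, mul_one]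
    by_cases hg : j g = 1
    · rw [hg, hχ.map_one]
    obtain ⟨φ₀, hφ₀⟩ := CommGroup.exists_apply_ne_one_of_hasEnoughRootsOfUnity
      (↥(W₁ ⊔ W₂) ⧸ W₂.subgroupOf (W₁ ⊔ W₂)) ℂ
      (a := QuotientGroup.mk' (W₂.subgroupOf (W₁ ⊔ W₂)) w)
      (fun h => hw ((QuotientGroup.eq_one_iff w).1 h))
    set φ := φ₀.comp (QuotientGroup.mk' (W₂.subgroupOf (W₁ ⊔ W₂))) with hφdef
    have hφ2 : ∀ v : ↥(W₁ ⊔ W₂), (v : L) ∈ W₂ → φ v = 1 := fun v hv => by
      rw [hφdef, MonoidHom.comp_apply,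
        show QuotientGroup.mk' (W₂.subgroupOf (W₁ ⊔ W₂)) v = 1 from
          (QuotientGroup.eq_one_iff v).2 hv, map_one]
    have hφw : φ w ≠ 1 := hφ₀
    have hφ1 : φ ≠ 1 := fun e => hφw (by rw [e]; rfl)
    obtain ⟨l', hl'⟩ := hext φ hφ2
    have hφ : χ φ = fun x => (l' x : ℂ) := by
      have := hlin φ l' hl' 1
      rw [show φ * 1 = φ from MonoidHom.ext fun v => by simp] at this
      rw [this, hχ.map_one]
      simp
    have h := congrFun (hχ.induced_eq φ (j g) hφ1 hg hφ2 (hj g)) (w : L)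
    have h0 : Cfsg.indFun (W₁ ⊔ W₂) (tiAlpha φ (j g)) (w : L) = 0 := by
      rw [Char.indFun_apply]
      refine mul_eq_zero_of_right _ (Finset.sum_eq_zero fun x _ => ?_)
      by_cases hx : x⁻¹ * (w : L) * x ∈ W₁ ⊔ W₂
      · rw [Char.extendByZero_apply_mem _ _ hx]
        refine tiAlpha_eq_zero hφ2 (hj g) (Or.inl ?_)
        refine mem_of_pow_card_eq_one_of_cyclic le_sup_left hcyc hx ?_
        rw [← orderOf_dvd_iff_pow_eq_one]
        show orderOf (x⁻¹ * (w : L) * x) ∣ _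
        have : x⁻¹ * (w : L) * x = MulAut.conj x⁻¹ (w : L) := by simp
        rw [this, MulEquiv.orderOf_eq]
        exact Subgroup.orderOf_dvd_natCard W₁ hw1
      · simp [Cfsg.extendByZero, hx]
    change Cfsg.indFun (W₁ ⊔ W₂) (tiAlpha φ (j g)) (w : L) = _ at h
    rw [h0, hφ, hlin φ l' hl' (j g)] at h
    simp only [hl'] at h
    have h' : (1 - (φ w : ℂ)) * (1 - χ (j g) w) = 0 := by linear_combination -h
    have := (mul_eq_zero.1 h').resolve_left (fun e => hφw (Units.ext (sub_eq_zero.1 e).symm))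
    exact (sub_eq_zero.1 this).symm
  choose μ δ hμirr hδ hμ using fun ω => CyclicUnique.Signed.exists (hχ.irr_or_neg ω)
  have hδ2 : ∀ ω, δ ω * δ ω = 1 := fun ω => by rcases hδ ω with h | h <;> rw [h] <;> norm_num
  have hμχ : ∀ ω, μ ω = δ ω • χ ω := fun ω => by rw [hμ ω, smul_smul, hδ2, one_smul]
  have hμinj : Function.Injective μ := by
    intro a b e
    by_contra hne
    have h := hχ.orthonormal a b
    rw [if_neg hne, hμ a, hμ b, e, Char.classInner_smul_left, Char.classInner_smul_right,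
      Char.classInner_irr_self (hμirr b)] at h
    rcases hδ a with h1 | h1 <;> rcases hδ b with h2 | h2 <;> simp [h1, h2] at h
  -- the other irreducible characters vanish off `W₂`
  have hvan : ∀ θ : L → ℂ, Cfsg.IsIrrCharacter L θ → (∀ ω, θ ≠ μ ω) → ∀ w : ↥(W₁ ⊔ W₂),
      (w : L) ∉ W₂ → θ w = 0 := by
    intro θ hθ hne w hw
    let F : (↥(W₁ ⊔ W₂) →* ℂˣ) → Cfsg.IrrCharacter L := fun ω => ⟨μ ω, hμirr ω⟩
    have hF : Function.Injective F := fun a b e => hμinj (congrArg Subtype.val e)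
    have hall := Char.sum_mul_conj (w : L) (w : L)
    rw [if_pos (IsConj.refl _), hcent w hw] at hall
    have hfam : ∑ χ' ∈ Finset.univ.image F, (χ' : L → ℂ) w * conj ((χ' : L → ℂ) w) =
        (Nat.card ↥(W₁ ⊔ W₂) : ℂ) := by
      rw [Finset.sum_image hF.injOn, ← card_dual (H := ↥(W₁ ⊔ W₂)),
        Nat.card_eq_fintype_card, ← Finset.card_univ, Finset.card_eq_sum_ones, Nat.cast_sum]
      refine Finset.sum_congr rfl fun ω _ => ?_
      show μ ω w * conj (μ ω w) = _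
      rw [hμχ, Pi.smul_apply, smul_eq_mul, hval ω w hw, map_mul, conj_linearChar,
        mul_mul_mul_comm, ← Units.val_mul, ← map_mul, mul_inv_cancel, map_one]
      rcases hδ ω with h | h <;> simp [h]
    rw [← Finset.sum_add_sum_compl (Finset.univ.image F), hfam, add_eq_left] at hall
    have hre : ∑ χ' ∈ (Finset.univ.image F)ᶜ, Complex.normSq ((χ' : L → ℂ) w) = 0 := by
      have : ((∑ χ' ∈ (Finset.univ.image F)ᶜ, Complex.normSq ((χ' : L → ℂ) w) : ℝ) : ℂ) = 0 := by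
        push_cast
        rw [← hall]
        simp [Complex.mul_conj]
      exact_mod_cast this
    have := (Finset.sum_eq_zero_iff_of_nonneg fun χ' _ => Complex.normSq_nonneg _).1 hre ⟨θ, hθ⟩
      (by simp only [Finset.mem_compl, Finset.mem_image, Finset.mem_univ, true_and, F, not_exists]
          exact fun ω e => hne ω (congrArg Subtype.val e).symm)
    exact Complex.normSq_eq_zero.1 this
  have hind : ∀ ω ω' : ↥(W₁ ⊔ W₂) →* ℂˣ,
      (∀ w : ↥(W₁ ⊔ W₂), (w : L) ∈ W₂ → ω w = ω' w) →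
      Cfsg.indFun (W₁ ⊔ W₂) (fun w => (ω w : ℂ) - (ω' w : ℂ)) = χ ω - χ ω' := by
    intro ω ω' hagree
    have hcl : ∀ ξ, Cfsg.IsClassFunction L (χ ξ) := fun ξ =>
      CyclicUnique.Signed.isClassFunction (hχ.irr_or_neg ξ)
    refine sub_eq_zero.1 (Char.eq_zero_of_forall_classInner_eq_zero (fun x y => ?_) fun θ hθ => ?_)
    · simp only [Pi.sub_apply]
      rw [Char.isClassFunction_indFun _ _ x y, hcl ω x y, hcl ω' x y]
    rw [Char.classInner_sub_left,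
      Char.classInner_indFun _ _ _ (Char.IsIrrCharacter.isClassFunction hθ),
      Char.classInner_sub_left]
    have hsupp : ∀ θ' : L → ℂ, ∀ f : ↥(W₁ ⊔ W₂) → ℂ,
        (∀ w : ↥(W₁ ⊔ W₂), (w : L) ∉ W₂ → θ' w = f w) →
        Cfsg.classInner (fun w => (ω w : ℂ) - (ω' w : ℂ)) (fun w : ↥(W₁ ⊔ W₂) => θ' w) =
          Cfsg.classInner (fun w => (ω w : ℂ) - (ω' w : ℂ)) f := by
      intro θ' f hf
      unfold Cfsg.classInner
      congr 1
      refine Finset.sum_congr rfl fun w _ => ?_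
      by_cases hw : (w : L) ∈ W₂
      · simp [hagree w hw]
      · show _ * conj (θ' w) = _
        rw [hf w hw]
    by_cases hex : ∃ ξ, θ = μ ξ
    · obtain ⟨ξ, rfl⟩ := hex
      rw [hsupp _ (fun w => δ ξ * (ξ w : ℂ))
        fun w hw => by rw [hμχ, Pi.smul_apply, smul_eq_mul, hval ξ w hw]]
      rw [hμχ, Char.classInner_smul_right, Char.classInner_smul_right, hχ.orthonormal,
        hχ.orthonormal, show (fun w => δ ξ * (ξ w : ℂ)) = δ ξ • fun w : ↥(W₁ ⊔ W₂) => (ξ w : ℂ)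
          from rfl, Char.classInner_smul_right,
        show (fun w : ↥(W₁ ⊔ W₂) => (ω w : ℂ) - (ω' w : ℂ)) =
          (fun w => (ω w : ℂ)) - fun w => (ω' w : ℂ) from rfl,
        Char.classInner_sub_left, classInner_linearChar, classInner_linearChar]
      ring
    · push Not at hex
      rw [hsupp _ (fun _ => 0) (hvan θ hθ hex)]
      have hz : ∀ ξ, Cfsg.classInner (χ ξ) θ = 0 := fun ξ => by
        rw [hμ ξ, Char.classInner_smul_left,
          Char.classInner_irr_of_ne (hμirr ξ) hθ fun e => hex ξ e.symm, mul_zero]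
      rw [hz, hz, show (fun _ : ↥(W₁ ⊔ W₂) => (0 : ℂ)) = 0 from rfl, Char.classInner_zero_right]
      ring
  refine ⟨μ, δ, hμinj, hμirr, hδ, fun ω ω' hagree => ?_, fun ω w hw => ?_, hvan, fun ω => ?_⟩
  · have h1 := hind ω ω' hagree
    have hdeg : χ ω 1 = χ ω' 1 := by
      have := congrFun h1 1
      rw [Char.indFun_apply_one] at this
      simp only [map_one, Units.val_one, sub_self, mul_zero, Pi.sub_apply] at this
      exact sub_eq_zero.1 this.symm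
    have hd : δ ω = δ ω' :=
      signed_deg (hμirr ω) (hμirr ω') (hδ ω) (hδ ω') (hμ ω) (hμ ω') hdeg
    refine ⟨hd, ?_⟩
    rw [h1, smul_sub, hμ ω, hd, hμ ω']
  · rw [hμχ, Pi.smul_apply, smul_eq_mul, hval ω w hw]
  · haveI : Fintype W₁ := Fintype.ofFinite _
    let l : W₁ →* ℂˣ := ω.comp (Subgroup.inclusion le_sup_left)
    obtain ⟨n, hn⟩ := Char.IsCharacter.exists_nat_classInner'
      (Clifford.isCharacter_res (Char.IsIrrCharacter.isCharacter (hμirr ω)) W₁)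
      (Char.IsIrrCharacter.isCharacter (Char.isIrrCharacter_linear l))
    obtain ⟨m, hm⟩ : ∃ m : ℤ, δ ω = m := by
      rcases hδ ω with h | h
      · exact ⟨1, by simp [h]⟩
      · exact ⟨-1, by simp [h]⟩
    refine ⟨(n : ℤ) - m, ?_⟩
    have hsum : ∑ a : W₁, (μ ω a - δ ω * (l a : ℂ)) * conj (l a : ℂ) = μ ω 1 - δ ω := by
      rw [Finset.sum_eq_single (1 : W₁)]
      · simp
      · intro a _ ha
        have : ((Subgroup.inclusion (le_sup_left : W₁ ≤ W₁ ⊔ W₂) a : ↥(W₁ ⊔ W₂)) : L) ∉ W₂ :=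
          fun h => ha (Subtype.ext (by
            have h' : (a : L) ∈ W₁ ⊓ W₂ := ⟨a.2, h⟩
            rwa [hdisj, Subgroup.mem_bot] at h'))
        have h2 := hval ω _ this
        simp only [Subgroup.coe_inclusion] at h2
        rw [hμχ, Pi.smul_apply, smul_eq_mul, h2]
        simp [l]
      · simp
    have h3 : ∑ a : W₁, μ ω a * conj (l a : ℂ) = (Nat.card W₁ : ℂ) * n := by
      rw [← hn, Cfsg.classInner, ← mul_assoc, mul_inv_cancel₀
        (Nat.cast_ne_zero.2 Nat.card_pos.ne'), one_mul]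
    have h4 : ∑ a : W₁, δ ω * (l a : ℂ) * conj (l a : ℂ) = (Nat.card W₁ : ℂ) * δ ω := by
      simp only [mul_assoc, conj_linearChar, ← Units.val_mul, ← map_mul, mul_inv_cancel, map_one,
        Units.val_one, mul_one, Finset.sum_const, Finset.card_univ, nsmul_eq_mul,
        Nat.card_eq_fintype_card]
    rw [← hsum]
    simp only [sub_mul, Finset.sum_sub_distrib, h3, h4]
    rw [hm]
    push_cast
    ring

end CfsgLib.OddChar.CyclicHall
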