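import Cfsg.Agent.Lib.OddChar.FrobCoherent
import Cfsg.Agent.S1487

/-!
The characters of a Frobenius group with `p`-group kernel that are nontrivial on a central subgroup
`Z` of the kernel form a coherent set.
-/

set_option autoImplicit false

namespace CfsgLib.OddChar.CentralPart

variable {N : Type*} [Group N] [Fintype N] {G : Type*} [Group G] [Fintype G]
  (H : Subgroup N) [H.Normal]

theorem relIndex_mul_card {A B : Subgroup N} (h : A ≤ B) :
    A.relIndex B * Nat.card A = Nat.card B := by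
  have e := (A.subgroupOf B).card_mul_index
  rw [Nat.card_congr (Subgroup.subgroupOfEquivOfLe h).toEquiv, mul_comm] at e
  exact e

theorem sq_le_relIndex (Z : Subgroup N) [Z.Normal] (hZH : Z ≤ H)
    (hcent : ∀ x ∈ Z, ∀ y ∈ H, x * y = y * x) {θ : H → ℂ} (hθ : Cfsg.IsIrrCharacter H θ) :
    Cfsg.charDegree θ ^ 2 ≤ Z.relIndex H := by
  have hb := Cfsg.Agent.S1492.result θ hθ ⊥ ⊤ (Z.subgroupOf H) bot_le le_top
    (fun c _ b hb => by rw [Subgroup.mem_bot.1 hb]; simp)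
    (fun d hd c _ => by
      rw [Subgroup.mem_bot]
      refine Subtype.ext ?_
      show (d : N) * c * (d : N)⁻¹ * (c : N)⁻¹ = 1
      rw [hcent (d : N) hd (c : N) c.2]; group)
    (fun b hb => by rw [Subgroup.mem_bot.1 hb])
  rw [Subgroup.card_top, ← CharTools.degree_cast (Char.IsIrrCharacter.isCharacter hθ),
    Complex.norm_natCast] at hb
  have hb' : Cfsg.charDegree θ ^ 2 * Nat.card H * Nat.card (Z.subgroupOf H) ≤ Nat.card H ^ 2 := by
    exact_mod_cast hb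
  have hZ := (Z.subgroupOf H).card_mul_index
  refine Nat.le_of_mul_le_mul_right ?_ (Nat.mul_pos (Nat.card_pos (α := H))
    (Nat.card_pos (α := Z.subgroupOf H)))
  calc _ = Cfsg.charDegree θ ^ 2 * Nat.card H * Nat.card (Z.subgroupOf H) := by ring
    _ ≤ _ := hb'
    _ = _ := by
      rw [pow_two]
      nth_rewrite 2 [← hZ]
      show _ = (Z.subgroupOf H).index * _
      ring

/-- The set of irreducible characters nontrivial on `Z`, with its sum of squared degrees. -/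
theorem exists_central_data
    (hC : ∀ h ∈ H, h ≠ 1 → Subgroup.centralizer ({h} : Set N) ≤ H) (Z : Subgroup N) [Z.Normal]
    (hZH : Z ≤ H) :
    ∃ X : Finset (N → ℂ), (∀ χ, χ ∈ X ↔ Cfsg.IsIrrCharacter N χ ∧ ∃ z ∈ Z, χ z ≠ χ 1) ∧
      (↑X : Set (N → ℂ)) = Cfsg.inducedIrrAbove H ⊥ \ Cfsg.inducedIrrAbove H Z ∧
      ∑ χ ∈ X, Cfsg.charDegree χ ^ 2 = H.index * (Z.relIndex H * (Nat.card Z - 1)) := by
  classical
  have hirr := Irr.irr_of_above (N := N) hC
  have hfin : (Cfsg.inducedIrrAbove H ⊥).Finite :=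
    (Set.finite_range (fun χ : Cfsg.IrrCharacter N => (χ : N → ℂ))).subset
      fun φ hφ => ⟨⟨φ, hirr φ hφ⟩, rfl⟩
  have hsub : Cfsg.inducedIrrAbove H Z ⊆ Cfsg.inducedIrrAbove H ⊥ := Above.above_mono H bot_le
  have hfZ := hfin.subset hsub
  have hfwd : ∀ χ ∈ Cfsg.inducedIrrAbove H Z, ∀ z ∈ Z, χ z = χ 1 := by
    rintro χ ⟨θ, hθ, -, hker, rfl⟩
    exact (Cfsg.Agent.S1487.result Z H hZH θ hθ).1 hker
  have hbwd : ∀ χ ∈ Cfsg.inducedIrrAbove H ⊥, (∀ z ∈ Z, χ z = χ 1) →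
      χ ∈ Cfsg.inducedIrrAbove H Z := by
    rintro χ ⟨θ, hθ, hθ1, -, rfl⟩ h
    exact ⟨θ, hθ, hθ1, (Cfsg.Agent.S1487.result Z H hZH θ hθ).2 h, rfl⟩
  refine ⟨hfin.toFinset \ hfZ.toFinset, fun χ => ?_, by simp, ?_⟩
  · simp only [Finset.mem_sdiff, Set.Finite.mem_toFinset]
    constructor
    · rintro ⟨h1, h2⟩
      refine ⟨hirr χ h1, ?_⟩
      by_contra hc
      push_neg at hc
      exact h2 (hbwd χ h1 hc)
    · rintro ⟨h1, z, hz, hne⟩
      refine ⟨?_, fun h => hne (hfwd χ h z hz)⟩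
      rw [← Irr.setOf_irr_eq_above hC]
      exact ⟨h1, z, hZH hz, hne⟩
  · have e1 := Irr.sum_sq_above H ⊥ hirr hfin.toFinset hfin.coe_toFinset
    have e2 := Irr.sum_sq_above H Z hirr hfZ.toFinset hfZ.coe_toFinset
    rw [← Finset.sum_sdiff (show hfZ.toFinset ⊆ hfin.toFinset by simpa using hsub), add_assoc, e2,
      Subgroup.relIndex_bot_left, ← relIndex_mul_card hZH] at e1
    have hz : 1 ≤ Nat.card Z := Nat.card_pos
    obtain ⟨t, ht⟩ : ∃ t, Nat.card Z = t + 1 := ⟨Nat.card Z - 1, by omega⟩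
    rw [ht] at e1 ⊢
    rw [Nat.add_sub_cancel]
    rw [mul_add, mul_one, mul_add] at e1
    omega

theorem exists_degree_pow {p : ℕ} (hp : p.Prime) (hpH : ∃ m, Nat.card H = p ^ m)
    (hirr : ∀ φ ∈ Cfsg.inducedIrrAbove H ⊥, Cfsg.IsIrrCharacter N φ)
    (Z : Subgroup N) [Z.Normal] (hZH : Z ≤ H) (hcent : ∀ x ∈ Z, ∀ y ∈ H, x * y = y * x)
    {χ : N → ℂ} (hχ : χ ∈ Cfsg.inducedIrrAbove H ⊥) :
    ∃ a : ℕ, Cfsg.charDegree χ = H.index * p ^ a ∧ p ^ (2 * a) ∣ Z.relIndex H := by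
  classical
  haveI : Fintype H := Fintype.ofFinite H
  obtain ⟨θ, hθ, hθ1, -, rfl⟩ := hχ
  obtain ⟨m, hm⟩ := hpH
  have hd : Cfsg.charDegree θ ∣ Nat.card H :=
    CharTools.degree_dvd_card (⟨θ, hθ⟩ : Cfsg.IrrCharacter H)
  rw [hm] at hd
  obtain ⟨a, -, ha⟩ := (Nat.dvd_prime_pow hp).1 hd
  have hy : Z.relIndex H ∣ p ^ m := by
    rw [← hm]; exact Dvd.intro _ (relIndex_mul_card hZH)
  obtain ⟨b, -, hb⟩ := (Nat.dvd_prime_pow hp).1 hy
  have hle := sq_le_relIndex H Z hZH hcent hθ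
  refine ⟨a, ?_, ?_⟩
  · rw [Irr.deg_indFun H hθ (hirr _ ?_), ha]
    exact ⟨θ, hθ, hθ1, fun x hx => by rw [show x = 1 from
      Subtype.ext (Subgroup.mem_bot.1 hx)], rfl⟩
  · rw [ha, ← pow_mul, hb, mul_comm] at hle
    rw [hb]
    exact pow_dvd_pow p ((Nat.pow_le_pow_iff_right hp.one_lt).1 hle)

theorem card_sub_one_ge (hC : ∀ h ∈ H, h ≠ 1 → Subgroup.centralizer ({h} : Set N) ≤ H)
    (Z : Subgroup N) [Z.Normal] (hZH : Z ≤ H) (hcent : ∀ x ∈ Z, ∀ y ∈ H, x * y = y * x) :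
    H.index ∣ Nat.card Z - 1 := by
  have h := FrobSection.index_dvd_relIndex_sub_one' H ⊥ Z bot_le hZH
    (fun x hx y hy => by rw [Subgroup.mem_bot, ← hcent y hy x hx]; group)
    (FrobKernel.free_on_section H hC ⊥ bot_le)
  rwa [Subgroup.relIndex_bot_left] at h

/-- The characters nontrivial on `Z` are coherent (any isometry `τ`). -/
theorem central_part_coherent {p : ℕ} (hp : p.Prime) (hp2 : p ≠ 2)
    (hpH : ∃ m, Nat.card H = p ^ m) (hodd : Odd H.index) (hH2 : H ≠ ⊤)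
    (hC : ∀ h ∈ H, h ≠ 1 → Subgroup.centralizer ({h} : Set N) ≤ H)
    (Z : Subgroup N) [Z.Normal] (hZ1 : Z ≠ ⊥) (hZH : Z ≤ H)
    (hcent : ∀ x ∈ Z, ∀ y ∈ H, x * y = y * x) {τ : (N → ℂ) → (G → ℂ)}
    (hτ : Cfsg.IsLinearIsometryOn (Cfsg.zspanOn (Cfsg.inducedIrrAbove H ⊥) {1}ᶜ) τ)
    (hτ1 : ∀ α ∈ Cfsg.zspanOn (Cfsg.inducedIrrAbove H ⊥) {1}ᶜ, τ α 1 = 0) :
    Cfsg.IsCoherent {χ : N → ℂ | Cfsg.IsIrrCharacter N χ ∧ ∃ z ∈ Z, χ z ≠ χ 1} {1}ᶜ τ := by
  classical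
  have hirr := Irr.irr_of_above (N := N) hC
  obtain ⟨X, hX, hXset, hXsum⟩ := exists_central_data H hC Z hZH
  have hXS : (↑X : Set (N → ℂ)) ⊆ Cfsg.inducedIrrAbove H ⊥ := hXset ▸ Set.sdiff_subset
  rw [show {χ : N → ℂ | Cfsg.IsIrrCharacter N χ ∧ ∃ z ∈ Z, χ z ≠ χ 1} = ↑X from
    Set.ext fun χ => by simp [hX χ]]
  have hadata : ∀ χ ∈ X, ∃ a : ℕ, Cfsg.charDegree χ = H.index * p ^ a ∧
      p ^ (2 * a) ∣ Z.relIndex H := fun χ hχ =>
    exists_degree_pow H hp hpH hirr Z hZH hcent (hXS hχ)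
  choose! a ha had using hadata
  set e := H.index with hedef
  have he0 : 0 < e := hodd.pos
  have hp0 := hp.pos
  have hpodd : Odd p := hp.odd_of_ne_two hp2
  obtain ⟨m, hm⟩ := hpH
  have hcop : ∀ k, Nat.Coprime (p ^ k) e := by
    intro k
    rcases Nat.eq_zero_or_pos m with h0 | hm0
    · exfalso
      rw [h0, pow_zero] at hm
      exact hZ1 (le_bot_iff.1 (hZH.trans (Subgroup.card_eq_one.1 hm).le))
    · refine Nat.Coprime.pow_left k ?_
      exact (FrobKernel.coprime_card_index H hC).coprime_dvd_left (hm ▸ dvd_pow_self p hm0.ne')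
  set M := Z.relIndex H * (Nat.card Z - 1) with hM
  have hZeven : 2 ∣ Nat.card Z - 1 := by
    have h := Subgroup.card_dvd_of_le hZH
    rw [hm] at h
    obtain ⟨k, -, hk⟩ := (Nat.dvd_prime_pow hp).1 h
    rw [hk]
    obtain ⟨t, ht⟩ := hpodd.pow (n := k)
    exact ⟨t, by omega⟩
  have hMpos : 0 < M := by
    have h1 : 1 < Nat.card Z := (Subgroup.one_lt_card_iff_ne_bot Z).2 hZ1
    exact Nat.mul_pos (Nat.pos_of_ne_zero (Subgroup.index_ne_zero_of_finite (H := Z.subgroupOf H)))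
      (by omega)
  have hdvdM : ∀ χ ∈ X, p ^ (2 * a χ) ∣ M := fun χ hχ => (had χ hχ).trans (Dvd.intro _ rfl)
  have hsplit : ∀ S : Finset (N → ℂ), S ⊆ X →
      ∑ χ ∈ S, Cfsg.charDegree χ ^ 2 = e ^ 2 * ∑ χ ∈ S, p ^ (2 * a χ) := by
    intro S hS
    rw [Finset.mul_sum]
    refine Finset.sum_congr rfl fun χ hχ => ?_
    rw [ha χ (hS hχ), mul_pow, ← pow_mul, mul_comm (a χ)]
  have heM : e * ∑ χ ∈ X, p ^ (2 * a χ) = M := by
    refine Nat.eq_of_mul_eq_mul_left he0 ?_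
    rw [← mul_assoc, ← pow_two, ← hsplit X subset_rfl, hXsum]
  have hXne : X.Nonempty := by
    rcases X.eq_empty_or_nonempty with h | h
    · rw [h, Finset.sum_empty, mul_zero] at heM; omega
    · exact h
  obtain ⟨χ₀, hχ₀, hmin⟩ := X.exists_min_image a hXne
  set a₀ := a χ₀
  let lvl : ℕ → Finset (N → ℂ) := fun k => X.filter fun χ => a χ ≤ k
  have hlvlX : ∀ k, lvl k ⊆ X := fun k => Finset.filter_subset _ _
  have hbase2 : 2 ≤ (lvl a₀).card := by
    have hpos : 0 < (lvl a₀).card := Finset.card_pos.2 ⟨χ₀, Finset.mem_filter.2 ⟨hχ₀, le_rfl⟩⟩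
    by_contra hlt
    have h1 : (lvl a₀).card = 1 := by omega
    have hconst : ∀ χ ∈ lvl a₀, p ^ (2 * a χ) = p ^ (2 * a₀) := fun χ hχ => by
      obtain ⟨hχX, hle⟩ := Finset.mem_filter.1 hχ
      rw [le_antisymm hle (hmin χ hχX)]
    rw [← Finset.sum_sdiff (hlvlX a₀), Finset.sum_congr rfl hconst, Finset.sum_const, h1,
      one_smul] at heM
    rcases (X \ lvl a₀).eq_empty_or_nonempty with h | ⟨χ, hχ⟩
    · rw [h, Finset.sum_empty, zero_add] at heM
      have h2 : Odd (e * p ^ (2 * a₀)) := hodd.mul hpodd.pow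
      rw [heM] at h2
      exact Nat.not_even_iff_odd.2 h2 (even_iff_two_dvd.2 (hZeven.trans (Dvd.intro_left _ rfl)))
    · have hbig : ∀ ψ ∈ X \ lvl a₀, p ^ (2 * a₀ + 2) ∣ p ^ (2 * a ψ) := fun ψ hψ => by
        simp only [lvl, Finset.mem_sdiff, Finset.mem_filter, not_and, not_le] at hψ
        have := hψ.2 hψ.1
        exact pow_dvd_pow p (by omega)
      have hM' : p ^ (2 * a₀ + 2) ∣ M :=
        (hbig χ hχ).trans (hdvdM χ (Finset.mem_sdiff.1 hχ).1)
      rw [← heM, mul_add] at hM'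
      have h2 := (Nat.dvd_add_right ((Finset.dvd_sum hbig).mul_left e)).1 hM'
      have h3 := ((hcop _).dvd_of_dvd_mul_left h2)
      have := (Nat.pow_dvd_pow_iff_le_right hp.one_lt).1 h3
      omega
  have hlvlT : ∀ k, (↑(lvl k) : Set (N → ℂ)) ⊆ Cfsg.inducedIrrAbove H ⊥ := fun k x hx =>
    hXS (hlvlX k hx)
  have hstep : ∀ k, Cfsg.IsCoherent (↑(lvl (a₀ + k)) : Set (N → ℂ)) {1}ᶜ τ := by
    intro k
    induction k with
    | zero =>
      refine Irr.coherent_constant _ (fun φ hφ => hirr φ (hlvlT _ hφ)) (fun φ hφ ψ hψ => ?_)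
        hbase2 τ (Irr.isometry_mono hτ (hlvlT _))
        fun α hα => hτ1 α (Coh.zspanOn_mono (hlvlT _) hα)
      simp only [lvl, add_zero, Finset.mem_filter] at hφ hψ
      rw [Irr.exists_deg hirr φ (hXS hφ.1), Irr.exists_deg hirr ψ (hXS hψ.1), ha φ hφ.1,
        ha ψ hψ.1, le_antisymm hφ.2 (hmin φ hφ.1), le_antisymm hψ.2 (hmin ψ hψ.1)]
    | succ k ih =>
      set j := a₀ + k
      have hsub : lvl j ⊆ lvl (j + 1) := fun x hx => by
        simp only [lvl, Finset.mem_filter] at hx ⊢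
        exact ⟨hx.1, by omega⟩
      have h := Irr.feit_extend hirr hτ hτ1 (lvl j) (hlvlT j) ih (ψ := χ₀)
        (Finset.mem_filter.2 ⟨hχ₀, Nat.le_add_right _ _⟩) (lvl (j + 1)) (hlvlT _) (fun χ hχ hn => by
          simp only [lvl, Finset.mem_filter] at hχ hn
          have haχ : a χ = j + 1 := by
            have : ¬ a χ ≤ j := fun h => hn ⟨hχ.1, h⟩
            omega
          rw [ha χ₀ hχ₀, ha χ hχ.1]
          refine ⟨Nat.mul_dvd_mul_left _ (pow_dvd_pow p (by omega)), ?_⟩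
          have hdvd : p ^ (2 * (j + 1)) ∣ ∑ ξ ∈ lvl j, p ^ (2 * a ξ) := by
            have hM' : p ^ (2 * (j + 1)) ∣ M := haχ ▸ hdvdM χ hχ.1
            rw [← heM, ← Finset.sum_sdiff (hlvlX j), Nat.left_distrib e] at hM'
            have hbig : ∀ ψ ∈ X \ lvl j, p ^ (2 * (j + 1)) ∣ p ^ (2 * a ψ) := fun ψ hψ => by
              simp only [lvl, Finset.mem_sdiff, Finset.mem_filter, not_and, not_le] at hψ
              have := hψ.2 hψ.1
              exact pow_dvd_pow p (by omega)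
            exact (hcop _).dvd_of_dvd_mul_left
              ((Nat.dvd_add_right ((Finset.dvd_sum hbig).mul_left e)).1 hM')
          have hpos : 0 < ∑ ξ ∈ lvl j, p ^ (2 * a ξ) :=
            lt_of_lt_of_le (Nat.pow_pos hp0) (Finset.single_le_sum
              (f := fun ξ => p ^ (2 * a ξ)) (fun _ _ => Nat.zero_le _)
              (Finset.mem_filter.2 ⟨hχ₀, Nat.le_add_right _ _⟩))
          have hge := Nat.le_of_dvd hpos hdvd
          rw [hsplit (lvl j) (hlvlX j), haχ]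
          have h3 : 2 * p ^ (a₀ + (j + 1)) < p ^ (2 * (j + 1)) := by
            calc 2 * p ^ (a₀ + (j + 1)) < p * p ^ (a₀ + (j + 1)) :=
                  Nat.mul_lt_mul_of_pos_right (lt_of_le_of_ne hp.two_le (Ne.symm hp2))
                    (Nat.pow_pos hp0)
              _ = p ^ (a₀ + (j + 1) + 1) := by rw [← pow_succ']
              _ ≤ _ := Nat.pow_le_pow_right hp0 (by omega)
          calc 2 * (e * p ^ a₀) * (e * p ^ (j + 1)) = e ^ 2 * (2 * p ^ (a₀ + (j + 1))) := by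
                rw [pow_add]; ring
            _ < e ^ 2 * ∑ ξ ∈ lvl j, p ^ (2 * a ξ) :=
                Nat.mul_lt_mul_of_pos_left (h3.trans_le hge) (pow_pos he0 2))
      rw [show (↑(lvl j) ∪ ↑(lvl (j + 1)) : Set (N → ℂ)) = ↑(lvl (j + 1)) from
        Set.union_eq_right.2 (Finset.coe_subset.2 hsub)] at h
      exact h
  have hall : lvl (a₀ + X.sup a) = X := Finset.filter_true_of_mem fun χ hχ =>
    le_trans (Finset.le_sup hχ) (Nat.le_add_left _ _)
  simpa [hall] using hstep (X.sup a)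

end CfsgLib.OddChar.CentralPart
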