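import Mathlib.Algebra.Order.BigOperators.Group.Finset
import Mathlib.Algebra.BigOperators.Fin
import Mathlib.Algebra.Ring.Parity
import Mathlib.Data.Fintype.Card
import Mathlib.Tactic

/-!
A grid of integer vectors of squared norm three with the inner products of a cyclic TI family splits
into pieces `A i + B j + C i j`.
-/

set_option autoImplicit false

namespace CfsgLib.OddChar.GridThree

variable {ι : Type*} [Fintype ι]

/-- The standard inner product. -/
def ip (v w : ι → ℤ) : ℤ := ∑ i, v i * w i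

theorem ip_comm (v w : ι → ℤ) : ip v w = ip w v := by simp [ip, mul_comm]

variable [DecidableEq ι]

theorem sq_le {v : ι → ℤ} (i : ι) : v i * v i ≤ ip v v :=
  Finset.single_le_sum (f := fun k => v k * v k) (fun k _ => mul_self_nonneg _) (Finset.mem_univ i)

theorem unit_of_three {v : ι → ℤ} (hv : ip v v = 3) (i : ι) : v i = -1 ∨ v i = 0 ∨ v i = 1 := by
  have := sq_le (v := v) i
  rw [hv] at this
  rcases lt_trichotomy (v i) 0 with h | h | h
  · left; nlinarith
  · right; left; exact h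
  · right; right; nlinarith

/-- The support. -/
def supp (v : ι → ℤ) : Finset ι := Finset.univ.filter fun i => v i ≠ 0

theorem mem_supp {v : ι → ℤ} {i : ι} : i ∈ supp v ↔ v i ≠ 0 := by simp [supp]

theorem card_supp {v : ι → ℤ} (hv : ip v v = 3) : (supp v).card = 3 := by
  have h : ∀ i, v i * v i = if v i ≠ 0 then 1 else 0 := fun i => by
    rcases unit_of_three hv i with h | h | h <;> simp [h]
  simp only [ip, h] at hv
  rw [Finset.sum_boole] at hv
  exact_mod_cast hv

theorem ip_eq_sum_left (v w : ι → ℤ) : ip v w = ∑ i ∈ supp v, v i * w i := by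
  refine (Finset.sum_filter_of_ne fun i _ h => ?_).symm
  exact fun hc => h (by rw [hc, zero_mul])

theorem ip_triple {v : ι → ℤ} {a b c : ι} (h : supp v = {a, b, c}) (hab : a ≠ b) (hac : a ≠ c)
    (hbc : b ≠ c) (w : ι → ℤ) : ip v w = v a * w a + v b * w b + v c * w c := by
  rw [ip_eq_sum_left, h, Finset.sum_insert (by simp [hab, hac]), Finset.sum_insert (by simp [hbc]),
    Finset.sum_singleton, add_assoc]

/-- `v` and `w` share exactly one point, with equal signs. -/
def Meet (v w : ι → ℤ) : Prop :=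
  ∃ k, v k ≠ 0 ∧ v k = w k ∧ ∀ i, v i ≠ 0 → w i ≠ 0 → i = k

theorem meet_of_ip {deg : ι → ℤ} (hdeg : ∀ i, deg i ≠ 0) {v w : ι → ℤ} (hv : ip v v = 3)
    (hw : ip w w = 3) (h : ip v w = 1) (he : ip v deg = ip w deg) : Meet v w := by
  classical
  set S := supp v ∩ supp w with hS
  have hsum : ∑ i ∈ S, v i * w i = 1 := by
    rw [← h, ip_eq_sum_left]
    refine Finset.sum_subset Finset.inter_subset_left fun i hi hn => ?_
    have : w i = 0 := by
      by_contra hne; exact hn (Finset.mem_inter.2 ⟨hi, mem_supp.2 hne⟩)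
    rw [this, mul_zero]
  have hle : S.card ≤ 3 := (Finset.card_le_card Finset.inter_subset_left).trans (card_supp hv).le
  have hpm : ∀ i ∈ S, v i * w i = 1 ∨ v i * w i = -1 := by
    intro i hi
    obtain ⟨h1, h2⟩ := Finset.mem_inter.1 hi
    rw [mem_supp] at h1 h2
    rcases unit_of_three hv i with a | a | a <;> rcases unit_of_three hw i with b | b | b <;>
      simp_all
  interval_cases hc : S.card
  · rw [Finset.card_eq_zero.1 hc] at hsum; simp at hsum
  · obtain ⟨k, hk⟩ := Finset.card_eq_one.1 hc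
    rw [hk, Finset.sum_singleton] at hsum
    have hvk : v k ≠ 0 := fun h => by rw [h, zero_mul] at hsum; exact zero_ne_one hsum
    refine ⟨k, hvk, ?_, fun i h1 h2 => Finset.mem_singleton.1
      (hk ▸ Finset.mem_inter.2 ⟨mem_supp.2 h1, mem_supp.2 h2⟩)⟩
    rcases unit_of_three hv k with a | a | a <;> rcases unit_of_three hw k with b | b | b <;>
      simp_all
  · obtain ⟨a, b, hab, hk⟩ := Finset.card_eq_two.1 hc
    rw [hk, Finset.sum_pair hab] at hsum
    have := hpm a (by simp [hk])
    have := hpm b (by simp [hk])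
    omega
  · exfalso
    have e1 : S = supp v := Finset.eq_of_subset_of_card_le Finset.inter_subset_left
      (by rw [card_supp hv, hc])
    have e2 : supp w = supp v := by
      rw [← e1]; exact (Finset.eq_of_subset_of_card_le Finset.inter_subset_right
      (by rw [card_supp hw, hc])).symm
    obtain ⟨a, b, c, hab, hac, hbc, hk⟩ := Finset.card_eq_three.1 (card_supp hv)
    rw [ip_triple hk hab hac hbc, ip_triple (e2.trans hk) hab hac hbc] at he
    rw [ip_triple hk hab hac hbc] at h
    have := hpm a (by simp [e1, hk])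
    have := hpm b (by simp [e1, hk])
    have := hpm c (by simp [e1, hk])
    have ha := hdeg a
    have hb := hdeg b
    have hc := hdeg c
    have ka : ∀ i, v i * w i = 1 → v i = w i := fun i hi => by
      rcases unit_of_three hv i with a | a | a <;> rcases unit_of_three hw i with b | b | b <;>
        simp_all
    have kb : ∀ i, v i * w i = -1 → w i = -v i ∧ v i ≠ 0 := fun i hi => by
      rcases unit_of_three hv i with a | a | a <;> rcases unit_of_three hw i with b | b | b <;>
        simp_all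
    rcases hpm a (by simp [e1, hk]) with pa | pa <;> rcases hpm b (by simp [e1, hk]) with pb | pb <;>
      rcases hpm c (by simp [e1, hk]) with pc | pc <;> try omega
    · obtain ⟨q, q'⟩ := kb c pc
      rw [ka a pa, ka b pb, q] at he
      exact mul_ne_zero q' (hdeg c) (by linarith)
    · obtain ⟨q, q'⟩ := kb b pb
      rw [ka a pa, ka c pc, q] at he
      exact mul_ne_zero q' (hdeg b) (by linarith)
    · obtain ⟨q, q'⟩ := kb a pa
      rw [ka b pb, ka c pc, q] at he
      exact mul_ne_zero q' (hdeg a) (by linarith)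

theorem Meet.symm {v w : ι → ℤ} (h : Meet v w) : Meet w v := by
  obtain ⟨k, hk, he, hu⟩ := h
  exact ⟨k, he ▸ hk, he.symm, fun i h1 h2 => hu i h2 h1⟩

/-! ### The finite search -/

/-- The restriction of a vector to seven points, determined by three coordinates. -/
def tup (t : Fin 4 → ℤ) (p a b : Fin 3) : List ℤ :=
  let P : ℤ := (p : ℕ) - 1
  let A : ℤ := (a : ℕ) - 1
  let B : ℤ := (b : ℕ) - 1
  let C : ℤ := t 3 - A - B
  [P, A, B, C, t 0 - P - A, t 1 - P - B, t 2 - P - C]

def dotList : List ℤ → List ℤ → ℤ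
  | x :: xs, y :: ys => x * y + dotList xs ys
  | _, _ => 0

def Good (y : List ℤ) : Prop := dotList y y ≤ 3

def Compat (y z : List ℤ) : Prop :=
  dotList y z - 1 ≤ 3 - dotList y y ∧ dotList y z - 1 ≤ 3 - dotList z z ∧
    1 - dotList y z ≤ 3 - dotList y y ∧ 1 - dotList y z ≤ 3 - dotList z z

instance (y : List ℤ) : Decidable (Good y) := inferInstanceAs (Decidable (_ ≤ _))
instance (y z : List ℤ) : Decidable (Compat y z) := inferInstanceAs (Decidable (_ ∧ _))

theorem no_config :
    ∀ p₃ a₃ b₃, Good (tup ![0, 0, 0, 1] p₃ a₃ b₃) →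
    ∀ p₀ a₀ b₀, Good (tup ![1, 0, 0, 0] p₀ a₀ b₀) →
      Compat (tup ![1, 0, 0, 0] p₀ a₀ b₀) (tup ![0, 0, 0, 1] p₃ a₃ b₃) →
    ∀ p₁ a₁ b₁, Good (tup ![0, 1, 0, 0] p₁ a₁ b₁) →
      Compat (tup ![0, 1, 0, 0] p₁ a₁ b₁) (tup ![0, 0, 0, 1] p₃ a₃ b₃) →
      Compat (tup ![1, 0, 0, 0] p₀ a₀ b₀) (tup ![0, 1, 0, 0] p₁ a₁ b₁) →
    ∀ p₂ a₂ b₂, Good (tup ![0, 0, 1, 0] p₂ a₂ b₂) →
      Compat (tup ![0, 0, 1, 0] p₂ a₂ b₂) (tup ![0, 0, 0, 1] p₃ a₃ b₃) →
      Compat (tup ![1, 0, 0, 0] p₀ a₀ b₀) (tup ![0, 0, 1, 0] p₂ a₂ b₂) →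
      ¬ Compat (tup ![0, 1, 0, 0] p₁ a₁ b₁) (tup ![0, 0, 1, 0] p₂ a₂ b₂) := by
  decide +kernel

/-- Three lines through `P` and a fourth one are impossible next to a second row. -/
theorem triple_false (L x : Fin 4 → ι → ℤ) (hL : ∀ l, ip (L l) (L l) = 3)
    (hx : ∀ l, ip (x l) (x l) = 3) (hmL : ∀ l m, l ≠ m → Meet (L l) (L m))
    (hxx : ∀ l m, l ≠ m → ip (x l) (x m) = 1)
    (hxL : ∀ l m, ip (L m) (x l) = if l = m then 1 else 0) (P : ι) (h0 : L 0 P ≠ 0)
    (h1 : L 1 P ≠ 0) (h2 : L 2 P ≠ 0) (h3 : L 3 P = 0) : False := by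
  classical
  have same : ∀ {l m : Fin 4} {i : ι}, l ≠ m → L l i ≠ 0 → L m i ≠ 0 → L l i = L m i := by
    intro l m i hlm hl hm
    obtain ⟨k, -, hk, hu⟩ := hmL l m hlm
    rw [hu i hl hm, hk]
  have uniq : ∀ {l m : Fin 4} {i j : ι}, l ≠ m → L l i ≠ 0 → L m i ≠ 0 → L l j ≠ 0 → L m j ≠ 0 →
      i = j := by
    intro l m i j hlm a b c d
    obtain ⟨k, -, -, hu⟩ := hmL l m hlm
    rw [hu i a b, hu j c d]
  obtain ⟨a, ha0, ha3', -⟩ := hmL 0 3 (by decide)
  obtain ⟨b, hb1, hb3', -⟩ := hmL 1 3 (by decide)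
  obtain ⟨c, hc2, hc3', -⟩ := hmL 2 3 (by decide)
  have ha3 : L 3 a ≠ 0 := ha3' ▸ ha0
  have hb3 : L 3 b ≠ 0 := hb3' ▸ hb1
  have hc3 : L 3 c ≠ 0 := hc3' ▸ hc2
  have hPa : P ≠ a := fun h => ha3 (h ▸ h3)
  have hPb : P ≠ b := fun h => hb3 (h ▸ h3)
  have hPc : P ≠ c := fun h => hc3 (h ▸ h3)
  have hab : a ≠ b := fun h => hPa (uniq (l := 0) (m := 1) (by decide) h0 h1 ha0 (h ▸ hb1))
  have hac : a ≠ c := fun h => hPa (uniq (l := 0) (m := 2) (by decide) h0 h2 ha0 (h ▸ hc2))
  have hbc : b ≠ c := fun h => hPb (uniq (l := 1) (m := 2) (by decide) h1 h2 hb1 (h ▸ hc2))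
  have third : ∀ (l : Fin 4) (u : ι), L l P ≠ 0 → L l u ≠ 0 → P ≠ u →
      ∃ u', u' ≠ P ∧ u' ≠ u ∧ L l u' ≠ 0 ∧ supp (L l) = {P, u, u'} := by
    intro l u hP hu hne
    have hsub : ({P, u} : Finset ι) ⊆ supp (L l) := by
      simp [Finset.insert_subset_iff, mem_supp, hP, hu]
    have hcard : (supp (L l) \ {P, u}).card = 1 := by
      rw [Finset.card_sdiff_of_subset hsub, card_supp (hL l), Finset.card_pair hne]
    obtain ⟨u', hu'⟩ := Finset.card_eq_one.1 hcard
    have hm : u' ∈ supp (L l) \ {P, u} := by rw [hu']; exact Finset.mem_singleton_self _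
    simp only [Finset.mem_sdiff, mem_supp, Finset.mem_insert, Finset.mem_singleton, not_or] at hm
    refine ⟨u', hm.2.1, hm.2.2, hm.1, ?_⟩
    rw [← Finset.union_sdiff_of_subset hsub, hu']
    ext i; simp
  obtain ⟨a', haP, haa, ha', hs0⟩ := third 0 a h0 ha0 hPa
  obtain ⟨b', hbP, hbb, hb', hs1⟩ := third 1 b h1 hb1 hPb
  obtain ⟨c', hcP, hcc, hc', hs2⟩ := third 2 c h2 hc2 hPc
  have hs3 : supp (L 3) = {a, b, c} := (Finset.eq_of_subset_of_card_le
    (by simp [Finset.insert_subset_iff, mem_supp, ha3, hb3, hc3])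
    (by rw [card_supp (hL 3)]; simp [hab, hac, hbc])).symm
  have hab' : a' ≠ b' := fun h => haP (uniq (l := 0) (m := 1) (by decide) ha' (h ▸ hb') h0 h1)
  have hac' : a' ≠ c' := fun h => haP (uniq (l := 0) (m := 2) (by decide) ha' (h ▸ hc') h0 h2)
  have hbc' : b' ≠ c' := fun h => hbP (uniq (l := 1) (m := 2) (by decide) hb' (h ▸ hc') h1 h2)
  have hna : a' ≠ b ∧ a' ≠ c :=
    ⟨fun h => haP (uniq (l := 0) (m := 1) (by decide) ha' (h ▸ hb1) h0 h1),
      fun h => haP (uniq (l := 0) (m := 2) (by decide) ha' (h ▸ hc2) h0 h2)⟩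
  have hnb : b' ≠ a ∧ b' ≠ c :=
    ⟨fun h => hbP (uniq (l := 1) (m := 0) (by decide) hb' (h ▸ ha0) h1 h0),
      fun h => hbP (uniq (l := 1) (m := 2) (by decide) hb' (h ▸ hc2) h1 h2)⟩
  have hnc : c' ≠ a ∧ c' ≠ b :=
    ⟨fun h => hcP (uniq (l := 2) (m := 0) (by decide) hc' (h ▸ ha0) h2 h0),
      fun h => hcP (uniq (l := 2) (m := 1) (by decide) hc' (h ▸ hb1) h2 h1)⟩
  -- the coordinates
  let y : Fin 4 → List ℤ := fun l => [x l P * L 0 P, x l a * L 3 a, x l b * L 3 b, x l c * L 3 c,
    x l a' * L 0 a', x l b' * L 1 b', x l c' * L 2 c']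
  have sq1 : ∀ l i, L l i ≠ 0 → L l i * L l i = 1 := fun l i h => by
    rcases unit_of_three (hL l) i with e | e | e <;> simp_all
  let T : Finset ι := {P, a, b, c, a', b', c'}
  have hT : ∀ f : ι → ℤ, ∑ i ∈ T, f i = f P + f a + f b + f c + f a' + f b' + f c' := by
    intro f
    rw [Finset.sum_insert (by simp [hPa, hPb, hPc, haP.symm, hbP.symm, hcP.symm]),
      Finset.sum_insert (by simp [hab, hac, haa.symm, hnb.1.symm, hnc.1.symm]),
      Finset.sum_insert (by simp [hbc, hna.1.symm, hbb.symm, hnc.2.symm]),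
      Finset.sum_insert (by simp [hna.2.symm, hnb.2.symm, hcc.symm]),
      Finset.sum_insert (by simp [hab', hac']), Finset.sum_insert (by simp [hbc']),
      Finset.sum_singleton]
    ring
  have hdot : ∀ l m, dotList (y l) (y m) = ∑ i ∈ T, x l i * x m i := by
    intro l m
    rw [hT]
    simp only [y, dotList]
    linear_combination (x l P * x m P) * sq1 0 P h0 + (x l a * x m a) * sq1 3 a ha3 +
      (x l b * x m b) * sq1 3 b hb3 + (x l c * x m c) * sq1 3 c hc3 +
      (x l a' * x m a') * sq1 0 a' ha' + (x l b' * x m b') * sq1 1 b' hb' +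
      (x l c' * x m c') * sq1 2 c' hc'
  have hgood : ∀ l, Good (y l) := fun l => by
    show dotList (y l) (y l) ≤ 3
    rw [hdot, ← hx l, ip]
    exact Finset.sum_le_sum_of_subset_of_nonneg (Finset.subset_univ _)
      fun i _ _ => mul_self_nonneg _
  have hrest : ∀ l, ∑ i ∈ Tᶜ, x l i * x l i = 3 - dotList (y l) (y l) := fun l => by
    rw [hdot, ← hx l, ip, ← Finset.sum_add_sum_compl T]; ring
  have hcompat : ∀ l m, l ≠ m → Compat (y l) (y m) := by
    intro l m hlm
    have hr : ∑ i ∈ Tᶜ, x l i * x m i = 1 - dotList (y l) (y m) := by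
      rw [hdot, ← hxx l m hlm, ip, ← Finset.sum_add_sum_compl T]; ring
    refine ⟨?_, ?_, ?_, ?_⟩
    all_goals
      first
      | (rw [← hrest l]; rw [show dotList (y l) (y m) - 1 = -(∑ i ∈ Tᶜ, x l i * x m i) by
          rw [hr]; ring, ← Finset.sum_neg_distrib]
         refine Finset.sum_le_sum fun i _ => ?_
         rcases unit_of_three (hx l) i with e | e | e <;>
           rcases unit_of_three (hx m) i with f | f | f <;> simp [e, f])
      | (rw [← hrest m]; rw [show dotList (y l) (y m) - 1 = -(∑ i ∈ Tᶜ, x l i * x m i) by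
          rw [hr]; ring, ← Finset.sum_neg_distrib]
         refine Finset.sum_le_sum fun i _ => ?_
         rcases unit_of_three (hx l) i with e | e | e <;>
           rcases unit_of_three (hx m) i with f | f | f <;> simp [e, f])
      | (rw [← hrest l, ← hr]
         refine Finset.sum_le_sum fun i _ => ?_
         rcases unit_of_three (hx l) i with e | e | e <;>
           rcases unit_of_three (hx m) i with f | f | f <;> simp [e, f])
      | (rw [← hrest m, ← hr]
         refine Finset.sum_le_sum fun i _ => ?_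
         rcases unit_of_three (hx l) i with e | e | e <;>
           rcases unit_of_three (hx m) i with f | f | f <;> simp [e, f])
  have htup : ∀ l, ∃ p u w : Fin 3, y l = tup (fun m => if l = m then 1 else 0) p u w := by
    intro l
    have hb : ∀ {i : ι} {m : Fin 4}, L m i ≠ 0 → ∃ q : Fin 3, x l i * L m i = (q : ℕ) - 1 := by
      intro i m hm
      rcases unit_of_three (hx l) i with e | e | e <;>
        rcases unit_of_three (hL m) i with f | f | f <;> simp_all
      all_goals first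
        | (refine ⟨0, ?_⟩; norm_num; done) | (refine ⟨1, ?_⟩; norm_num; done) | (refine ⟨2, ?_⟩; norm_num; done)
    obtain ⟨p, hp⟩ := hb h0
    obtain ⟨u, hu⟩ := hb ha3
    obtain ⟨w, hw⟩ := hb hb3
    refine ⟨p, u, w, ?_⟩
    have e0 := hxL l 0
    have e1 := hxL l 1
    have e2 := hxL l 2
    have e3 := hxL l 3
    rw [ip_triple hs0 hPa haP.symm haa.symm, same (l := 0) (m := 3) (by decide) ha0 ha3] at e0
    rw [ip_triple hs1 hPb hbP.symm hbb.symm, same (l := 1) (m := 3) (by decide) hb1 hb3,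
      ← same (l := 0) (m := 1) (by decide) h0 h1] at e1
    rw [ip_triple hs2 hPc hcP.symm hcc.symm, same (l := 2) (m := 3) (by decide) hc2 hc3,
      ← same (l := 0) (m := 2) (by decide) h0 h2] at e2
    rw [ip_triple hs3 hab hac hbc] at e3
    simp only [y, tup, ← hp, ← hu, ← hw, List.cons.injEq, and_true, true_and]
    exact ⟨by linarith, by linarith, by linarith, by linarith⟩
  have e : ∀ l : Fin 4, (fun m => if l = m then (1 : ℤ) else 0) =
      ![![1, 0, 0, 0], ![0, 1, 0, 0], ![0, 0, 1, 0], ![0, 0, 0, 1]] l := by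
    intro l; funext m; fin_cases l <;> fin_cases m <;> rfl
  obtain ⟨p₀, a₀, b₀, e₀⟩ := htup 0
  obtain ⟨p₁, a₁, b₁, e₁⟩ := htup 1
  obtain ⟨p₂, a₂, b₂, e₂⟩ := htup 2
  obtain ⟨p₃, a₃, b₃, e₃⟩ := htup 3
  rw [e 0] at e₀; rw [e 1] at e₁; rw [e 2] at e₂; rw [e 3] at e₃
  exact no_config p₃ a₃ b₃ (e₃ ▸ hgood 3) p₀ a₀ b₀ (e₀ ▸ hgood 0)
    (e₀ ▸ e₃ ▸ hcompat 0 3 (by decide)) p₁ a₁ b₁ (e₁ ▸ hgood 1)
    (e₁ ▸ e₃ ▸ hcompat 1 3 (by decide)) (e₀ ▸ e₁ ▸ hcompat 0 1 (by decide)) p₂ a₂ b₂
    (e₂ ▸ hgood 2) (e₂ ▸ e₃ ▸ hcompat 2 3 (by decide)) (e₀ ▸ e₂ ▸ hcompat 0 2 (by decide))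
    (e₁ ▸ e₂ ▸ hcompat 1 2 (by decide))

theorem fin4_fourth : ∀ l m r : Fin 4, ∃ q, q ≠ l ∧ q ≠ m ∧ q ≠ r := by decide

theorem fin4_cover : ∀ l m r q : Fin 4, l ≠ m → l ≠ r → m ≠ r → q ≠ l → q ≠ m → q ≠ r →
    ∀ u, u ≠ q → u = l ∨ u = m ∨ u = r := by decide

/-- Four lines of one row have a common point. -/
theorem four_common (L x : Fin 4 → ι → ℤ) (hL : ∀ l, ip (L l) (L l) = 3)
    (hx : ∀ l, ip (x l) (x l) = 3) (hmL : ∀ l m, l ≠ m → Meet (L l) (L m))
    (hxx : ∀ l m, l ≠ m → ip (x l) (x m) = 1)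
    (hxL : ∀ l m, ip (L m) (x l) = if l = m then 1 else 0) : ∃ P, ∀ l, L l P ≠ 0 := by
  classical
  by_contra hno
  push Not at hno
  -- no point lies on three lines
  have htri : ∀ m P, (∀ l, l ≠ m → L l P ≠ 0) → False := by
    intro m P h
    obtain ⟨l₀, hl₀⟩ := hno P
    have hlm : l₀ = m := by_contra fun hne => h l₀ hne hl₀
    subst hlm
    set s := Equiv.swap l₀ (3 : Fin 4) with hs
    have key : ∀ l : Fin 4, l ≠ 3 → L (s l) P ≠ 0 := fun l hl => h (s l) fun e => hl (by
      have h' := congrArg s e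
      rwa [hs, Equiv.swap_apply_self, Equiv.swap_apply_left] at h')
    exact triple_false (fun l => L (s l)) (fun l => x (s l)) (fun l => hL _) (fun l => hx _)
      (fun l m hlm => hmL _ _ (s.injective.ne hlm)) (fun l m hlm => hxx _ _ (s.injective.ne hlm))
      (fun l m => by rw [hxL]; simp [s.injective.eq_iff]) P
      (key 0 (by decide)) (key 1 (by decide)) (key 2 (by decide))
      (by simpa [hs] using hl₀)
  choose M hM0 hMe hMu using hmL
  have hcount : ∀ i l, L l i ≠ 0 → ∃ m, m ≠ l ∧ L m i ≠ 0 ∧ ∀ r, L r i ≠ 0 → r = l ∨ r = m := by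
    intro i l hi
    have hcard : (Finset.univ.erase l).card = 3 := by simp
    have hinj : Set.InjOn (fun m => if hm : l ≠ m then M l m hm else i)
        (↑(Finset.univ.erase l) : Set (Fin 4)) := by
      intro m hm m' hm' e
      simp only [Finset.coe_erase, Set.mem_sdiff, Set.mem_singleton_iff, Finset.coe_univ,
        Set.mem_univ, true_and] at hm hm'
      simp only [dif_pos (Ne.symm hm), dif_pos (Ne.symm hm')] at e
      by_contra hne
      obtain ⟨r, hrl, hrm, hrm'⟩ := fin4_fourth l m m'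
      refine htri r (M l m (Ne.symm hm)) fun q hq => ?_
      have : q = l ∨ q = m ∨ q = m' :=
        fin4_cover l m m' r (Ne.symm hm) (Ne.symm hm') hne hrl hrm hrm' q hq
      rcases this with rfl | rfl | rfl
      · exact hM0 _ _ _
      · rw [← hMe]; exact hM0 _ _ _
      · rw [e, ← hMe]; exact hM0 _ _ _
    have himg : (Finset.univ.erase l).image (fun m => if hm : l ≠ m then M l m hm else i) =
        supp (L l) := by
      refine Finset.eq_of_subset_of_card_le (fun k hk => ?_) ?_
      · obtain ⟨m, hm, rfl⟩ := Finset.mem_image.1 hk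
        rw [dif_pos (Finset.ne_of_mem_erase hm).symm, mem_supp]
        exact hM0 _ _ _
      · rw [Finset.card_image_of_injOn hinj, hcard, card_supp (hL l)]
    have hi' : i ∈ supp (L l) := mem_supp.2 hi
    rw [← himg, Finset.mem_image] at hi'
    obtain ⟨m, hm, he⟩ := hi'
    have hml := Finset.ne_of_mem_erase hm
    rw [dif_pos hml.symm] at he
    have hmi : L m i ≠ 0 := by rw [← he, ← hMe]; exact hM0 _ _ _
    refine ⟨m, hml, hmi, fun r hr => ?_⟩
    by_contra hc
    push Not at hc
    obtain ⟨q, hql, hqm, hqr⟩ := fin4_fourth l m r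
    refine htri q i fun u hu => ?_
    have : u = l ∨ u = m ∨ u = r :=
      fin4_cover l m r q hml.symm hc.1.symm hc.2.symm hql hqm hqr u hu
    rcases this with rfl | rfl | rfl
    exacts [hi, hmi, hr]
  -- every point lies on an even number of lines
  have heven : ∀ i, Even (∑ l, L l i) := by
    intro i
    by_cases h : ∃ l, L l i ≠ 0
    · obtain ⟨l, hl⟩ := h
      obtain ⟨m, hml, hmi, hall⟩ := hcount i l hl
      rw [← Finset.sum_subset (Finset.subset_univ {l, m}) (fun r _ hr => by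
        by_contra hne
        rcases hall r hne with rfl | rfl <;> simp at hr)]
      rw [Finset.sum_pair hml.symm]
      refine ⟨L l i, ?_⟩
      have : M l m hml.symm = i := (hMu l m hml.symm i hl hmi).symm
      rw [← this, ← hMe]
    · push Not at h
      simp [h]
  have h1 : ∑ m, ip (L m) (x 0) = 1 := by simp [hxL]
  simp only [ip] at h1
  rw [Finset.sum_comm] at h1
  simp only [← Finset.sum_mul] at h1
  have h2 : Even (1 : ℤ) := h1 ▸ Finset.even_sum _ fun i _ => (heven i).mul_right _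
  exact Int.not_even_one h2

variable {I J : Type*} [Fintype I] [Fintype J] [DecidableEq I] [DecidableEq J]

/-- All lines of a row have a common point. -/
theorem row_common {deg : ι → ℤ} (hdeg : ∀ i, deg i ≠ 0) (v : I → J → ι → ℤ)
    (hdot : ∀ i j k l, ip (v i j) (v k l) = (if i = k then 1 else 0) + (if j = l then 1 else 0) +
      (if i = k then 1 else 0) * (if j = l then 1 else 0))
    (hd : ∀ i j k l, ip (v i j) deg = ip (v k l) deg) (hI : 2 ≤ Fintype.card I)
    (hJ : 4 ≤ Fintype.card J) (i : I) : ∃ P, ∀ j, v i j P ≠ 0 := by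
  classical
  obtain ⟨k, hk⟩ := Fintype.exists_ne_of_one_lt_card (by omega : 1 < Fintype.card I) i
  have hmeet : ∀ j l, j ≠ l → Meet (v i j) (v i l) := fun j l hjl =>
    meet_of_ip hdeg (by simp [hdot]) (by simp [hdot]) (by simp [hdot, hjl]) (hd _ _ _ _)
  have hfour : ∀ e : Fin 4 ↪ J, ∃ P, ∀ n, v i (e n) P ≠ 0 := fun e =>
    four_common (fun n => v i (e n)) (fun n => v k (e n)) (fun n => by simp [hdot])
      (fun n => by simp [hdot]) (fun a b hab => hmeet _ _ (e.injective.ne hab))
      (fun a b hab => by simp [hdot, hab])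
      (fun a b => by simp [hdot, Ne.symm hk, eq_comm])
  obtain ⟨j₀, j₁, h01⟩ := Fintype.exists_pair_of_one_lt_card (by omega : 1 < Fintype.card J)
  obtain ⟨P, hP0, hP1, hPu⟩ := hmeet j₀ j₁ h01
  refine ⟨P, fun j => ?_⟩
  by_cases hj0 : j = j₀
  · subst hj0; exact hP0
  by_cases hj1 : j = j₁
  · subst hj1; rw [← hP1]; exact hP0
  obtain ⟨j₃, hj₃⟩ : ∃ j₃, j₃ ∉ ({j₀, j₁, j} : Finset J) := by
    by_contra hc
    push Not at hc
    have := Finset.card_le_card (fun x _ => hc x : Finset.univ ⊆ ({j₀, j₁, j} : Finset J))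
    have := Finset.card_le_three (a := j₀) (b := j₁) (c := j)
    simp only [Finset.card_univ] at *
    omega
  simp only [Finset.mem_insert, Finset.mem_singleton, not_or] at hj₃
  have hinj : Function.Injective (![j₀, j₁, j, j₃] : Fin 4 → J) := by
    intro a b
    fin_cases a <;> fin_cases b <;> simp_all [eq_comm]
  obtain ⟨Q, hQ⟩ := hfour ⟨_, hinj⟩
  have hQP : Q = P := hPu Q (hQ 0) (hQ 1)
  exact hQP ▸ hQ 2

theorem exists_grid {deg : ι → ℤ} (hdeg : ∀ i, deg i ≠ 0) (v : I → J → ι → ℤ)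
    (hdot : ∀ i j k l, ip (v i j) (v k l) = (if i = k then 1 else 0) + (if j = l then 1 else 0) +
      (if i = k then 1 else 0) * (if j = l then 1 else 0))
    (hd : ∀ i j k l, ip (v i j) deg = ip (v k l) deg)
    (hI : Fintype.card I = 2 ∨ 4 ≤ Fintype.card I) (hJ : 4 ≤ Fintype.card J) :
    ∃ (A : I → ι) (B : J → ι) (C : I → J → ι) (sA : I → ℤ) (sB : J → ℤ) (sC : I → J → ℤ),
      Function.Injective (Sum.elim A (Sum.elim B fun p : I × J => C p.1 p.2)) ∧
      (∀ i, sA i = 1 ∨ sA i = -1) ∧ (∀ j, sB j = 1 ∨ sB j = -1) ∧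
      (∀ i j, sC i j = 1 ∨ sC i j = -1) ∧
      ∀ i j, v i j = Pi.single (A i) (sA i) + Pi.single (B j) (sB j) +
        Pi.single (C i j) (sC i j) := by
  classical
  have h3 : ∀ i j, ip (v i j) (v i j) = 3 := fun i j => by simp [hdot]
  have hrow : ∀ {i j l}, j ≠ l → Meet (v i j) (v i l) := fun {i j l} h =>
    meet_of_ip hdeg (h3 _ _) (h3 _ _) (by simp [hdot, h]) (hd _ _ _ _)
  have hcol : ∀ {i k j}, i ≠ k → Meet (v i j) (v k j) := fun {i k j} h =>
    meet_of_ip hdeg (h3 _ _) (h3 _ _) (by simp [hdot, h]) (hd _ _ _ _)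
  choose A hA using row_common hdeg v hdot hd (by omega) hJ
  obtain ⟨i₀, i₁, hi01⟩ := Fintype.exists_pair_of_one_lt_card (by omega : 1 < Fintype.card I)
  have hB' : ∀ j, ∃ P, ∀ i, v i j P ≠ 0 := by
    rcases hI with hI | hI
    · intro j
      obtain ⟨P, hP, hPe, -⟩ := hcol (j := j) hi01
      refine ⟨P, fun i => ?_⟩
      have : i = i₀ ∨ i = i₁ := by
        by_contra hc
        push Not at hc
        have := Finset.card_le_card (Finset.subset_univ ({i, i₀, i₁} : Finset I))
        simp [hc.1, hc.2, hi01] at this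
        omega
      rcases this with rfl | rfl
      exacts [hP, hPe ▸ hP]
    · exact row_common hdeg (fun j i => v i j)
        (fun j i l k => by rw [hdot]; ring) (fun _ _ _ _ => hd _ _ _ _) (by omega) hI
  choose B hB using hB'
  obtain ⟨j₀, j₁, hj01⟩ := Fintype.exists_pair_of_one_lt_card (by omega : 1 < Fintype.card J)
  have hsame : ∀ {i j l}, v i j (A i) = v i l (A i) := fun {i j l} => by
    by_cases h : j = l
    · rw [h]
    obtain ⟨k, -, hk, hu⟩ := hrow h (i := i)
    rw [hu _ (hA i j) (hA i l), hk]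
  have hsameB : ∀ {i k j}, v i j (B j) = v k j (B j) := fun {i k j} => by
    by_cases h : i = k
    · rw [h]
    obtain ⟨q, -, hk, hu⟩ := hcol h (j := j)
    rw [hu _ (hB j i) (hB j k), hk]
  -- `A i` lies on no line of another row
  have hAout : ∀ {i k l}, k ≠ i → v k l (A i) = 0 := by
    intro i k l hki
    by_contra hx
    have hex : ∀ j, j ≠ l → ∃ q, q ≠ A i ∧ v i j q ≠ 0 ∧ v k l q ≠ 0 := by
      intro j hj
      by_contra hc
      push Not at hc
      have h0 := hdot i j k l
      rw [if_neg (Ne.symm hki), if_neg hj, ip, Finset.sum_eq_single (A i)] at h0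
      · simp only [zero_add, mul_zero] at h0
        exact mul_ne_zero (hA i j) hx h0
      · intro q _ hq
        by_cases hq0 : v i j q = 0
        · simp [hq0]
        · simp [hc q hq hq0]
      · simp
    choose q hqA hqL hqx using hex
    let g : J → ι := fun j => if hj : j ≠ l then q j hj else A i
    have hginj : Function.Injective g := by
      intro a b e
      simp only [g] at e
      split_ifs at e with ha hb hb
      · by_contra hne
        obtain ⟨r, -, -, hu⟩ := hrow hne (i := i)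
        exact hqA a ha ((hu _ (hqL a ha) (e ▸ hqL b hb)).trans (hu _ (hA i a) (hA i b)).symm)
      · exact absurd e (hqA a ha)
      · exact absurd e.symm (hqA b hb)
      · push Not at ha hb; rw [ha, hb]
    have hsub : Finset.univ.image g ⊆ supp (v k l) := by
      intro r hr
      obtain ⟨j, -, rfl⟩ := Finset.mem_image.1 hr
      simp only [g, mem_supp]
      split_ifs with hj
      · exact hqx j hj
      · exact hx
    have := Finset.card_le_card hsub
    rw [Finset.card_image_of_injective _ hginj, card_supp (h3 k l), Finset.card_univ] at this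
    omega
  have hAB : ∀ i j, A i ≠ B j := by
    intro i j e
    obtain ⟨k, hk⟩ := Fintype.exists_ne_of_one_lt_card (by omega : 1 < Fintype.card I) i
    exact hB j k (e ▸ hAout hk)
  have hBout : ∀ {i j l}, l ≠ j → v i l (B j) = 0 := by
    intro i j l hl
    by_contra hx
    obtain ⟨r, -, -, hu⟩ := hrow hl (i := i)
    exact hAB i j ((hu _ (hA i l) (hA i j)).trans (hu _ hx (hB j i)).symm)
  have hC' : ∀ i j, ∃ c, c ≠ A i ∧ c ≠ B j ∧ supp (v i j) = {A i, B j, c} := by
    intro i j
    have hsub : ({A i, B j} : Finset ι) ⊆ supp (v i j) := by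
      simp [Finset.insert_subset_iff, mem_supp, hA, hB]
    have hcard : (supp (v i j) \ {A i, B j}).card = 1 := by
      rw [Finset.card_sdiff_of_subset hsub, card_supp (h3 i j), Finset.card_pair (hAB i j)]
    obtain ⟨c, hc⟩ := Finset.card_eq_one.1 hcard
    have hm : c ∈ supp (v i j) \ {A i, B j} := by rw [hc]; exact Finset.mem_singleton_self _
    simp only [Finset.mem_sdiff, Finset.mem_insert, Finset.mem_singleton, not_or] at hm
    refine ⟨c, hm.2.1, hm.2.2, ?_⟩
    rw [← Finset.union_sdiff_of_subset hsub, hc]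
    ext r; simp
  choose C hCA hCB hCs using hC'
  have hCne : ∀ i j, v i j (C i j) ≠ 0 := fun i j => mem_supp.1 (by rw [hCs]; simp)
  have hCout : ∀ {i j k l}, (i, j) ≠ (k, l) → v k l (C i j) = 0 := by
    intro i j k l hne
    by_contra hx
    by_cases hik : i = k
    · subst hik
      have hjl : j ≠ l := fun h => hne (by rw [h])
      obtain ⟨r, -, -, hu⟩ := hrow hjl (i := i)
      exact hCA i j ((hu _ (hCne i j) hx).trans (hu _ (hA i j) (hA i l)).symm)
    by_cases hjl : j = l
    · subst hjl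
      obtain ⟨r, -, -, hu⟩ := hcol hik (j := j)
      exact hCB i j ((hu _ (hCne i j) hx).trans (hu _ (hB j i) (hB j k)).symm)
    have h0 := hdot i j k l
    rw [if_neg hik, if_neg hjl, ip_triple (hCs i j) (hAB i j) (hCA i j).symm (hCB i j).symm,
      hAout (Ne.symm hik), hBout (Ne.symm hjl)] at h0
    simp only [mul_zero, zero_add] at h0
    exact mul_ne_zero (hCne i j) hx h0
  refine ⟨A, B, C, fun i => v i j₀ (A i), fun j => v i₀ j (B j), fun i j => v i j (C i j), ?_,
    ?_, ?_, ?_, ?_⟩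
  · rintro (i | j | ⟨i, j⟩) (k | l | ⟨k, l⟩) e <;> simp only [Sum.elim_inl, Sum.elim_inr] at e
    · rw [show i = k from by_contra fun h => hA k j₀ (e ▸ hAout (Ne.symm h))]
    · exact absurd e (hAB i l)
    · by_cases h : k = i
      · subst h; exact absurd e.symm (hCA k l)
      · exact absurd (e ▸ hAout h) (hCne k l)
    · exact absurd e.symm (hAB k j)
    · rw [show j = l from by_contra fun h => hB l i₀ (e ▸ hBout (Ne.symm h))]
    · by_cases h : l = j
      · subst h; exact absurd e.symm (hCB k l)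
      · exact absurd (e ▸ hBout h) (hCne k l)
    · by_cases h : i = k
      · subst h; exact absurd e (hCA i j)
      · exact absurd (e ▸ hAout h) (hCne i j)
    · by_cases h : j = l
      · subst h; exact absurd e (hCB i j)
      · exact absurd (e ▸ hBout h) (hCne i j)
    · rw [show (i, j) = (k, l) from by_contra fun h => hCne k l (e ▸ hCout h)]
  · intro i
    rcases unit_of_three (h3 i j₀) (A i) with h | h | h
    exacts [Or.inr h, absurd h (hA i j₀), Or.inl h]
  · intro j
    rcases unit_of_three (h3 i₀ j) (B j) with h | h | h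
    exacts [Or.inr h, absurd h (hB j i₀), Or.inl h]
  · intro i j
    rcases unit_of_three (h3 i j) (C i j) with h | h | h
    exacts [Or.inr h, absurd h (hCne i j), Or.inl h]
  · intro i j
    funext r
    simp only [Pi.add_apply]
    rcases eq_or_ne r (A i) with rfl | h1
    · simp [hAB i j, (hCA i j).symm, hsame (j := j) (l := j₀)]
    rcases eq_or_ne r (B j) with rfl | h2
    · simp [(hAB i j).symm, (hCB i j).symm, hsameB (i := i) (k := i₀)]
    rcases eq_or_ne r (C i j) with rfl | h3'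
    · simp [hCA i j, hCB i j]
    have : r ∉ supp (v i j) := by rw [hCs]; simp [h1, h2, h3']
    rw [mem_supp, not_not] at this
    simp [h1, h2, h3', this]

end CfsgLib.OddChar.GridThree
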