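import Cfsg.Agent.Lib.OddChar.TameEmbedding
import Cfsg.Agent.Lib.OddChar.FrobKernelHall
import Cfsg.Agent.S1376
import Cfsg.Agent.S1381

/-!
Theorem II of Bender-Glauberman section 16 for `A(M)` and `A₀(M)`, given that the `κ`-free maximal
subgroups are Frobenius groups (Peterfalvi (12.7)); the supporting subgroups are then of type II.
-/

set_option autoImplicit false
set_option linter.style.haveILetI false

namespace CfsgLib.OddChar.MaxTypes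

open Subgroup CfsgLib.OddOrder

variable {G : Type*} [Group G] [Finite G] (hG : Cfsg.IsMinSimpleOddOrder G) {M : Subgroup G}
  (hM : IsCoatom M)
omit [Finite G] in
/-- A supporting subgroup has a prime in `κ`. -/
theorem kappa_ne_empty_of_mem_sigmaHat
    (hfrob : ∀ L : Subgroup G, IsCoatom L → Cfsg.kappa L = ∅ → ∀ y ∈ Cfsg.sigmaCore L, y ≠ 1 →
      L ⊓ centralizer ({y} : Set G) ≤ Cfsg.sigmaCore L)
    {L : Subgroup G} (hL : IsCoatom L) {x : G} (hx : x ∈ Cfsg.sigmaHat L)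
    (hxS : x ∉ Cfsg.sigmaCore L) : Cfsg.kappa L ≠ ∅ := fun h => by
  obtain ⟨hxL, y, hy, hy1, hxy⟩ := hx
  exact hxS (hfrob L hL h y hy hy1 ⟨hxL, mem_centralizer_singleton_iff.2 hxy⟩)

include hG hM

theorem tame_embedding_of_frob
    (hfrob : ∀ L : Subgroup G, IsCoatom L → Cfsg.kappa L = ∅ → ∀ y ∈ Cfsg.sigmaCore L, y ≠ 1 →
      L ⊓ centralizer ({y} : Set G) ≤ Cfsg.sigmaCore L)
    {X : Set G} (hX : X = Cfsg.typeA M ∨ X = Cfsg.typeA0 M) :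
    (∀ x ∈ X, ∀ g : G, g * x * g⁻¹ ∈ X → ∃ m ∈ M, m * x * m⁻¹ = g * x * g⁻¹) ∧
      (∀ x ∈ X, ¬ Subgroup.centralizer ({x} : Set G) ≤ M → x ∈ Cfsg.typeA1 M ∧ ∃! L : Subgroup G, IsCoatom L ∧ Subgroup.centralizer ({x} : Set G) ≤ L) ∧
      ∀ x ∈ X, ¬ Subgroup.centralizer ({x} : Set G) ≤ M → ∀ L : Subgroup G, IsCoatom L → Subgroup.centralizer ({x} : Set G) ≤ L →
        Cfsg.IsComplIn (Cfsg.fittingHallOf L) (M ⊓ L) L ∧
        Subgroup.centralizer ({x} : Set G) ≤ Subgroup.normalizer ((Cfsg.fittingHallOf L ⊓ Subgroup.centralizer ({x} : Set G) : Subgroup G) : Set G) ∧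
        Cfsg.IsComplIn (Cfsg.fittingHallOf L ⊓ Subgroup.centralizer ({x} : Set G)) (M ⊓ Subgroup.centralizer ({x} : Set G)) (Subgroup.centralizer ({x} : Set G)) ∧
        (∀ y ∈ X, (Nat.card (Cfsg.fittingHallOf L)).Coprime (Nat.card ↥(M ⊓ Subgroup.centralizer ({y} : Set G)))) ∧
        (x ∈ Cfsg.typeA L ∧ x ∉ Cfsg.typeA1 L) ∧
        (Cfsg.IsOfTypeI L ∨ Cfsg.IsOfTypeII L) ∧
        (Cfsg.IsOfTypeII L → ∃ E : Subgroup ↥M, Cfsg.IsFrobeniusComplement E ∧ Cfsg.frobeniusKernel E = ((Cfsg.fittingHall ↥M : Subgroup ↥M) : Set ↥M)) := by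
  obtain ⟨K, U, hKU⟩ := exists_decomposition hG hM
  have hX0 : ∀ x ∈ X, x ∈ Cfsg.typeA0 M := fun x hx => by
    rcases hX with rfl | rfl
    · exact Or.inl hx
    · exact hx
  refine ⟨fun x hx g hgx => fusion hG hM hKU (hX0 x hx) (hX0 _ hgx), fun x hx hC => ?_,
    fun x hx hC L hL hCL => ?_⟩
  · obtain ⟨L, hL, hCL, huniq, -⟩ := supporting hG hM hKU (hX0 x hx) hC
    exact ⟨mem_typeA1_of_not_le hG hM hKU (hX0 x hx) hC, L, ⟨hL, hCL⟩,
      fun L' h => huniq L' h.1 h.2⟩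
  obtain ⟨N, hN, hCN, huniq, hF, -, hn, hR, hE, hd⟩ := supporting hG hM hKU (hX0 x hx) hC
  obtain rfl := huniq L hL hCL
  obtain ⟨K', U', hKU'⟩ := exists_decomposition hG hL
  obtain ⟨hU', hxA, hxS⟩ := hd K' U' hKU'
  obtain ⟨p, hp⟩ := Set.nonempty_iff_ne_empty.2
    (kappa_ne_empty_of_mem_sigmaHat hfrob hL hxA.1 hxS)
  have hK' : K' ≠ ⊥ := fun h => hKU'.hall.2.2 p hp.1 hp (by
    rw [h, relIndex_bot_left]; exact hp.2.1)
  have hx1 : x ≠ 1 := fun e => one_notMem_typeA0 (e ▸ hX0 x hx)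
  have hxM : x ∈ Cfsg.sigmaCore M :=
    (mem_typeA1_iff hG hM hKU (hX0 x hx)).1 (mem_typeA1_of_not_le hG hM hKU (hX0 x hx) hC)
  rw [← hF]
  refine ⟨isComplIn_swap hE (inf_le_right.trans (le_normalizer_piCoreOf (Cfsg.sigma L) L)), hn,
    isComplIn_swap hR (inf_le_right.trans hn),
    fun y hy => coprime_supporting hG hM hKU (hX0 x hx) hC hL hCL (hX0 y hy),
    ⟨(mem_typeA_iff hG hL hKU' (Or.inr hK')).2 ⟨hxA, hx1⟩, fun h => hxS ?_⟩,
    Or.inr ((Cfsg.Agent.S1381.result hG L hL K' U' hKU').2 ⟨hK', hU'⟩), fun _ => ?_⟩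
  · rw [typeA1_eq hG hL hKU'] at h
    exact h.1
  · obtain ⟨-, ⟨E, hEc, -⟩, -⟩ :=
      Cfsg.Agent.S1376.result hG M hM x hxM hx1 hC L hL hCL ⟨p, hp⟩
    exact ⟨E, hEc, FrobKernelHall.frobeniusKernel_eq_fittingHall hEc⟩

end CfsgLib.OddChar.MaxTypes
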